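import Mathlib
import Cfsg.Agent.UGT.I34.OnCode_m3
import Cfsg.Agent.UGT.U2.FOne.NatJ_m3
import Cfsg.Agent.OddHalf.LongSL.Tw_m3
import Cfsg.Agent.UGT.Parity_m3
import Cfsg.Agent.FixBN.WittNodeD_m3
import Cfsg.Agent.Intrinsic.TypeGTwo_m3
import Cfsg.Agent.Intrinsic.OddQuot
import Cfsg.Agent.OddHalf.D9.DoubleKill_m3
import Cfsg.Agent.McLLyComp.Act
import Cfsg.Agent.Intrinsic.Basic
import Cfsg.Agent.Intrinsic.NZTransfer_m3
import Cfsg.Agent.GH.L2AutSyl_m3
import Cfsg.Agent.LieRecognition.FieldSemilinear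
import Cfsg.Agent.UGT.I34.Cov_m3
import Cfsg.Agent.LFourR.FixTorus_m3
import Cfsg.Agent.UAlt.SmallTools_m3
import Cfsg.Agent.UGT.End_m3
import Cfsg.Agent.UAlt.FourConj_m3
import Cfsg.Agent.FastGrp
import Cfsg.Agent.Prune
set_option linter.all false

section
prune_inst 0x7f00000000000000000000000000000000000000000000000000000000000000000000000000000000000000000000000000000000000000000000000000000000000000000000000000000000000000003fffffffffffffffffffffffffffaeffbdffffffff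

section
prune_inst 0xffecfbbbfcfddfdfff7fffffdfdffdfdb97fffe6fffdcbffe2efff1bff4f8acdcffbad8fea92fe1ff7629414f87b53fdffeeffeb6fdc7ffffd5ff41ffbff8ffdf7b50851dd8cb40fbe2fff03f0778e7f000000000000000000000000000000004200000000

-- part: UGT/U2/FOne/PSUPlane
section
prune_inst 0x104000200000000000000000000020200000000000000000000000010100000000000102100000009000000000000001000000020000000a000000000400000000000000000000000000000000000000000000000000000000000000000000000000000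
set_option linter.all false
open scoped Cfsg.Agent.FastGrp

-- part: UGT/U2/FOne/PSUEig
section
/-!
# (f1) for `PSU_n(q)`: the linear involutions

`Lin.main` : `T` linear with `T² = μ`, not a scalar; `S` a semi-isometry of odd order modulo scalars, commuting with `T`
modulo scalars and with the `p`-elements of `C(T)`, not a scalar: then `S` is linear and there is a nondegenerate plane
spanned by common eigenvectors `e`, `f` of `T` and `S`, not a scalar space of `S`.
-/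

set_option autoImplicit false
set_option linter.unusedSectionVars false

namespace Cfsg.Agent.UGT.U2.FOne.PSU

open Cfsg Cfsg.Agent.LieClassical.HermBasic Cfsg.Agent.LieClassical.HermSiegel
  Cfsg.Agent.LieClassical.HermGen Cfsg.Agent.LieClassical.SUBasic Matrix
  Cfsg.Agent.ClassicalGeometry.PSUAutBasic Cfsg.Agent.ClassicalGeometry.HermOrtho Module

variable {F : Type*} [Field F] [Fintype F] {q n : ℕ}

/-- A semilinear map fixing all lines of a space of dimension at least two is a scalar. -/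
theorem scalar_of_lines {τ : F ≃+* F} (W : Submodule F (Fin n → F)) (hk : 2 ≤ finrank F W)
    {S : (Fin n → F) → (Fin n → F)} (hadd : ∀ u v, S (u + v) = S u + S v)
    (hsmul : ∀ (c : F) v, S (c • v) = τ c • S v) (hinj : ∀ v, S v = 0 → v = 0)
    (hl : ∀ u ∈ W, ∃ c : F, S u = c • u) :
    τ = 1 ∧ ∃ c : F, ∀ v ∈ W, S v = c • v := by
  obtain ⟨w1, hw1, hw10⟩ : ∃ w ∈ W, w ≠ 0 := by
    by_contra hcon
    push Not at hcon
    have : W = ⊥ := by rw [Submodule.eq_bot_iff]; exact hcon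
    rw [this, finrank_bot] at hk
    omega
  obtain ⟨w2, hw2, hw2s⟩ : ∃ w ∈ W, w ∉ Submodule.span F {w1} := by
    by_contra hcon
    push Not at hcon
    have h1 : finrank F W ≤ finrank F (Submodule.span F {w1}) := Submodule.finrank_mono hcon
    have h2 := finrank_span_singleton (K := F) hw10
    omega
  obtain ⟨c, hc⟩ := hl w1 hw1
  have hout : ∀ w ∈ W, w ∉ Submodule.span F {w1} → S w = c • w := by
    intro w hw hws
    obtain ⟨c', hc'⟩ := hl w hw
    obtain ⟨c'', hc''⟩ := hl (w1 + w) (W.add_mem hw1 hw)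
    rw [hadd, hc, hc'] at hc''
    have h1 : (c' - c'') • w = (c'' - c) • w1 := by
      have : c • w1 + c' • w - c'' • (w1 + w) = 0 := by rw [hc'', sub_self]
      have h2 : (c' - c'') • w - (c'' - c) • w1 = 0 := by
        rw [← this]
        module
      exact sub_eq_zero.1 h2
    have h2 : c' = c'' := by
      by_contra hne
      apply hws
      have h3 : w = ((c' - c'')⁻¹ * (c'' - c)) • w1 := by
        rw [← smul_smul, ← h1, smul_smul, inv_mul_cancel₀ (sub_ne_zero.2 hne), one_smul]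
      rw [h3]
      exact Submodule.smul_mem _ _ (Submodule.mem_span_singleton_self _)
    rw [h2, sub_self, zero_smul] at h1
    rcases smul_eq_zero.1 h1.symm with h3 | h3
    · rw [hc', h2, sub_eq_zero.1 h3]
    · exact absurd h3 hw10
  have hall : ∀ w ∈ W, S w = c • w := by
    intro w hw
    by_cases hws : w ∈ Submodule.span F {w1}
    · have h1 : w + w2 ∉ Submodule.span F {w1} := by
        intro h
        apply hw2s
        have := Submodule.sub_mem _ h hws
        rwa [add_sub_cancel_left] at this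
      have h2 := hout _ (W.add_mem hw hw2) h1
      rw [hadd, hout _ hw2 hw2s, smul_add] at h2
      exact add_right_cancel h2
    · exact hout w hw hws
  refine ⟨?_, c, hall⟩
  have hc0 : c ≠ 0 := by
    rintro rfl
    rw [zero_smul] at hc
    exact hw10 (hinj _ hc)
  ext a
  have h1 := hall (a • w1) (W.smul_mem _ hw1)
  rw [hsmul, hc, smul_smul, smul_smul] at h1
  have h2 : (τ a * c - c * a) • w1 = 0 := by rw [sub_smul, h1, sub_self]
  rcases smul_eq_zero.1 h2 with h3 | h3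
  · change τ a = a
    apply mul_left_cancel₀ hc0
    linear_combination h3
  · exact absurd h3 hw10

/-- The eigenspace of a linear map `T`. -/
def eig {T : (Fin n → F) → (Fin n → F)} (hadd : ∀ u v, T (u + v) = T u + T v)
    (hsmul : ∀ (c : F) v, T (c • v) = c • T v) (ν : F) : Submodule F (Fin n → F) where
  carrier := {v | T v = ν • v}
  add_mem' {u v} hu hv := by
    change T (u + v) = ν • (u + v)
    rw [hadd, smul_add]
    exact congrArg₂ _ hu hv
  zero_mem' := by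
    change T 0 = ν • 0
    have := hsmul 0 0
    rw [zero_smul, zero_smul] at this
    rw [this, smul_zero]
  smul_mem' c v hv := by
    change T (c • v) = ν • (c • v)
    rw [hsmul, smul_comm]
    exact congrArg _ hv

/-- The situation: `ν² = T²`. -/
structure Lin (q p m : ℕ) (α β : MulAut (PSU n F q)) (T S : (Fin n → F) → (Fin n → F)) (τ : F ≃+* F) (ν c ν' : F) :
    Prop where
  hF : Fintype.card F = q ^ 2
  hn : 3 ≤ n
  two : (2 : F) ≠ 0
  rT : Rep α T 1
  rS : Rep β S τ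
  ne : ν ≠ 0
  TT : ∀ v, T (T v) = (ν * ν) • v
  Tne : ∀ a : F, ∃ v, T v ≠ a • v
  ST : ∀ v, S (T v) = c • T (S v)
  odd : Odd m
  tau : τ ^ m = 1
  ne' : ν' ≠ 0
  pow : ∀ v, S^[m] v = ν' • v
  Sne : ∀ a : F, ∃ v, S v ≠ a • v
  fix : Fixing q p T S

namespace Lin

variable {p m : ℕ} [Fact p.Prime] [CharP F p] {α β : MulAut (PSU n F q)} {T S : (Fin n → F) → (Fin n → F)}
  {τ : F ≃+* F} {ν c ν' : F}

section

variable (h : Lin q p m α β T S τ ν c ν')

include h

theorem smulT (a : F) (v : Fin n → F) : T (a • v) = a • T v := h.rT.smul a v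

/-- the eigenspace of `T` for `ε` -/
def E (ε : F) : Submodule F (Fin n → F) := eig h.rT.add h.smulT ε

theorem mem {ε : F} {v : Fin n → F} : v ∈ h.E ε ↔ T v = ε • v := Iff.rfl

theorem comm (v : Fin n → F) : S (ν⁻¹ • T v) = ν⁻¹ • T (S v) := by
  set c' : F := (τ ν)⁻¹ * c * ν with hc'
  have h1 : ∀ v, S (ν⁻¹ • T v) = c' • (ν⁻¹ • T (S v)) := by
    intro v
    rw [h.rS.smul, h.ST, smul_smul, smul_smul, map_inv₀, hc']
    congr 1
    field_simp [h.ne]
  have hTT : ∀ v, ν⁻¹ • T (ν⁻¹ • T v) = v := by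
    intro v
    rw [h.smulT, smul_smul, h.TT, smul_smul]
    have : ν⁻¹ * ν⁻¹ * (ν * ν) = 1 := by field_simp [h.ne]
    rw [this, one_smul]
  -- `c'² = 1`
  obtain ⟨v0, hv0⟩ : ∃ v0 : Fin n → F, v0 ≠ 0 := ⟨Pi.single ⟨0, by have := h.hn; omega⟩ 1, by simp⟩
  have hS0 : ∀ v, S v = 0 → v = 0 := fun v hv => h.rS.inj h.hF (by rw [hv, h.rS.zero])
  have hcc : c' * c' = 1 := by
    have h2 : S v0 = (c' * c') • S v0 := by
      conv_lhs => rw [← hTT v0, h1, h1]
      rw [h.smulT, smul_smul, smul_comm, h.smulT] 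
      have := hTT (S v0)
      rw [h.smulT, smul_smul] at this
      rw [smul_smul, smul_smul]
      rw [show c' * (c' * ν⁻¹) * ν⁻¹ = (c' * c') * (ν⁻¹ * ν⁻¹) by ring, ← smul_smul, this]
    have h3 : (1 - c' * c') • S v0 = 0 := by rw [sub_smul, one_smul, ← h2, sub_self]
    rcases smul_eq_zero.1 h3 with h4 | h4
    · exact (sub_eq_zero.1 h4).symm
    · exact absurd (hS0 _ h4) hv0
  have hc1 : c' = 1 ∨ c' = -1 := mul_self_eq_one_iff.1 hcc
  rcases hc1 with hc1 | hc1
  · rw [h1, hc1, one_smul]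
  · exfalso
    have h2 : ∀ k : ℕ, ∀ v, S^[k] (ν⁻¹ • T v) = ((-1 : F) ^ k) • (ν⁻¹ • T (S^[k] v)) := by
      intro k
      induction k with
      | zero => intro v; simp
      | succ k ih =>
        intro v
        rw [Function.iterate_succ_apply', ih, h.rS.smul, map_pow, map_neg, map_one, h1, hc1,
          Function.iterate_succ_apply', smul_smul, pow_succ]
    have h3 := h2 m v0
    rw [h.pow, h.pow, h.odd.neg_one_pow, h.smulT] at h3
    have h4 : (2 : F) • (ν' • ν⁻¹ • T v0) = 0 := by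
      have e : (2 : F) • (ν' • ν⁻¹ • T v0) = ν' • ν⁻¹ • T v0 + ν' • ν⁻¹ • T v0 := by module
      rw [e]
      nth_rewrite 1 [h3]
      module
    rcases smul_eq_zero.1 h4 with h5 | h5
    · exact h.two h5
    rcases smul_eq_zero.1 h5 with h6 | h6
    · exact h.ne' h6
    rcases smul_eq_zero.1 h6 with h7 | h7
    · exact inv_ne_zero h.ne h7
    · apply hv0
      exact h.rT.inj h.hF (by rw [h7, h.rT.zero])

theorem S_mem {ε : F} (hε : ε = ν ∨ ε = -ν) {v : Fin n → F} (hv : v ∈ h.E ε) : S v ∈ h.E ε := by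
  rw [h.mem] at hv ⊢
  have h1 := h.comm v
  rw [hv, smul_smul] at h1
  have h2 : T (S v) = ν • (ν⁻¹ • T (S v)) := by rw [smul_smul, mul_inv_cancel₀ h.ne, one_smul]
  rcases hε with rfl | rfl
  · rw [inv_mul_cancel₀ h.ne, one_smul] at h1
    rw [h2, ← h1]
  · have h3 : ν⁻¹ * -ν = -1 := by field_simp [h.ne]
    rw [h3, neg_one_smul, h.rS.neg] at h1
    rw [h2, ← h1, smul_neg, neg_smul]

/-- decomposition -/
theorem decomp (v : Fin n → F) : ∃ a ∈ h.E ν, ∃ b ∈ h.E (-ν), v = a + b := by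
  have h2 := h.two
  refine ⟨(2 : F)⁻¹ • (v + ν⁻¹ • T v), ?_, (2 : F)⁻¹ • (v - ν⁻¹ • T v), ?_, ?_⟩
  · rw [h.mem, h.smulT, h.rT.add, h.smulT, h.TT, smul_smul ν⁻¹]
    have e1 : ν⁻¹ * (ν * ν) = ν := by field_simp [h.ne]
    have e2 : ν • ((2 : F)⁻¹ • (v + ν⁻¹ • T v)) = (2 : F)⁻¹ • (ν • v + (ν * ν⁻¹) • T v) := by module
    rw [e1, e2, mul_inv_cancel₀ h.ne, one_smul, add_comm]
  · rw [h.mem, h.smulT, h.rT.sub, h.smulT, h.TT, smul_smul ν⁻¹]
    have e1 : ν⁻¹ * (ν * ν) = ν := by field_simp [h.ne]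
    have e2 : (-ν) • ((2 : F)⁻¹ • (v - ν⁻¹ • T v)) = (2 : F)⁻¹ • ((ν * ν⁻¹) • T v - ν • v) := by module
    rw [e1, e2, mul_inv_cancel₀ h.ne, one_smul]
  · have : (2 : F)⁻¹ * 2 = 1 := inv_mul_cancel₀ h2
    calc v = ((2 : F)⁻¹ * 2) • v := by rw [this, one_smul]
      _ = _ := by module

theorem disj {v : Fin n → F} (h1 : v ∈ h.E ν) (h2 : v ∈ h.E (-ν)) : v = 0 := by
  rw [h.mem] at h1 h2
  rw [h1] at h2
  have h3 : (2 * ν) • v = 0 := by
    have : (2 * ν) • v = ν • v + ν • v := by module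
    rw [this]
    nth_rewrite 1 [h2]
    module
  rcases smul_eq_zero.1 h3 with h4 | h4
  · exact absurd h4 (mul_ne_zero h.two h.ne)
  · exact h4

theorem isCompl : IsCompl (h.E ν) (h.E (-ν)) := by
  constructor
  · rw [Submodule.disjoint_def]
    exact fun v h1 h2 => h.disj h1 h2
  · rw [codisjoint_iff, Submodule.eq_top_iff']
    intro v
    obtain ⟨a, ha, b, hb, rfl⟩ := h.decomp v
    exact Submodule.add_mem_sup ha hb

theorem finrank_add : finrank F (h.E ν) + finrank F (h.E (-ν)) = n := by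
  rw [Submodule.finrank_add_eq_of_isCompl h.isCompl, finrank_fin_fun]

/-- the sign-swapped situation -/
theorem swap : Lin q p m α β T S τ (-ν) c ν' :=
  { hF := h.hF, hn := h.hn, two := h.two, rT := h.rT, rS := h.rS, ne := neg_ne_zero.2 h.ne
    TT := fun v => by rw [neg_mul_neg]; exact h.TT v
    Tne := h.Tne, ST := h.ST, odd := h.odd, tau := h.tau, ne' := h.ne', pow := h.pow, Sne := h.Sne, fix := h.fix }

theorem ne_bot : h.E ν ≠ ⊥ := by
  intro hb
  obtain ⟨v, hv⟩ := h.Tne (-ν)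
  obtain ⟨a, ha, b, hb', rfl⟩ := h.decomp v
  rw [hb, Submodule.mem_bot] at ha
  rw [ha, zero_add] at hv
  exact hv hb'

end

end Lin

end Cfsg.Agent.UGT.U2.FOne.PSU
end

-- part: UGT/U2/FOne/PSUPair
section
/-!
# (f1) for `PSU_n(q)`: the plane

`Lin.main` : `T` linear with `T² = ν²`, not a scalar; `S` a semi-isometry of odd order modulo scalars, commuting with
`T` modulo scalars and with the `p`-elements of `C(T)`, not a scalar: then `S` is linear and there is a nondegenerate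
plane spanned by common eigenvectors `e`, `f` of `T` and `S`, not a scalar space of `S`.
-/

set_option autoImplicit false
set_option linter.unusedSectionVars false

namespace Cfsg.Agent.UGT.U2.FOne.PSU

open Cfsg Cfsg.Agent.LieClassical.HermBasic Cfsg.Agent.LieClassical.HermSiegel
  Cfsg.Agent.LieClassical.HermGen Cfsg.Agent.LieClassical.SUBasic Matrix
  Cfsg.Agent.ClassicalGeometry.PSUAutBasic Cfsg.Agent.ClassicalGeometry.HermOrtho Module

variable {F : Type*} [Field F] [Fintype F] {q n : ℕ}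

/-- the conclusion: a nondegenerate plane of common eigenvectors -/
def Plane (q : ℕ) (T S : (Fin n → F) → (Fin n → F)) : Prop :=
  ∃ (e f : Fin n → F) (s t a b : F), T e = s • e ∧ T f = t • f ∧ S e = a • e ∧ S f = b • f ∧ a ≠ b ∧
    hermForm n F q e e * hermForm n F q f f - hermForm n F q e f * hermForm n F q f e ≠ 0

namespace Lin

variable {p m : ℕ} [Fact p.Prime] [CharP F p] {α β : MulAut (PSU n F q)} {T S : (Fin n → F) → (Fin n → F)}
  {τ : F ≃+* F} {ν c ν' : F}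

section

variable (h : Lin q p m α β T S τ ν c ν')

include h

theorem S_zero {v : Fin n → F} (hv : S v = 0) : v = 0 := h.rS.inj h.hF (by rw [hv, h.rS.zero])

/-- the form on eigenvectors -/
theorem herm_eig {s t : F} {u v : Fin n → F} (hu : T u = s • u) (hv : T v = t • v) :
    hermForm n F q u v = s * t ^ q * hermForm n F q u v := by
  have h1 := h.rT.herm u v
  rw [hu, hv, herm_smul_left, herm_smul_right] at h1
  change _ = hermForm n F q u v at h1
  rw [← mul_assoc] at h1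
  exact h1.symm

theorem herm_right {t : F} (ht : t * t ^ q = 1 ∨ t * t ^ q = -1) {u v : Fin n → F} (hu : T u = t • u) :
    hermForm n F q (T v) u = (t * t ^ q) * t * hermForm n F q v u := by
  have h1 := h.rT.herm v u
  rw [hu, herm_smul_right] at h1
  change _ = hermForm n F q v u at h1
  rw [← h1]
  have h2 : (t * t ^ q) * (t * t ^ q) = 1 := by rcases ht with ht | ht <;> rw [ht] <;> ring
  linear_combination (-hermForm n F q (T v) u) * h2

/-- `ν ν^q = ± 1` -/
theorem norm : ν * ν ^ q = 1 ∨ ν * ν ^ q = -1 := by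
  obtain ⟨u, hu⟩ : ∃ u : Fin n → F, u ≠ 0 := ⟨Pi.single ⟨0, by have := h.hn; omega⟩ 1, by simp⟩
  obtain ⟨v, hv⟩ := exists_herm_ne_zero h.hF hu
  have h1 := h.rT.herm (T u) (T v)
  rw [h.TT, h.TT, herm_smul_left, herm_smul_right] at h1
  change _ = hermForm n F q (T u) (T v) at h1
  rw [h.rT.herm u v] at h1
  change _ = hermForm n F q u v at h1
  apply mul_self_eq_one_iff.1
  apply mul_right_cancel₀ hv
  rw [one_mul]
  rw [mul_pow] at h1
  linear_combination h1

/-! ### Case A: `ν ν^q = 1` -/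

section A

variable (hA : ν * ν ^ q = 1)

include hA

theorem perp {u v : Fin n → F} (hu : u ∈ h.E ν) (hv : v ∈ h.E (-ν)) : hermForm n F q u v = 0 := by
  have h1 := h.herm_eig hu hv
  rw [neg_pow_q h.hF] at h1
  have h2 : (2 : F) * hermForm n F q u v = 0 := by linear_combination h1 - hermForm n F q u v * hA
  rcases mul_eq_zero.1 h2 with h3 | h3
  · exact absurd h3 h.two
  · exact h3

theorem nondeg : ∀ u ∈ h.E ν, (∀ v ∈ h.E ν, hermForm n F q u v = 0) → u = 0 := by
  intro u hu hu0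
  refine herm_nondeg h.hF fun v => ?_
  obtain ⟨a, ha, b, hb, rfl⟩ := h.decomp v
  rw [herm_add_right h.hF, hu0 a ha, h.perp hA hu hb, add_zero]

theorem eigen_iso {u : Fin n → F} (hu : u ∈ h.E ν) (hu0 : u ≠ 0) (huu : hermForm n F q u u = 0) :
    ∃ c : F, S u = c • u ∧ ∀ lam : F, lam + lam ^ q = 0 → τ lam * (c * c ^ q) = lam := by
  refine eigen_transv (T := T) h.hF h.rS h.fix huu hu0 fun lam _ v => ?_
  rw [h.rT.add, h.smulT, hu, h.herm_right (Or.inl hA) hu, hA, one_mul, smul_smul]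
  congr 2
  ring

/-- If `dim E ν ≥ 2` then `S` is linear and a scalar on `E ν`. -/
theorem big (hk : 2 ≤ finrank F (h.E ν)) : τ = 1 ∧ ∃ c : F, ∀ v ∈ h.E ν, S v = c • v := by
  obtain ⟨u, hu, hu0, huu⟩ := exists_iso h.hF (h.E ν) (h.nondeg hA) hk
  obtain ⟨c, -, hc⟩ := h.eigen_iso hA hu hu0 huu
  have hτ : τ = 1 := field_of_trace h.hF hc h.odd h.tau
  refine ⟨hτ, scalar_of_iso h.hF h.two (h.E ν) (h.nondeg hA) hk h.rS.add (fun c v => ?_) fun u hu huu => ?_⟩
  · rw [h.rS.smul, hτ]; rfl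
  · by_cases hu0 : u = 0
    · exact ⟨0, by rw [hu0, h.rS.zero, smul_zero]⟩
    · obtain ⟨c, hc, -⟩ := h.eigen_iso hA hu hu0 huu
      exact ⟨c, hc⟩

theorem plane_of_big (hk : 2 ≤ finrank F (h.E ν)) : τ = 1 ∧ Plane q T S := by
  have hA' : (-ν) * (-ν) ^ q = 1 := by rw [neg_pow_q h.hF, neg_mul_neg, hA]
  obtain ⟨hτ, a, ha⟩ := h.big hA hk
  refine ⟨hτ, ?_⟩
  obtain ⟨b, hb⟩ : ∃ b : F, ∀ v ∈ h.E (-ν), S v = b • v := by
    by_cases hk' : 2 ≤ finrank F (h.E (-ν))
    · exact (h.swap.big hA' hk').2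
    · have h1 : finrank F (h.E (-ν)) ≤ 1 := by omega
      obtain ⟨w, hw⟩ := finrank_le_one_iff.1 h1
      have hwm := h.S_mem (Or.inr rfl) w.2
      obtain ⟨b, hb⟩ := hw ⟨S w, hwm⟩
      have hb' : b • (w : Fin n → F) = S w := congrArg Subtype.val hb
      refine ⟨b, fun v hv => ?_⟩
      obtain ⟨r, hr⟩ := hw ⟨v, hv⟩
      have hr' : r • (w : Fin n → F) = v := congrArg Subtype.val hr
      have hτr : τ r = r := by rw [hτ]; rfl
      rw [← hr', h.rS.smul, hτr, ← hb', smul_comm]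
  obtain ⟨e, he, hee⟩ := exists_norm_one_vector h.hF (h.E ν) (h.nondeg hA) h.ne_bot
  obtain ⟨f, hf, hff⟩ := exists_norm_one_vector h.hF (h.E (-ν)) (h.swap.nondeg hA') h.swap.ne_bot
  refine ⟨e, f, ν, -ν, a, b, he, hf, ha e he, hb f hf, ?_, ?_⟩
  · intro hab
    obtain ⟨v, hv⟩ := h.Sne a
    obtain ⟨x, hx, y, hy, rfl⟩ := h.decomp v
    apply hv
    rw [h.rS.add, ha x hx, hb y hy, hab, smul_add]
  · rw [hee, hff, h.perp hA he hf, zero_mul, sub_zero, one_mul]
    exact one_ne_zero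

theorem plane_A : τ = 1 ∧ Plane q T S := by
  have hA' : (-ν) * (-ν) ^ q = 1 := by rw [neg_pow_q h.hF, neg_mul_neg, hA]
  by_cases hk : 2 ≤ finrank F (h.E ν)
  · exact h.plane_of_big hA hk
  · have h1 := h.finrank_add
    have h2 := h.hn
    exact h.swap.plane_of_big hA' (show 2 ≤ finrank F (h.E (-ν)) by omega)

end A

/-! ### Case B: `ν ν^q = -1` -/

section B

variable (hB : ν * ν ^ q = -1)

include hB

theorem ti {u v : Fin n → F} (hu : u ∈ h.E ν) (hv : v ∈ h.E ν) : hermForm n F q u v = 0 := by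
  have h1 := h.herm_eig hu hv
  have h2 : (2 : F) * hermForm n F q u v = 0 := by linear_combination h1 + hermForm n F q u v * hB
  rcases mul_eq_zero.1 h2 with h3 | h3
  · exact absurd h3 h.two
  · exact h3

theorem exists_dual {u : Fin n → F} (hu : u ∈ h.E ν) (hu0 : u ≠ 0) :
    ∃ v ∈ h.E (-ν), hermForm n F q v u ≠ 0 := by
  obtain ⟨w, hw⟩ := exists_herm_ne_zero h.hF hu0
  obtain ⟨a, ha, b, hb, rfl⟩ := h.decomp w
  rw [herm_add_right h.hF, h.ti hB hu ha, zero_add] at hw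
  exact ⟨b, hb, fun h0 => hw (herm_eq_zero_swap h.hF h0)⟩

theorem finrank_ge : 2 ≤ finrank F (h.E ν) := by
  by_contra hcon
  have hB' : (-ν) * (-ν) ^ q = -1 := by rw [neg_pow_q h.hF, neg_mul_neg, hB]
  have h1 : finrank F (h.E ν) ≤ 1 := by omega
  obtain ⟨w, hw⟩ := finrank_le_one_iff.1 h1
  have h2 : finrank F (h.E (-ν)) ≤ finrank F F := by
    refine LinearMap.finrank_le_finrank_of_injective
      (f := (hermLeft q (w : Fin n → F)).comp (h.E (-ν)).subtype) ?_
    rw [injective_iff_map_eq_zero]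
    intro x hx
    by_contra hx0
    have hx0' : (x : Fin n → F) ≠ 0 := fun h => hx0 (Subtype.ext h)
    obtain ⟨v, hv, hvx⟩ := h.swap.exists_dual hB' x.2 hx0'
    have hv' : v ∈ h.E ν := by
      have : v ∈ h.swap.E (- -ν) := hv
      rw [mem] at this ⊢
      rwa [neg_neg] at this
    obtain ⟨r, hr⟩ := hw ⟨v, hv'⟩
    have hr' : r • (w : Fin n → F) = v := congrArg Subtype.val hr
    apply hvx
    rw [← hr', herm_smul_left]
    have : hermForm n F q (x : Fin n → F) w = 0 := hx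
    rw [herm_eq_zero_swap h.hF this, mul_zero]
  have h3 : finrank F F = 1 := finrank_self F
  have h4 := h.finrank_add
  have h5 := h.hn
  omega

/-- `S` fixes all lines of `E (-ν)`. -/
theorem lines {w : Fin n → F} (hw : w ∈ h.E (-ν)) : ∃ c : F, S w = c • w := by
  have hB' : (-ν) * (-ν) ^ q = -1 := by rw [neg_pow_q h.hF, neg_mul_neg, hB]
  obtain ⟨u, hu, hu0, huw⟩ : ∃ u ∈ h.E ν, u ≠ 0 ∧ hermForm n F q u w = 0 := by
    have h1 : finrank F F < finrank F (h.E ν) := by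
      have := h.finrank_ge hB
      rw [finrank_self]
      omega
    have h2 := LinearMap.ker_ne_bot_of_finrank_lt (f := (hermLeft q w).comp (h.E ν).subtype) h1
    obtain ⟨x, hx, hx0⟩ := (Submodule.ne_bot_iff _).1 h2
    exact ⟨x, x.2, fun h0 => hx0 (Subtype.ext h0), hx⟩
  have hww : hermForm n F q w w = 0 := h.swap.ti hB' hw hw
  have huu : hermForm n F q u u = 0 := h.ti hB hu hu
  have hs : IsSiegel q u w 0 := ⟨huu, herm_eq_zero_swap h.hF huw, by rw [hww, zero_pow_q h.hF, add_zero, add_zero]⟩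
  obtain ⟨v, hv, hvu⟩ := h.exists_dual hB hu hu0
  have key := h.fix.siegel h.hF hs (fun v => by
    have e1 := h.herm_right (v := v) (Or.inr hB) hu
    have e2 := h.herm_right (v := v) (Or.inr hB') hw
    rw [hB] at e1
    rw [hB'] at e2
    have hu' : T u = ν • u := hu
    have hw' : T w = (-ν) • w := hw
    rw [h.rT.add, h.rT.add, h.smulT, h.smulT, e1, e2, hu', hw', smul_smul, smul_smul]
    congr 2
    · congr 1
      ring
    · ring) v
  have h1 : hermForm n F q v w = 0 := h.swap.ti hB' hv hw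
  have h2 : hermForm n F q (S v) w = 0 := h.swap.ti hB' (h.S_mem (Or.inr rfl) hv) hw
  rw [h1, h2, zero_mul, sub_zero, zero_smul, add_zero, zero_mul, sub_zero, zero_smul, add_zero, h.rS.add,
    h.rS.smul] at key
  have h3 := add_left_cancel key
  have hne : τ (hermForm n F q v u) ≠ 0 := (map_ne_zero τ).2 hvu
  refine ⟨(τ (hermForm n F q v u))⁻¹ * hermForm n F q (S v) u, ?_⟩
  rw [← smul_smul, ← h3, smul_smul, inv_mul_cancel₀ hne, one_smul]

theorem plane_B : τ = 1 ∧ Plane q T S := by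
  have hB' : (-ν) * (-ν) ^ q = -1 := by rw [neg_pow_q h.hF, neg_mul_neg, hB]
  have hS0 : ∀ v, S v = 0 → v = 0 := fun v hv => h.S_zero hv
  have hE : h.swap.E (- -ν) = h.E ν := by
    ext v
    rw [mem, mem, neg_neg]
  have hl : ∀ u ∈ h.E ν, ∃ c : F, S u = c • u := fun u hu => h.swap.lines hB' (by rw [hE]; exact hu)
  obtain ⟨hτ, a, ha⟩ := scalar_of_lines (h.E ν) (h.finrank_ge hB) h.rS.add h.rS.smul hS0 hl
  obtain ⟨-, b, hb⟩ := scalar_of_lines (h.E (-ν)) (h.swap.finrank_ge hB') h.rS.add h.rS.smul hS0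
    (fun w hw => h.lines hB hw)
  refine ⟨hτ, ?_⟩
  obtain ⟨e, he, he0⟩ := (Submodule.ne_bot_iff _).1 h.ne_bot
  obtain ⟨f, hf, hfe⟩ := h.exists_dual hB he he0
  refine ⟨e, f, ν, -ν, a, b, he, hf, ha e he, hb f hf, ?_, ?_⟩
  · intro hab
    obtain ⟨v, hv⟩ := h.Sne a
    obtain ⟨x, hx, y, hy, rfl⟩ := h.decomp v
    apply hv
    rw [h.rS.add, ha x hx, hb y hy, hab, smul_add]
  · rw [h.ti hB he he, zero_mul, zero_sub, neg_ne_zero]
    refine mul_ne_zero (fun h0 => hfe (herm_eq_zero_swap h.hF h0)) hfe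

end B

/-- **The linear involutions.** -/
theorem main : τ = 1 ∧ Plane q T S := by
  rcases h.norm with h1 | h1
  · exact h.plane_A h1
  · exact h.plane_B h1

end

end Lin

end Cfsg.Agent.UGT.U2.FOne.PSU
end

-- part: UGT/U2/FOne/PSUPlane
section
/-!
# (f1) for `PSU_n(q)`: the `SL₂` of a nondegenerate plane

* `fixG W` : the elements of `SU` trivial on `W^⊥`; `JJ W` : its image in `PSU`.
* `Good5 z J` : the properties of `(z, J)` in the conclusion of (f1).
* `exists_good5` : `JJ W` is good for a nondegenerate plane `W`.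
* `concl_of_plane` : the conclusion of (f1).
-/

set_option autoImplicit false
set_option linter.unusedSectionVars false

namespace Cfsg.Agent.UGT.U2.FOne.PSU

open Cfsg Cfsg.Agent.LieClassical.HermBasic Cfsg.Agent.LieClassical.HermSiegel
  Cfsg.Agent.LieClassical.HermGen Cfsg.Agent.LieClassical.SUBasic Matrix
  Cfsg.Agent.ClassicalGeometry.PSUAutBasic Cfsg.Agent.ClassicalGeometry.HermOrtho Module

open Cfsg.Agent.ClassicalGeometry.PSUAutCount (gm semiConj toAut herm_gm act_semiConj herm_semi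
  gm_inv_mulVec gm_mulVec_inv eq_of_toAut_eq)

open Cfsg.Agent.KFacts.Unit (sg sg_add sg_smul herm_sg exists_sg exists_GU_of_semi act_semiConj' toAut_eq_conj)

section Fix

variable {F : Type*} [Field F] [Fintype F] {q n : ℕ}

/-- the elements of `SU` trivial on `W^⊥` -/
def fixG (q : ℕ) (W : Submodule F (Fin n → F)) : Subgroup (SU n F q) where
  carrier := {g | ∀ v, (∀ w ∈ W, hermForm n F q v w = 0) → act g v = v}
  one_mem' v _ := act_one v
  mul_mem' {a b} ha hb v hv := by rw [act_mul, hb v hv, ha v hv]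
  inv_mem' {a} ha v hv := by
    have h1 := ha v hv
    nth_rewrite 1 [← h1]
    rw [act_inv_act]

theorem mem_fixG {W : Submodule F (Fin n → F)} {g : SU n F q} :
    g ∈ fixG q W ↔ ∀ v, (∀ w ∈ W, hermForm n F q v w = 0) → act g v = v := Iff.rfl

/-- its image in `PSU` -/
def JJ (q : ℕ) (W : Submodule F (Fin n → F)) : Subgroup (PSU n F q) := (fixG q W).map (pr n F q)

variable {α : MulAut (PSU n F q)} {T : (Fin n → F) → (Fin n → F)} {σ : F ≃+* F}

/-- `J(W)` is invariant under the automorphisms preserving `W` -/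
theorem map_JJ (h : Rep α T σ) (W : Submodule F (Fin n → F)) (hW : ∀ w ∈ W, T w ∈ W) :
    (JJ q W).map α.toMonoidHom = JJ q W := by
  have hfin : Finite (PSU n F q) := Finite.of_surjective _ (pr_surjective (n := n) (F := F) (q := q))
  have hle : (JJ q W).map α.toMonoidHom ≤ JJ q W := by
    rintro _ ⟨_, ⟨g, hg, rfl⟩, rfl⟩
    obtain ⟨g', h1, h2⟩ := h.lift g
    change α (pr n F q g) ∈ _
    rw [h1]
    refine ⟨g', fun u hu => ?_, rfl⟩
    obtain ⟨v, rfl⟩ := h.sur u
    rw [h2, hg v fun w hw => ?_]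
    have h3 := hu (T w) (hW w hw)
    rw [h.herm] at h3
    exact (map_eq_zero σ).1 h3
  refine Subgroup.eq_of_le_of_card_ge hle ?_
  rw [Nat.card_congr ((JJ q W).equivMapOfInjective α.toMonoidHom α.injective).toEquiv]

/-- If `β` fixes all elements of `J(W)` then `S` is a scalar on `W`. -/
theorem scalar_of_fix (hF : Fintype.card F = q ^ 2) (hn : 3 ≤ n) (h2 : (2 : F) ≠ 0) {p : ℕ} [Fact p.Prime]
    [CharP F p] {β : MulAut (PSU n F q)} {S : (Fin n → F) → (Fin n → F)} (h : Rep β S 1)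
    (W : Submodule F (Fin n → F)) (hW : ∀ u ∈ W, (∀ v ∈ W, hermForm n F q u v = 0) → u = 0)
    (hk : 2 ≤ finrank F W) (hfix : ∀ j ∈ JJ q W, β j = j) : ∃ c : F, ∀ v ∈ W, S v = c • v := by
  refine scalar_of_iso hF h2 W hW hk h.add h.smul fun u hu huu => ?_
  by_cases hu0 : u = 0
  · exact ⟨0, by rw [hu0, h.zero, smul_zero]⟩
  obtain ⟨c, hc, -⟩ := eigen_of_comm hF h hu0 (fun lam hlam v => by
    have h3 : transv hF u huu lam hlam ∈ fixG q W := by
      intro v hv
      rw [act_transv, hv u hu, mul_zero, zero_smul, add_zero]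
    have h4 := h.act_of_fix hF hn (p := p) (g := transv hF u huu lam hlam)
      (siegel_pow_prime_pow hF p (isSiegel_zero huu hlam)) (hfix _ ⟨_, h3, rfl⟩) v
    rwa [act_transv, act_transv] at h4)
  exact ⟨c, hc⟩

end Fix

/-- the properties of `(z, J)` in the conclusion of (f1) -/
structure Good5 {K : Type*} [Group K] (z : K) (J : Subgroup K) : Prop where
  order : orderOf z = 2
  mem : z ∈ J
  le : J ≤ Subgroup.centralizer ({z} : Set K)
  sn : (J.subgroupOf (Subgroup.centralizer ({z} : Set K))).IsSubnormal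

theorem Good5.map {K K' : Type*} [Group K] [Group K'] {z : K} {J : Subgroup K} (h : Good5 z J) (e : K ≃* K') :
    Good5 (e z) (J.map e.toMonoidHom) where
  order := by rw [← h.order]; exact orderOf_injective e.toMonoidHom e.injective z
  mem := Subgroup.mem_map_of_mem _ h.mem
  le := by rw [← map_centralizer]; exact Subgroup.map_mono h.le
  sn := by
    rw [← map_centralizer]
    exact Cfsg.Agent.FixBN.Reduce.subnormal_map e.toMonoidHom h.le h.sn

section Std

open Cfsg.Agent.Cit.LongBlock Cfsg.Agent.Cit.LongQuot Cfsg.Agent.Cit.LongMain Cfsg.Agent.Cit.LongModel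
  Cfsg.Agent.Cit.LongInst

variable {F : Type*} [Field F] [Fintype F] {q : ℕ} (hF : Fintype.card F = q ^ 2) {k : ℕ} (hk : 1 ≤ k)

/-- `E₁` consists of the elements trivial on the last `k` coordinate vectors. -/
theorem mem_E1 {g : SU (2 + k) F q} : g ∈ (suRep hF k hk).E1 ↔
    ∀ v : Fin (2 + k) → F, (∀ i : Fin 2, v (Fin.castAdd k i) = 0) → act g v = v := by
  have hρ : ∀ M, (suRep hF k hk).ρ g = M ↔ mat g = M.submatrix (ee k) (ee k) := fun M =>
    rho_eq_iff (e := ee k) (f := (SU (2 + k) F q).subtype) (g := g)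
  have e1 : ∀ i : Fin 2, ee k (Fin.castAdd k i) = Sum.inl i := fun i => finSumFinEquiv_symm_apply_castAdd i
  have e2 : ∀ j : Fin k, ee k (Fin.natAdd 2 j) = Sum.inr j := fun j => finSumFinEquiv_symm_apply_natAdd j
  constructor
  · rintro ⟨P, hP⟩ v hv
    have h1 := (hρ _).1 hP
    rw [act_def, h1, submatrix_mulVec_equiv]
    have h2 : v ∘ (ee k).symm = Sum.elim (0 : Fin 2 → F) (fun j => v (Fin.natAdd 2 j)) := by
      funext x
      rcases x with i | j
      · change v ((ee k).symm (Sum.inl i)) = 0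
        rw [← e1, Equiv.symm_apply_apply, hv]
      · change v ((ee k).symm (Sum.inr j)) = v (Fin.natAdd 2 j)
        rw [← e2, Equiv.symm_apply_apply]
    rw [h2, fromBlocks_mulVec]
    funext x
    obtain ⟨x, rfl⟩ := finSumFinEquiv.surjective x
    rcases x with i | j
    · change Sum.elim _ _ (ee k (finSumFinEquiv (Sum.inl i))) = _
      rw [finSumFinEquiv_apply_left, e1, hv]
      simp
    · change Sum.elim _ _ (ee k (finSumFinEquiv (Sum.inr j))) = _
      rw [finSumFinEquiv_apply_right, e2]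
      simp
  · intro h
    refine ⟨((mat g).submatrix (ee k).symm (ee k).symm).toBlocks₁₁, (hρ _).2 ?_⟩
    have hcol : ∀ (x : Fin (2 + k)) (j : Fin k), mat g x (Fin.natAdd 2 j) = if x = Fin.natAdd 2 j then 1 else 0 := by
      intro x j
      have h1 := congrFun (h (Pi.single (Fin.natAdd 2 j) 1) (fun i => by
        rw [Pi.single_eq_of_ne]
        intro h2
        have := congrArg Fin.val h2
        simp at this
        omega)) x
      rw [act_def, mulVec_single_one] at h1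
      change mat g x (Fin.natAdd 2 j) = _ at h1
      rw [h1, Pi.single_apply]
    have hrow : ∀ (j : Fin k) (i : Fin 2), mat g (Fin.natAdd 2 j) (Fin.castAdd k i) = 0 := by
      intro j i
      have h1 := herm_act g (Pi.single (Fin.castAdd k i) 1) (Pi.single (Fin.natAdd 2 j) 1)
      rw [h (Pi.single (Fin.natAdd 2 j) 1) (fun i => by
        rw [Pi.single_eq_of_ne]
        intro h2
        have := congrArg Fin.val h2
        simp at this
        omega), herm_single_right hF, herm_single_right hF, one_pow, mul_one, mul_one, Pi.single_eq_of_ne,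
        act_def, mulVec_single_one] at h1
      · exact h1
      · intro h2
        have := congrArg Fin.val h2
        simp at this
        omega
    ext x y
    obtain ⟨x, rfl⟩ := finSumFinEquiv.surjective x
    obtain ⟨y, rfl⟩ := finSumFinEquiv.surjective y
    have e3 : ∀ i : Fin 2, (ee k).symm (Sum.inl i) = Fin.castAdd k i := fun i => by
      rw [← e1, Equiv.symm_apply_apply]
    rcases x with i | j <;> rcases y with i' | j'
    · rw [finSumFinEquiv_apply_left, finSumFinEquiv_apply_left, submatrix_apply, e1, e1, fromBlocks_apply₁₁]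
      change _ = mat g ((ee k).symm (Sum.inl i)) ((ee k).symm (Sum.inl i'))
      rw [e3, e3]
    · rw [finSumFinEquiv_apply_left, finSumFinEquiv_apply_right, submatrix_apply, e1, e2, fromBlocks_apply₁₂,
        hcol, if_neg, Matrix.zero_apply]
      intro h2
      have := congrArg Fin.val h2
      simp at this
      omega
    · rw [finSumFinEquiv_apply_right, finSumFinEquiv_apply_left, submatrix_apply, e1, e2, fromBlocks_apply₂₁,
        hrow, Matrix.zero_apply]
    · rw [finSumFinEquiv_apply_right, finSumFinEquiv_apply_right, submatrix_apply, e2, e2, fromBlocks_apply₂₂,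
        hcol, Matrix.one_apply]
      by_cases hj : j = j'
      · rw [if_pos (by rw [hj]), if_pos hj]
      · rw [if_neg, if_neg hj]
        intro h2
        apply hj
        have := congrArg Fin.val h2
        simp at this
        exact Fin.ext (by omega)

/-- the image of `E₁` under an adapted element of `GU` -/
theorem map_E1 {A : GU (2 + k) F q} {W : Submodule F (Fin (2 + k) → F)}
    (hA : ∀ x : Fin (2 + k) → F, sg A 1 x ∈ W ↔ ∀ j : Fin k, x (Fin.natAdd 2 j) = 0) :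
    (D1 (suRep hF k hk)).map (toAut A 1).toMonoidHom = JJ q W := by
  have hinj : ∀ {u v : Fin (2 + k) → F}, sg A 1 u = sg A 1 v → u = v := fun h => (rep_toAut A 1).inj hF h
  apply le_antisymm
  · rintro _ ⟨_, ⟨g, hg, rfl⟩, rfl⟩
    refine ⟨semiConj A 1 g, fun v hv => ?_, rfl⟩
    obtain ⟨u, rfl⟩ := exists_sg A 1 v
    rw [act_semiConj', (mem_E1 hF hk).1 hg u fun i => ?_]
    have h1 := hv (sg A 1 (Pi.single (Fin.castAdd k i) 1)) ((hA _).2 fun j => by
      rw [Pi.single_eq_of_ne]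
      intro h2
      have := congrArg Fin.val h2
      simp at this
      omega)
    rw [herm_sg, herm_single_right hF, one_pow, mul_one] at h1
    exact h1
  · rintro _ ⟨g, hg, rfl⟩
    obtain ⟨g0, rfl⟩ : ∃ g0, semiConj A 1 g0 = g := ⟨_, (semiConj A 1).apply_symm_apply g⟩
    refine ⟨pr _ _ _ g0, ⟨g0, (mem_E1 hF hk).2 fun u hu => hinj ?_, rfl⟩, rfl⟩
    rw [← act_semiConj', hg (sg A 1 u) fun w hw => ?_]
    obtain ⟨w0, rfl⟩ := exists_sg A 1 w
    rw [hA] at hw
    rw [herm_sg]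
    change hermForm (2 + k) F q u w0 = 0
    rw [herm_def]
    refine Finset.sum_eq_zero fun i _ => ?_
    refine Fin.addCases (fun i => ?_) (fun j => ?_) i
    · rw [hu, zero_mul]
    · rw [hw, zero_pow_q hF, mul_zero]

end Std

section Main

open Cfsg.Agent.Cit.LongBlock Cfsg.Agent.Cit.LongQuot Cfsg.Agent.Cit.LongMain Cfsg.Agent.Cit.LongModel
  Cfsg.Agent.Cit.LongInst

variable {F : Type} [Field F] [Fintype F] {q n : ℕ}

/-- `J(W)` for a nondegenerate plane `W` -/
theorem exists_good5 (hF : Fintype.card F = q ^ 2) (ho : Odd q) (hn : 3 ≤ n) (W : Submodule F (Fin n → F))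
    (hW : ∀ u ∈ W, (∀ v ∈ W, hermForm n F q u v = 0) → u = 0) (hk : finrank F W = 2) :
    ∃ z : PSU n F q, Good5 z (JJ q W) ∧ Nonempty (↥(JJ q W) ≃* SpecialLinearGroup (Fin 2) (KK hF)) := by
  obtain ⟨k, rfl⟩ : ∃ k, n = 2 + k := ⟨n - 2, by omega⟩
  have hk1 : 1 ≤ k := by omega
  have : Nonempty (Fin k) := ⟨⟨0, by omega⟩⟩
  have ho' : Odd (Fintype.card F) := by rw [hF]; exact ho.pow
  have h2 : (2 : F) ≠ 0 := SignalizersComponents.SLQuasisimple.two_ne_zero_of_odd ho'
  obtain ⟨P, hP, hPW⟩ := exists_GU_adapted hF (finSumFinEquiv : Fin 2 ⊕ Fin k ≃ Fin (2 + k)) W hW hk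
  set A : GU (2 + k) F q := ⟨P, hP⟩ with hA
  have hAW : ∀ x : Fin (2 + k) → F, sg A 1 x ∈ W ↔ ∀ j : Fin k, x (Fin.natAdd 2 j) = 0 := fun x => hPW x
  set R := suRep hF k hk1 with hR
  have h1 : (D1 R).map (toAut A 1).toMonoidHom = JJ q W := map_E1 hF hk1 hAW
  have h3 : Good5 (z0 R) (D1 R) :=
    ⟨OddHalf.NI.F1Mat.z0_order R h2, z0_mem, D1_le_CC, D1_subnormal R h2⟩
  have h4 := h3.map (toAut A 1)
  rw [h1] at h4
  refine ⟨_, h4, ?_⟩
  obtain ⟨f⟩ := ((suRep_model hF k hk1).toW).equiv1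
  obtain ⟨e⟩ := un2_equiv hF
  rw [← h1]
  exact ⟨(((D1 R).equivMapOfInjective (toAut A 1).toMonoidHom (toAut A 1).injective).symm.trans
    (D1Equiv R).symm).trans (f.trans e)⟩

/-- **A nondegenerate plane gives the conclusion of (f1).** -/
theorem concl_of_plane (hF : Fintype.card F = q ^ 2) (ho : Odd q) (hn : 3 ≤ n) {p : ℕ} [Fact p.Prime]
    [CharP F p] {α β : MulAut (PSU n F q)} {T S : (Fin n → F) → (Fin n → F)} {σ : F ≃+* F}
    (hT : Rep α T σ) (hS : Rep β S 1) (h : Plane q T S) :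
    ∃ (z : PSU n F q) (J : Subgroup (PSU n F q)), Good5 z J ∧
      Nonempty (↥J ≃* SpecialLinearGroup (Fin 2) (KK hF)) ∧ J.map α.toMonoidHom = J ∧
      J.map β.toMonoidHom = J ∧ ∃ j ∈ J, β j ≠ j := by
  obtain ⟨e, f, s, t, a, b, hTe, hTf, hSe, hSf, hab, hdet⟩ := h
  have ho' : Odd (Fintype.card F) := by rw [hF]; exact ho.pow
  have h2 : (2 : F) ≠ 0 := SignalizersComponents.SLQuasisimple.two_ne_zero_of_odd ho'
  set W : Submodule F (Fin n → F) := Submodule.span F {e, f} with hWdef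
  have hmem : ∀ u, u ∈ W ↔ ∃ x y : F, x • e + y • f = u := fun u => Submodule.mem_span_pair
  have heW : e ∈ W := Submodule.subset_span (by simp)
  have hfW : f ∈ W := Submodule.subset_span (by simp)
  have hzero : ∀ x y : F, hermForm n F q (x • e + y • f) e = 0 → hermForm n F q (x • e + y • f) f = 0 →
      x = 0 ∧ y = 0 := by
    intro x y h3 h4
    rw [herm_add_left, herm_smul_left, herm_smul_left] at h3 h4
    constructor
    · apply mul_right_cancel₀ hdet
      linear_combination hermForm n F q f f * h3 - hermForm n F q f e * h4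
    · apply mul_right_cancel₀ hdet
      linear_combination hermForm n F q e e * h4 - hermForm n F q e f * h3
  have hW : ∀ u ∈ W, (∀ v ∈ W, hermForm n F q u v = 0) → u = 0 := by
    intro u hu hu0
    obtain ⟨x, y, rfl⟩ := (hmem u).1 hu
    obtain ⟨h3, h4⟩ := hzero x y (hu0 e heW) (hu0 f hfW)
    rw [h3, h4, zero_smul, zero_smul, add_zero]
  have hli : LinearIndependent F ![e, f] := by
    rw [LinearIndependent.pair_iff]
    intro x y hxy
    exact hzero x y (by rw [hxy, herm_zero_left]) (by rw [hxy, herm_zero_left])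
  have hk : finrank F W = 2 := by
    have h3 := finrank_span_eq_card (R := F) hli
    rw [Fintype.card_fin] at h3
    have h4 : Set.range ![e, f] = {e, f} := by
      rw [Matrix.range_cons, Matrix.range_cons, Matrix.range_empty, Set.union_empty]
      rfl
    rw [h4] at h3
    exact h3
  have hTW : ∀ w ∈ W, T w ∈ W := by
    intro w hw
    obtain ⟨x, y, rfl⟩ := (hmem w).1 hw
    rw [hT.add, hT.smul, hT.smul, hTe, hTf]
    exact W.add_mem (W.smul_mem _ (W.smul_mem _ heW)) (W.smul_mem _ (W.smul_mem _ hfW))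
  have hSW : ∀ w ∈ W, S w ∈ W := by
    intro w hw
    obtain ⟨x, y, rfl⟩ := (hmem w).1 hw
    rw [hS.add, hS.smul, hS.smul, hSe, hSf]
    exact W.add_mem (W.smul_mem _ (W.smul_mem _ heW)) (W.smul_mem _ (W.smul_mem _ hfW))
  obtain ⟨z, hz, hJ⟩ := exists_good5 hF ho hn W hW hk
  refine ⟨z, JJ q W, hz, hJ, map_JJ hT W hTW, map_JJ hS W hSW, ?_⟩
  by_contra hcon
  push Not at hcon
  obtain ⟨c, hc⟩ := scalar_of_fix hF hn h2 (p := p) hS W hW hk.ge hcon
  apply hab
  have he0 : e ≠ 0 := fun h0 => by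
    have := hli.ne_zero 0
    exact this h0
  have hf0 : f ≠ 0 := fun h0 => by
    have := hli.ne_zero 1
    exact this h0
  have h5 := hc e heW
  have h6 := hc f hfW
  rw [hSe] at h5
  rw [hSf] at h6
  have h7 : (a - c) • e = 0 := by rw [sub_smul, h5, sub_self]
  have h8 : (b - c) • f = 0 := by rw [sub_smul, h6, sub_self]
  rcases smul_eq_zero.1 h7 with h9 | h9
  · rcases smul_eq_zero.1 h8 with h10 | h10
    · rw [sub_eq_zero.1 h9, sub_eq_zero.1 h10]
    · exact absurd h10 hf0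
  · exact absurd h9 he0

end Main

end Cfsg.Agent.UGT.U2.FOne.PSU
end
end

-- part: UGT/Blk/SysOf
section
prune_inst 0x12004400000020000000002000020044800019000230001d1000e40020653230005270054c01e000902aa30200a8020001000490038000020008e004001002084aa72c22300b10405000fc0f887180c00000000000000000000000000051000000000000
set_option linter.all false
open scoped Cfsg.Agent.FastGrp

/-!
# `Base SS` gives `Sys SS (rl SS)`

`rl SS L P`: `L, P ∈ SS` are equal or related by `Rel ⊤`.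
-/

set_option autoImplicit false

open Subgroup Cfsg
open Cfsg.Agent.SignalizersComponents
open Cfsg.Agent.SignalizersComponents.IntrinsicBasic

namespace Cfsg.Agent.UGT.Blk

variable {G : Type*} [Group G]

/-! ### small tools -/

theorem orderOf_conj' (g x : G) : orderOf (g * x * g⁻¹) = orderOf x := by
  have := orderOf_injective (MulAut.conj g).toMonoidHom (MulAut.conj g).injective x
  simpa using this

theorem ne_one_of_ord {x : G} (h : orderOf x = 2) : x ≠ 1 := by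
  rintro rfl; rw [orderOf_one] at h; norm_num at h

theorem sq_of_ord {x : G} (h : orderOf x = 2) : x * x = 1 := by
  rw [← pow_two, ← h, pow_orderOf_eq_one]

theorem ord_of_sq {x : G} (h : x * x = 1) (h1 : x ≠ 1) : orderOf x = 2 :=
  orderOf_eq_prime (by rw [pow_two]; exact h) h1

theorem mem_cen {t x : G} : x ∈ centralizer ({t} : Set G) ↔ x * t = t * x := mem_centralizer_singleton_iff

/-- a perfect group acting on two points acts trivially -/
theorem le_of_two {L D : Subgroup G} (hp : ⁅L, L⁆ = L)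
    (h2 : ∀ x ∈ L, ∀ y ∈ L, x ∉ D → y ∉ D → x * y ∈ D) : L ≤ D := by
  rw [← hp, commutator_le]
  intro x hx y hy
  rw [commutatorElement_def]
  have hx' : x⁻¹ ∈ L := L.inv_mem hx
  have hy' : y⁻¹ ∈ L := L.inv_mem hy
  by_cases hxD : x ∈ D
  · by_cases hyD : y ∈ D
    · exact D.mul_mem (D.mul_mem (D.mul_mem hxD hyD) (D.inv_mem hxD)) (D.inv_mem hyD)
    · have e : x * y * x⁻¹ * y⁻¹ = x * (y * (x⁻¹ * y⁻¹)) := by group
      rw [e]
      refine D.mul_mem hxD (h2 y hy _ (L.mul_mem hx' hy') hyD fun h => hyD ?_)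
      have := (D.mul_mem_cancel_left (D.inv_mem hxD)).mp h
      exact inv_mem_iff.mp this
  · by_cases hyD : y ∈ D
    · have e : x * y * x⁻¹ * y⁻¹ = x * (y * x⁻¹) * y⁻¹ := by group
      rw [e]
      refine D.mul_mem (h2 x hx _ (L.mul_mem hy hx') hxD fun h => hxD ?_) (D.inv_mem hyD)
      have := (D.mul_mem_cancel_left hyD).mp h
      exact inv_mem_iff.mp this
    · have e : x * y * x⁻¹ * y⁻¹ = x * y * (x⁻¹ * y⁻¹) := by group
      rw [e]
      exact D.mul_mem (h2 x hx y hy hxD hyD)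
        (h2 _ hx' _ hy' (fun h => hxD (inv_mem_iff.mp h)) fun h => hyD (inv_mem_iff.mp h))

/-- a simple group normalising `N` is contained in `N` or meets `N` trivially -/
theorem SP.le_or_inf {L N : Subgroup G} (h : SP L) (hn : L ≤ normalizer (N : Set G)) : L ≤ N ∨ L ⊓ N = ⊥ := by
  have := h.simple
  have h1 : (N.subgroupOf L).Normal := normal_subgroupOf_of_le_normalizer hn
  rcases h1.eq_bot_or_eq_top with h2 | h2
  · right
    rw [eq_bot_iff]
    intro x hx
    have h3 : (⟨x, hx.1⟩ : ↥L) ∈ N.subgroupOf L := hx.2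
    rw [h2, mem_bot] at h3
    exact mem_bot.mpr (congrArg Subtype.val h3)
  · left
    exact subgroupOf_eq_top.mp h2

/-- ... in particular if it has a nontrivial element in `N` -/
theorem SP.le_of_mem {L N : Subgroup G} (h : SP L) (hn : L ≤ normalizer (N : Set G)) {x : G} (hx : x ∈ L)
    (hx' : x ∈ N) (hx1 : x ≠ 1) : L ≤ N := by
  rcases h.le_or_inf hn with h1 | h1
  · exact h1
  · exfalso
    have : x ∈ L ⊓ N := ⟨hx, hx'⟩
    rw [h1, mem_bot] at this
    exact hx1 this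

/-- a subset of the simple group `L` invariant under conjugation generates `L` -/
theorem SP.le_of_conj {L D : Subgroup G} (h : SP L) {S : Set G} (hinv : ∀ x ∈ L, ∀ s ∈ S, x * s * x⁻¹ ∈ S)
    (hS : ∀ s ∈ S, s ∈ D) {s : G} (hs : s ∈ S) (hsL : s ∈ L) (hs1 : s ≠ 1) : L ≤ D := by
  have h1 : L ≤ normalizer (closure S : Set G) := by
    have h2 : ∀ x ∈ L, ∀ y ∈ closure S, x * y * x⁻¹ ∈ closure S := by
      intro x hx y hy
      have h3 : closure S ≤ (closure S).comap (MulAut.conj x).toMonoidHom := by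
        rw [closure_le]
        intro z hz
        exact subset_closure (hinv x hx z hz)
      exact h3 hy
    intro x hx
    rw [mem_normalizer_iff]
    intro y
    refine ⟨fun hy => h2 x hx y hy, fun hy => ?_⟩
    have h3 := h2 x⁻¹ (L.inv_mem hx) _ hy
    have e : x⁻¹ * (x * y * x⁻¹) * x⁻¹⁻¹ = y := by group
    rwa [e] at h3
  have h2 : L ≤ closure S := h.le_of_mem h1 hsL (subset_closure hs) hs1
  exact h2.trans (by rw [closure_le]; exact hS)

/-- the normalizer, elementwise -/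
theorem le_normalizer_of_conj {L N : Subgroup G} (h : ∀ x ∈ L, ∀ y ∈ N, x * y * x⁻¹ ∈ N) :
    L ≤ normalizer (N : Set G) := by
  intro x hx
  rw [mem_normalizer_iff]
  intro y
  refine ⟨fun hy => h x hx y hy, fun hy => ?_⟩
  have h3 := h x⁻¹ (L.inv_mem hx) _ hy
  have e : x⁻¹ * (x * y * x⁻¹) * x⁻¹⁻¹ = y := by group
  rwa [e] at h3

/-- an involution normalising a subgroup `P` of even order centralises an involution of `P` -/
theorem exists_fix_inv [Finite G] {P : Subgroup G} {t p : G} (hp : p ∈ P) (op : orderOf p = 2) (ot : orderOf t = 2)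
    (ht : t ∈ normalizer (P : Set G)) : ∃ e ∈ P, orderOf e = 2 ∧ t * e = e * t := by
  haveI : Fact (Nat.Prime 2) := ⟨Nat.prime_two⟩
  set N : Subgroup G := normalizer (P : Set G) with hN
  have hpN : p ∈ N := le_normalizer hp
  set t' : ↥N := ⟨t, ht⟩ with ht'
  set p' : ↥N := ⟨p, hpN⟩ with hp'
  have two_grp : ∀ z : ↥N, orderOf z = 2 → IsPGroup 2 (zpowers z) := by
    intro z hz
    refine IsPGroup.of_card (n := 1) ?_
    rw [Nat.card_zpowers, hz, pow_one]
  have ot' : orderOf t' = 2 := by rw [ht', Subgroup.orderOf_mk]; exact ot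
  have op' : orderOf p' = 2 := by rw [hp', Subgroup.orderOf_mk]; exact op
  obtain ⟨Q, hQ⟩ := (two_grp t' ot').exists_le_sylow
  obtain ⟨Q', hQ'⟩ := (two_grp p' op').exists_le_sylow
  obtain ⟨g, hg⟩ := MulAction.exists_smul_eq ↥N Q' Q
  have hgp : g * p' * g⁻¹ ∈ (Q : Subgroup ↥N) := by
    rw [← hg, Sylow.coe_subgroup_smul, Subgroup.mem_pointwise_smul_iff_inv_smul_mem]
    have e : (MulAut.conj g)⁻¹ • (g * p' * g⁻¹) = p' := by
      rw [MulAut.smul_def, MulAut.conj_inv_apply]; group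
    rw [e]
    exact hQ' (mem_zpowers p')
  have hPn : (P.subgroupOf N).Normal := by rw [hN]; infer_instance
  have hgP : g * p' * g⁻¹ ∈ P.subgroupOf N := hPn.conj_mem p' hp g
  obtain ⟨e, he, oe, hc⟩ := Cfsg.Agent.OddHalf.D3.Fus.exists_fix (S := (Q : Subgroup ↥N)) (X := zpowers t')
    (D := P.subgroupOf N ⊓ (Q : Subgroup ↥N)) Q.isPGroup' hQ inf_le_right (by
      intro hb
      have h1 : g * p' * g⁻¹ ∈ P.subgroupOf N ⊓ (Q : Subgroup ↥N) := ⟨hgP, hgp⟩
      rw [hb, mem_bot] at h1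
      have h2 : orderOf (g * p' * g⁻¹) = 2 := by rw [orderOf_conj', op']
      exact ne_one_of_ord h2 h1) (by
      intro x hx d hd
      exact ⟨hPn.conj_mem d hd.1 x, (Q : Subgroup ↥N).mul_mem ((Q : Subgroup ↥N).mul_mem (hQ hx) hd.2)
        ((Q : Subgroup ↥N).inv_mem (hQ hx))⟩)
  exact ⟨e, he.1, by rw [Subgroup.orderOf_coe]; exact oe, congrArg Subtype.val (hc t' (mem_zpowers t'))⟩

/-! ### `Rel` -/

theorem Rel.symm {K L P : Subgroup G} (h : Rel K L P) : Rel K P L :=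
  ⟨h.le', h.le, h.ne.symm, h.comm.symm, h.right, h.left⟩

theorem Rel.l {L P : Subgroup G} (h : Rel ⊤ L P) {t : G} (ht : t ∈ P) (ot : orderOf t = 2) :
    Cmp (centralizer ({t} : Set G)) L := by
  have := h.left t ht ot
  rwa [top_inf_eq] at this

theorem Rel.r {L P : Subgroup G} (h : Rel ⊤ L P) {t : G} (ht : t ∈ L) (ot : orderOf t = 2) :
    Cmp (centralizer ({t} : Set G)) P := h.symm.l ht ot

theorem Rel.mk' {L P : Subgroup G} (hne : L ≠ P) (hc : Comm L P)
    (hl : ∀ t ∈ P, orderOf t = 2 → Cmp (centralizer ({t} : Set G)) L)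
    (hr : ∀ t ∈ L, orderOf t = 2 → Cmp (centralizer ({t} : Set G)) P) : Rel ⊤ L P :=
  ⟨le_top, le_top, hne, hc, fun t ht ot => by rw [top_inf_eq]; exact hl t ht ot,
    fun t ht ot => by rw [top_inf_eq]; exact hr t ht ot⟩

theorem Rel.restrict {L P Y : Subgroup G} (h : Rel ⊤ L P) (hL : L ≤ Y) (hP : P ≤ Y) : Rel Y L P := by
  refine ⟨hL, hP, h.ne, h.comm, fun t ht ot => ?_, fun t ht ot => ?_⟩
  · have h1 := h.l ht ot
    exact h1.mono (le_inf hL h1.1) inf_le_right
  · have h1 := h.r ht ot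
    exact h1.mono (le_inf hP h1.1) inf_le_right

theorem cj_cen (g t : G) : IntrinsicBasic.cj g (centralizer ({t} : Set G)) = centralizer ({g * t * g⁻¹} : Set G) :=
  cj_centralizer g t

theorem Rel.cj {L P : Subgroup G} (h : Rel ⊤ L P) (g : G) :
    Rel ⊤ (IntrinsicBasic.cj g L) (IntrinsicBasic.cj g P) := by
  have key : ∀ {A B : Subgroup G}, Rel ⊤ A B → ∀ t ∈ IntrinsicBasic.cj g B, orderOf t = 2 →
      Cmp (centralizer ({t} : Set G)) (IntrinsicBasic.cj g A) := by
    intro A B hAB t ht ot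
    have h1 := mem_cj.mp ht
    have h2 : orderOf (g⁻¹ * t * g) = 2 := by
      have := orderOf_conj' g⁻¹ t
      rw [inv_inv] at this
      rw [this, ot]
    have h3 := (hAB.l h1 h2).cj g
    rw [cj_cen] at h3
    have e : g * (g⁻¹ * t * g) * g⁻¹ = t := by group
    rwa [e] at h3
  exact Rel.mk' (fun he => h.ne (cj_injective g he)) (comm_cj h.comm g) (key h) (key h.symm)

/-- perfect groups of automorphisms commuting with `t` are trivial -/
def Solv (L : Subgroup G) : Prop := ∀ t ∈ L, orderOf t = 2 → ∀ D : Subgroup G, ⁅D, D⁆ = D →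
  D ≤ normalizer (L : Set G) → (∀ d ∈ D, d * t = t * d) → D ≤ centralizer (L : Set G)

/-- `A ~ B ~ C` -/
theorem Rel.trans [Finite G] {A B C : Subgroup G} (hA : SP A) (hB : SP B) (hC : SP C) (hs : Solv B)
    (he : ∃ t ∈ B, orderOf t = 2)
    (h1 : Rel ⊤ A B) (h2 : Rel ⊤ B C) (hne : A ≠ C) : Rel ⊤ A C := by
  obtain ⟨b, hb, ob⟩ := he
  have hcomm : Comm A C := (h1.l hb ob).comm_of_ne (h2.r hb ob) hA hC hne
  have key : ∀ {A C : Subgroup G}, SP A → Rel ⊤ A B → Rel ⊤ B C → Comm A C → ∀ t ∈ C, orderOf t = 2 →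
      Cmp (centralizer ({t} : Set G)) A := by
    intro A C hA h1 h2 hc t ht ot
    refine Cmp.of_cent (M := B) (τ := b) (h2.l ht ot) hB hb hA ?_ (hs b hb ob)
    have h3 := h1.l hb ob
    refine h3.mono (le_inf ?_ h3.1) inf_le_right
    intro a ha
    exact mem_cen.mpr (hc a ha t ht)
  exact Rel.mk' hne hcomm (key hA h1 h2 hcomm) (key hC h2.symm h1.symm hcomm.symm)

/-! ### diagonals -/

/-- the diagonal of `P` and `P^t` -/
theorem exists_diag {P : Subgroup G} {t : G} (hp : ⁅P, P⁆ = P) (hc : Comm P (IntrinsicBasic.cj t P)) (ht : t * t = 1) :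
    ∃ D : Subgroup G, ⁅D, D⁆ = D ∧ (∀ d ∈ D, d * t = t * d) ∧ (∀ x ∈ P, x * (t * x * t⁻¹) ∈ D) := by
  have hti : t⁻¹ = t := inv_eq_of_mul_eq_one_left ht
  let f : ↥P →* G :=
    { toFun := fun x => (x : G) * (t * x * t⁻¹)
      map_one' := by simp
      map_mul' := by
        intro x y
        have h1 := hc y y.2 _ (conj_mem_cj (g := t) x.2)
        calc ((x * y : ↥P) : G) * (t * ((x * y : ↥P) : G) * t⁻¹)
            = x * (y * (t * x * t⁻¹)) * (t * y * t⁻¹) := by rw [Subgroup.coe_mul]; group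
          _ = x * (t * x * t⁻¹) * (y * (t * y * t⁻¹)) := by rw [h1]; group }
  have hf : ∀ x : ↥P, f x = (x : G) * (t * x * t⁻¹) := fun _ => rfl
  refine ⟨(⊤ : Subgroup ↥P).map f, ?_, ?_, ?_⟩
  · rw [← Subgroup.map_commutator]
    congr 1
    apply Subgroup.map_injective P.subtype_injective
    rw [Subgroup.map_commutator, ← MonoidHom.range_eq_map, Subgroup.range_subtype, hp]
  · rintro - ⟨x, -, rfl⟩
    rw [hf]
    have h1 := hc x x.2 _ (conj_mem_cj (g := t) x.2)
    calc (x : G) * (t * x * t⁻¹) * t = (x : G) * (t * x * t⁻¹) * t := rfl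
      _ = t * x * t⁻¹ * x * t := by rw [h1]
      _ = t * (x * (t⁻¹ * x * t)) := by group
      _ = t * (x * (t * x * t⁻¹)) := by rw [hti]
  · intro x hx
    exact ⟨⟨x, hx⟩, mem_top _, rfl⟩

/-- an element commuting with `b b'` cannot move `P ∋ b` to a group commuting with `P` and `R ∋ b'` -/
theorem perm_two {P R : Subgroup G} (hP : SP P) (hPR : Comm P R) {x b b' : G} (hb : b ∈ P) (hb' : b' ∈ R)
    (hb1 : b ≠ 1) (hx : x * (b * b') = b * b' * x) (h1 : Comm (IntrinsicBasic.cj x P) P)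
    (h2 : Comm (IntrinsicBasic.cj x P) R) : False := by
  apply hb1
  refine hP.eq_one_of_comm hb fun c hc => ?_
  have hc' := conj_mem_cj (g := x) hc
  have e1 := h1 _ hc' b hb
  have e2 := h2 _ hc' b' hb'
  have e3 : x * c * x⁻¹ * (b * b') = b * b' * (x * c * x⁻¹) := by
    calc x * c * x⁻¹ * (b * b') = (x * c * x⁻¹ * b) * b' := by group
      _ = b * (x * c * x⁻¹ * b') := by rw [e1]; group
      _ = b * b' * (x * c * x⁻¹) := by rw [e2]; group
  have e4 : x⁻¹ * (b * b') = b * b' * x⁻¹ := by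
    calc x⁻¹ * (b * b') = x⁻¹ * (b * b' * x) * x⁻¹ := by group
      _ = x⁻¹ * (x * (b * b')) * x⁻¹ := by rw [hx]
      _ = b * b' * x⁻¹ := by group
  have e5 : c * (b * b') = b * b' * c := by
    calc c * (b * b') = x⁻¹ * (x * c * x⁻¹ * (x * (b * b') * x⁻¹)) * x := by group
      _ = x⁻¹ * (x * c * x⁻¹ * (b * b')) * x := by rw [hx]; group
      _ = x⁻¹ * (b * b') * (x * c * x⁻¹) * x := by rw [e3]; group
      _ = b * b' * c := by rw [e4]; group
  have e6 := hPR c hc b' hb'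
  have e7 : c * b * b' = b * c * b' := by
    calc c * b * b' = c * (b * b') := by group
      _ = b * (b' * c) := by rw [e5]; group
      _ = b * c * b' := by rw [← e6]; group
  exact mul_right_cancel e7

/-! ### The relation `rl` -/

/-- equality or `Rel ⊤` on `SS` -/
def rl (SS : Set (Subgroup G)) (L P : Subgroup G) : Prop := L ∈ SS ∧ P ∈ SS ∧ (L = P ∨ Rel ⊤ L P)

variable {SS : Set (Subgroup G)}

theorem rl.symm {L P : Subgroup G} (h : rl SS L P) : rl SS P L :=
  ⟨h.2.1, h.1, h.2.2.elim (fun h => Or.inl h.symm) fun h => Or.inr h.symm⟩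

theorem rl.refl {L : Subgroup G} (h : L ∈ SS) : rl SS L L := ⟨h, h, Or.inl rfl⟩

theorem rl.comm {L P : Subgroup G} (h : rl SS L P) (hne : L ≠ P) : Comm L P :=
  (h.2.2.resolve_left hne).comm

theorem rl.cj (hcj : ∀ L ∈ SS, ∀ g : G, IntrinsicBasic.cj g L ∈ SS) {L P : Subgroup G} (h : rl SS L P) (g : G) :
    rl SS (IntrinsicBasic.cj g L) (IntrinsicBasic.cj g P) :=
  ⟨hcj _ h.1 g, hcj _ h.2.1 g, h.2.2.elim (fun h => Or.inl (by rw [h])) fun h => Or.inr (h.cj g)⟩

theorem rl.trans [Finite G] (hsp : ∀ L ∈ SS, SP L) (hs : ∀ L ∈ SS, Solv L)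
    (he : ∀ L ∈ SS, ∃ t ∈ L, orderOf t = 2)
    {A B C : Subgroup G} (h1 : rl SS A B) (h2 : rl SS B C) : rl SS A C := by
  obtain ⟨hA, hB, h1⟩ := h1
  obtain ⟨-, hC, h2⟩ := h2
  refine ⟨hA, hC, ?_⟩
  rcases h1 with rfl | h1
  · exact h2
  · rcases h2 with rfl | h2
    · exact Or.inr h1
    · by_cases hAC : A = C
      · exact Or.inl hAC
      · exact Or.inr (h1.trans (hsp A hA) (hsp B hB) (hsp C hC) (hs B hB) (he B hB) h2 hAC)

namespace Base

variable (h : Base SS)
include h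

theorem sp {L : Subgroup G} (hL : L ∈ SS) : SP L := ⟨h.simple L hL, h.perfect L hL⟩

theorem sv {L : Subgroup G} (hL : L ∈ SS) : Solv L := fun t ht ot D => h.solv L hL t ht ot D

theorem trans [Finite G] {A B C : Subgroup G} (h1 : rl SS A B) (h2 : rl SS B C) : rl SS A C :=
  h1.trans (fun _ => h.sp) (fun _ => h.sv) h.even h2

/-- (L1) -/
theorem ti [Finite G] {L L' : Subgroup G} (hL : L ∈ SS) (hL' : L' ∈ SS) {b : G} (hb : b ∈ L) (hb' : b ∈ L')
    (ob : orderOf b = 2) : L = L' := by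
  obtain ⟨P, hP, hLP⟩ := h.part L hL
  obtain ⟨P', hP', hLP'⟩ := h.part L' hL'
  have hsP := h.sp hP
  have hsP' := h.sp hP'
  have final : rl SS L L' → L = L' := by
    intro hr
    by_contra hne
    have hc := hr.comm hne
    exact ne_one_of_ord ob ((h.sp hL).eq_one_of_comm hb fun x hx => hc x hx b hb')
  apply final
  have hPb := hLP.r hb ob
  have hPb' := hLP'.r hb' ob
  have hLP1 : rl SS L P := ⟨hL, hP, Or.inr hLP⟩
  have hLP1' : rl SS L' P' := ⟨hL', hP', Or.inr hLP'⟩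
  by_cases hPP : P = P'
  · subst hPP
    exact h.trans hLP1 hLP1'.symm
  · have hc : Comm P P' := hPb.comm_of_ne hPb' hsP hsP' hPP
    have key : ∀ {L' P P' : Subgroup G}, L' ∈ SS → P ∈ SS → b ∈ L' → Rel ⊤ L' P' → Comm P P' →
        Cmp (centralizer ({b} : Set G)) P → ∀ t ∈ P', orderOf t = 2 → Cmp (centralizer ({t} : Set G)) P := by
      intro L' P P' hL' hP hb' hLP' hc hPb t ht ot
      refine Cmp.of_cent (M := L') (τ := b) (hLP'.l ht ot) (h.sp hL') hb' (h.sp hP) ?_ (h.sv hL' b hb' ob)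
      refine hPb.mono (le_inf ?_ hPb.1) inf_le_right
      intro a ha
      exact mem_cen.mpr (hc a ha t ht)
    have hr : Rel ⊤ P P' := Rel.mk' hPP hc (key hL' hP hb' hLP' hc hPb) (key hL hP' hb hLP hc.symm hPb')
    exact h.trans (h.trans hLP1 ⟨hP, hP', Or.inr hr⟩) hLP1'.symm

/-- (L3) -/
theorem cenle [Finite G] {L : Subgroup G} (hL : L ∈ SS) {t : G} (ht : t ∈ L) (ot : orderOf t = 2) :
    centralizer ({t} : Set G) ≤ normalizer (L : Set G) := by
  intro g hg
  rw [mem_normalizer_iff_cj]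
  refine (h.ti hL (h.cj_mem L hL g) (b := t) ht ?_ ot).symm
  rw [mem_cj]
  have h1 := mem_cen.mp hg
  have e : g⁻¹ * t * g = t := by rw [mul_assoc, ← h1]; group
  rwa [e]

/-- (L0) -/
theorem cen [Finite G] {L L' : Subgroup G} (hL : L ∈ SS) (hL' : L' ∈ SS) {b : G} (hb : b ∈ L') (ob : orderOf b = 2)
    (hbL : b ∈ centralizer (L : Set G)) : Comm L' L := by
  have h1 : ∀ x ∈ L, x * b = b * x := fun x hx => mem_centralizer_iff.mp hbL x hx
  have h2 : L ≤ normalizer (L' : Set G) := fun x hx => h.cenle hL' hb ob (mem_cen.mpr (h1 x hx))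
  exact (comm_iff_le_centralizer.mpr (h.solv L' hL' b hb ob L (h.perfect L hL) h2 h1)).symm

/-- (L2) -/
theorem spread [Finite G] {L L' P : Subgroup G} (hL : L ∈ SS) (hL' : L' ∈ SS) (hc : Comm L' L) (hr : rl SS L P) :
    L' = P ∨ Comm L' P := by
  have hP := hr.2.1
  have hsP := h.sp hP
  have hsL' := h.sp hL'
  by_cases hPL : P = L
  · right; rw [hPL]; exact hc
  by_cases hPL' : L' = P
  · left; exact hPL'
  right
  obtain ⟨t₀, ht₀, ot₀⟩ := h.even L' hL'
  obtain ⟨b, hb, ob⟩ := h.even P hP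
  have hclass : ∀ g ∈ L', rl SS (cj g P) P := by
    intro g hg
    have h1 : cj g L = L := by
      ext x
      rw [mem_cj]
      constructor
      · intro hx
        have h2 := hc g hg _ hx
        have e : g⁻¹ * x * g = x := by
          have h3 : g * (g⁻¹ * x * g) = x * g := by group
          rw [h3] at h2
          exact (mul_right_cancel h2).symm
        rwa [e] at hx
      · intro hx
        have h2 := hc g hg _ hx
        have e : g⁻¹ * x * g = x := by rw [mul_assoc, ← h2]; group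
        rwa [e]
    have h2 := hr.cj h.cj_mem g
    rw [h1] at h2
    exact h.trans h2.symm hr
  -- step 1
  have hN1 : ∀ t ∈ L', orderOf t = 2 → t ∈ normalizer (P : Set G) := by
    intro t ht ot
    by_contra htN
    have hRP := hclass t ht
    have hne : P ≠ cj t P := fun he => htN (mem_normalizer_iff_cj.mpr he.symm)
    have hcPR : Comm P (cj t P) := (hRP.comm hne.symm).symm
    obtain ⟨D, hD, hDt, hDx⟩ := exists_diag hsP.perfect hcPR (sq_of_ord ot)
    have hDN : D ≤ normalizer (L' : Set G) := fun d hd => h.cenle hL' ht ot (mem_cen.mpr (hDt d hd))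
    have hDC : D ≤ centralizer (L' : Set G) := h.solv L' hL' t ht ot D hD hDN hDt
    have htwo : ∀ x ∈ L', cj x P = P ∨ cj x P = cj t P := by
      intro x hx
      by_contra hcon
      push Not at hcon
      have h1 := hclass x hx
      have h2 : rl SS (cj x P) (cj t P) := h.trans h1 hRP.symm
      exact perm_two hsP hcPR hb (conj_mem_cj hb) (ne_one_of_ord ob)
        (mem_centralizer_iff.mp (hDC (hDx b hb)) x hx) (h1.comm hcon.1) (h2.comm hcon.2)
    refine htN (le_of_two (D := normalizer (P : Set G)) hsL'.perfect ?_ ht)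
    intro x hx y hy hxN hyN
    have hy2 : cj y P = cj t P := (htwo y hy).resolve_left fun he => hyN (mem_normalizer_iff_cj.mpr he)
    have hx2 : cj x P = cj t P := (htwo x hx).resolve_left fun he => hxN (mem_normalizer_iff_cj.mpr he)
    rw [mem_normalizer_iff_cj]
    rcases htwo (x * y) (L'.mul_mem hx hy) with h1 | h1
    · exact h1
    · exfalso
      rw [cj_mul, ← hx2] at h1
      exact hyN (mem_normalizer_iff_cj.mpr (cj_injective x h1))
  -- step 2
  have hN : L' ≤ normalizer (P : Set G) := by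
    refine hsL'.le_of_conj (S := {t | t ∈ L' ∧ orderOf t = 2}) ?_ (fun t ht => hN1 t ht.1 ht.2) (s := t₀)
      ⟨ht₀, ot₀⟩ ht₀ (ne_one_of_ord ot₀)
    rintro x hx t ⟨ht, ot⟩
    exact ⟨L'.mul_mem (L'.mul_mem hx ht) (L'.inv_mem hx), by rw [orderOf_conj', ot]⟩
  -- step 3
  set X : Set G := {x | x ∈ P ∧ ∃ t ∈ L', orderOf t = 2 ∧ x * t = t * x} with hX
  have hXP : closure X ≤ P := by
    rw [closure_le]
    exact fun x hx => hx.1
  have hXN : closure X ≤ normalizer (L' : Set G) := by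
    rw [closure_le]
    rintro x ⟨-, t, ht, ot, hxt⟩
    exact h.cenle hL' ht ot (mem_cen.mpr hxt)
  have hLX : L' ≤ normalizer (closure X : Set G) := by
    apply le_normalizer_of_conj
    intro x hx y hy
    have h3 : closure X ≤ (closure X).comap (MulAut.conj x).toMonoidHom := by
      rw [closure_le]
      rintro z ⟨hz, t, ht, ot, hzt⟩
      refine subset_closure ⟨(mem_normalizer_iff.mp (hN hx) z).mp hz, x * t * x⁻¹,
        L'.mul_mem (L'.mul_mem hx ht) (L'.inv_mem hx), by rw [orderOf_conj', ot], ?_⟩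
      change x * z * x⁻¹ * (x * t * x⁻¹) = x * t * x⁻¹ * (x * z * x⁻¹)
      calc x * z * x⁻¹ * (x * t * x⁻¹) = x * (z * t) * x⁻¹ := by group
        _ = x * t * x⁻¹ * (x * z * x⁻¹) := by rw [hzt]; group
    exact h3 hy
  obtain ⟨e, he, oe, hte⟩ := exists_fix_inv hb ob ot₀ (hN ht₀)
  have heX : e ∈ closure X := subset_closure ⟨he, t₀, ht₀, ot₀, hte.symm⟩
  rcases hsL'.le_or_inf hLX with h1 | h1
  · exact absurd (h.ti hL' hP ht₀ (hXP (h1 ht₀)) ot₀) hPL'
  · refine (h.cen hL' hP he oe ?_).symm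
    rw [mem_centralizer_iff]
    intro y hy
    have h2 : y * e * y⁻¹ * e⁻¹ ∈ L' ⊓ closure X := by
      refine ⟨?_, ?_⟩
      · have h3 : e * y⁻¹ * e⁻¹ ∈ L' := (mem_normalizer_iff.mp (hXN heX) _).mp (L'.inv_mem hy)
        have e4 : y * e * y⁻¹ * e⁻¹ = y * (e * y⁻¹ * e⁻¹) := by group
        rw [e4]
        exact L'.mul_mem hy h3
      · exact (closure X).mul_mem ((mem_normalizer_iff.mp (hLX hy) _).mp heX) ((closure X).inv_mem heX)
    rw [h1, mem_bot] at h2
    calc y * e = y * e * y⁻¹ * e⁻¹ * (e * y) := by group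
      _ = e * y := by rw [h2, one_mul]

/-- **`Base` gives `Sys`.** -/
theorem sys [Finite G] : Sys SS (rl SS) where
  cj_mem := h.cj_mem
  rel_mem := fun _ _ _ hr => hr.2.1
  refl := fun _ hL => rl.refl hL
  symm := fun _ _ hr => hr.symm
  trans := fun _ _ _ h1 h2 => h.trans h1 h2
  relcj := fun _ _ hr g => hr.cj h.cj_mem g
  part := by
    intro L hL
    obtain ⟨P, hP, hr⟩ := h.part L hL
    exact ⟨P, ⟨hL, hP, Or.inr hr⟩, hr.ne.symm⟩
  comm := fun _ _ _ hr hne => hr.comm hne.symm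
  cen := fun _ hL _ hL' _ hb ob hbL => h.cen hL hL' hb ob hbL
  ti := fun _ hL _ hL' _ hb hb' ob => h.ti hL hL' hb hb' ob
  spread := fun _ hL _ hL' hc _ hr => h.spread hL hL' hc hr
  cenle := fun _ hL _ ht ot => h.cenle hL ht ot

end Base

end Cfsg.Agent.UGT.Blk
end
end

-- part: UGT/U2/FOne/PSU
section
prune_inst 0x10000000000000
set_option linter.all false
open scoped Cfsg.Agent.FastGrp

-- part: UGT/U2/FOne/PSUSemiPos
section
/-!
# (f1) for `PSU_n(q)`: semilinear involutions with `T² = 1`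
-/

set_option autoImplicit false
set_option linter.unusedSectionVars false

namespace Cfsg.Agent.UGT.U2.FOne.PSUSemi

open Matrix Cfsg
open Cfsg.Agent.LieClassical.HermBasic Cfsg.Agent.LieClassical.HermSiegel
open Cfsg.Agent.ClassicalGeometry.PSUAutCount (gm semiConj toAut gm_mul gm_one gm_mul_inv gm_inv_mul eq_of_toAut_eq
  toAut_tau exists_r sc gm_sc_mul toAut_sc_mul herm_gm act_semiConj herm_semi gm_mulVec_inv gm_inv_mulVec)
open Cfsg.Agent.ClassicalGeometry.UnitAutBasic (pr pr_surjective tau tau_def c0 c0_tr c0_ne_zero tau_eq_tau_iff T_eq)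
open Cfsg.Agent.Schreier.PSU (f₁ f₂ toAut_eq mapGU conj_field toAut_pr' gm_mapGU)
open Cfsg.Agent.ClassicalGeometry.PSUAutExt (isSiegel_semi semiConj_siegel)

variable {F : Type*} [Field F] [Fintype F] {q n : ℕ}

/-! ### isotropic vectors of the form -/

/-- The fixed field. -/
def KF (hF : Fintype.card F = q ^ 2) : Subfield F :=
  RingHom.eqLocusField (conj hF : F →+* F) (RingHom.id F)

/-- conics over the fixed field have points -/
theorem exists_conic (hF : Fintype.card F = q ^ 2) (h2 : (2 : F) ≠ 0) {a b c : F} (ha : a ^ q = a) (hb : b ^ q = b)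
    (hc : c ^ q = c) (ha0 : a ≠ 0) (hb0 : b ≠ 0) :
    ∃ x y : F, x ^ q = x ∧ y ^ q = y ∧ a * (x * x) + b * (y * y) + c = 0 := by
  classical
  have : Fintype (KF hF) := Fintype.ofFinite _
  have hcard : Fintype.card (KF hF) = q := by
    rw [← Nat.card_eq_fintype_card]
    exact card_fixed hF
  have hodd : Fintype.card (KF hF) % 2 = 1 := by
    rw [← Nat.odd_iff]
    rw [← Nat.not_even_iff_odd]
    intro he
    apply h2
    have h3 : ringChar (KF hF) = 2 := FiniteField.even_card_iff_char_two.2 (Nat.even_iff.1 he)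
    have h4 : ((2 : ℕ) : KF hF) = 0 := by rw [← h3]; exact ringChar.Nat.cast_ringChar
    have h6 : (1 : KF hF) + 1 = 0 := by rw [← h4]; norm_num
    have h5 : (1 : F) + 1 = 0 := congrArg Subtype.val h6
    rw [← h5]; norm_num
  let a' : KF hF := ⟨a, ha⟩
  let b' : KF hF := ⟨b, hb⟩
  let c' : KF hF := ⟨c, hc⟩
  have ha' : a' ≠ 0 := fun h => ha0 (congrArg Subtype.val h)
  have hb' : b' ≠ 0 := fun h => hb0 (congrArg Subtype.val h)
  obtain ⟨x, y, hxy⟩ := FiniteField.exists_root_sum_quadratic (R := KF hF)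
    (f := Polynomial.C a' * Polynomial.X ^ 2 + Polynomial.C 0 * Polynomial.X + Polynomial.C 0)
    (g := Polynomial.C b' * Polynomial.X ^ 2 + Polynomial.C 0 * Polynomial.X + Polynomial.C c')
    (Polynomial.degree_quadratic ha') (Polynomial.degree_quadratic hb') hodd
  refine ⟨x, y, x.2, y.2, ?_⟩
  simp only [Polynomial.eval_add, Polynomial.eval_mul, Polynomial.eval_C, Polynomial.eval_pow,
    Polynomial.eval_X, zero_mul, add_zero] at hxy
  have h5 := congrArg (fun t : KF hF => (t : F)) hxy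
  simp only [Subfield.coe_add, Subfield.coe_mul, Subfield.coe_zero, SubmonoidClass.coe_pow] at h5
  linear_combination h5

/-- two vectors do not span -/
theorem exists_not_comb (hn : 3 ≤ n) (a b : Fin n → F) : ∃ v : Fin n → F, ∀ x y : F, v ≠ x • a + y • b := by
  classical
  by_contra hcon
  push Not at hcon
  have h1 : Submodule.span F ({a, b} : Set (Fin n → F)) = ⊤ := by
    rw [eq_top_iff]
    intro v _
    obtain ⟨x, y, h⟩ := hcon v
    rw [Submodule.mem_span_pair]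
    exact ⟨x, y, h.symm⟩
  have h3 : Module.finrank F (Fin n → F) ≤ 2 := by
    rw [← finrank_top, ← h1]
    have h4 := finrank_span_finset_le_card (R := F) ({a, b} : Finset (Fin n → F))
    rw [Set.finrank, Finset.coe_insert, Finset.coe_singleton] at h4
    exact h4.trans Finset.card_le_two
  rw [Module.finrank_fin_fun] at h3
  omega

namespace Sm

variable {T : (Fin n → F) → (Fin n → F)}

/-- There are nonisotropic vectors of the form orthogonal to `a` and `b`. -/
theorem exists_aniso (hF : Fintype.card F = q ^ 2) (h2 : (2 : F) ≠ 0) (hn : 3 ≤ n) (h : Sm q T (1 : F))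
    (a b : Fin n → F) (P : (Fin n → F) → (Fin n → F))
    (hP : ∀ v, T v = (1 : F) • v → T (P v) = (1 : F) • P v ∧ hermForm n F q (P v) a = 0 ∧ hermForm n F q (P v) b = 0 ∧
      ∃ x y : F, v = P v + (x • a + y • b)) :
    ∃ v, T v = (1 : F) • v ∧ hermForm n F q v a = 0 ∧ hermForm n F q v b = 0 ∧ hermForm n F q v v ≠ 0 := by
  have hl : (1 : F) * 1 ^ q = 1 := by rw [one_pow, one_mul]
  by_contra hcon
  push Not at hcon
  have h0 : ∀ u v, T u = (1 : F) • u → T v = (1 : F) • v → hermForm n F q u a = 0 → hermForm n F q u b = 0 →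
      hermForm n F q v a = 0 → hermForm n F q v b = 0 → hermForm n F q u v = 0 := by
    intro u v hu hv hua hub hva hvb
    have h3 := hcon (u + v) (h.mem_add hu hv) (by rw [herm_add_left, hua, hva, add_zero])
      (by rw [herm_add_left, hub, hvb, add_zero])
    rw [herm_add_left, herm_add_right hF, herm_add_right hF, hcon u hu hua hub, hcon v hv hva hvb,
      herm_swap hF u v, h.herm_form hl hu hv] at h3
    have h4 : (2 : F) * hermForm n F q u v = 0 := by linear_combination h3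
    exact (mul_eq_zero.1 h4).resolve_left h2
  have h3 : ∀ v, T v = (1 : F) • v → P v = 0 := by
    intro v hv
    obtain ⟨p1, p2, p3, -⟩ := hP v hv
    refine h.eq_zero_of_orth hF h2 hl fun w hw => ?_
    obtain ⟨w1, w2, w3, x, y, hxy⟩ := hP w hw
    rw [hxy, herm_add_right hF, herm_add_right hF, herm_smul_right, herm_smul_right, p2, p3,
      h0 _ _ p1 w1 p2 p3 w2 w3]
    ring
  obtain ⟨v, hv⟩ := exists_not_comb hn a b
  obtain ⟨s, t, x, y, hx, hy, hs⟩ := h.exists_comb hF h2 hl v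
  obtain ⟨-, -, -, x1, x2, hx12⟩ := hP x hx
  obtain ⟨-, -, -, y1, y2, hy12⟩ := hP y hy
  rw [h3 x hx, zero_add] at hx12
  rw [h3 y hy, zero_add] at hy12
  apply hv (s * x1 + t * y1) (s * x2 + t * y2)
  rw [hs, hx12, hy12]
  module

/-- There is an isotropic vector in the form. -/
theorem exists_iso (hF : Fintype.card F = q ^ 2) (h2 : (2 : F) ≠ 0) (hn : 3 ≤ n) (h : Sm q T (1 : F)) :
    ∃ e, T e = (1 : F) • e ∧ e ≠ 0 ∧ hermForm n F q e e = 0 := by
  have hl : (1 : F) * 1 ^ q = 1 := by rw [one_pow, one_mul]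
  have hpow : ∀ {u v : Fin n → F}, T u = (1 : F) • u → T v = (1 : F) • v →
      hermForm n F q u v ^ q = hermForm n F q u v := fun hu hv => by
    rw [h.herm_form hl hu hv, one_mul]
  obtain ⟨u, hu, -, -, huu⟩ := h.exists_aniso hF h2 hn 0 0 (fun v => v) (fun v hv =>
    ⟨hv, herm_zero_right hF v, herm_zero_right hF v, 0, 0, by simp⟩)
  -- second vector
  obtain ⟨v, hv, hvu, -, hvv⟩ := h.exists_aniso hF h2 hn u 0
    (fun v => v - (hermForm n F q v u / hermForm n F q u u) • u) (fun v hv =>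
    ⟨h.mem_sub hF hv (h.mem_smul (by rw [div_pow, hpow hv hu, hpow hu hu]) hu), by
      rw [herm_sub_left, herm_smul_left, div_mul_cancel₀ _ huu, sub_self], herm_zero_right hF _,
      hermForm n F q v u / hermForm n F q u u, 0, by simp⟩)
  obtain ⟨w, hw, hwu, hwv, hww⟩ := h.exists_aniso hF h2 hn u v
    (fun w => w - (hermForm n F q w u / hermForm n F q u u) • u - (hermForm n F q w v / hermForm n F q v v) • v)
    (fun w hw =>
    ⟨h.mem_sub hF (h.mem_sub hF hw (h.mem_smul (by rw [div_pow, hpow hw hu, hpow hu hu]) hu))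
      (h.mem_smul (by rw [div_pow, hpow hw hv, hpow hv hv]) hv), by
      rw [herm_sub_left, herm_sub_left, herm_smul_left, herm_smul_left, div_mul_cancel₀ _ huu, hvu]
      ring, by
      rw [herm_sub_left, herm_sub_left, herm_smul_left, herm_smul_left, div_mul_cancel₀ _ hvv,
        herm_eq_zero_swap hF hvu]
      ring,
      hermForm n F q w u / hermForm n F q u u, hermForm n F q w v / hermForm n F q v v, by module⟩)
  obtain ⟨x, y, hx, hy, hxy⟩ := exists_conic hF h2 (hpow hu hu) (hpow hv hv) (hpow hw hw) huu hvv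
  refine ⟨x • u + y • v + w, h.mem_add (h.mem_add (h.mem_smul hx hu) (h.mem_smul hy hv)) hw, ?_, ?_⟩
  · intro h0
    have h3 := congrArg (fun z => hermForm n F q z w) h0
    simp only [herm_add_left, herm_smul_left, herm_zero_left, herm_eq_zero_swap hF hwu,
      herm_eq_zero_swap hF hwv] at h3
    apply hww
    linear_combination h3
  · have e1 := herm_eq_zero_swap hF hwu
    have e2 := herm_eq_zero_swap hF hwv
    have e3 := herm_eq_zero_swap hF hvu
    simp only [herm_add_left, herm_add_right hF, herm_smul_left, herm_smul_right, hwu, hwv, hvu, e1, e2, e3, hx, hy]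
    linear_combination hxy

/-- There is a hyperbolic pair in the form. -/
theorem exists_hyp (hF : Fintype.card F = q ^ 2) (h2 : (2 : F) ≠ 0) (hn : 3 ≤ n) (h : Sm q T (1 : F)) :
    ∃ e f, T e = (1 : F) • e ∧ T f = (1 : F) • f ∧ hermForm n F q e e = 0 ∧ hermForm n F q f f = 0 ∧
      hermForm n F q e f = 1 := by
  have hl : (1 : F) * 1 ^ q = 1 := by rw [one_pow, one_mul]
  have hpow : ∀ {u v : Fin n → F}, T u = (1 : F) • u → T v = (1 : F) • v →
      hermForm n F q u v ^ q = hermForm n F q u v := fun hu hv => by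
    rw [h.herm_form hl hu hv, one_mul]
  obtain ⟨e, he, he0, hee⟩ := h.exists_iso hF h2 hn
  have h3 : ∃ g, T g = (1 : F) • g ∧ hermForm n F q e g ≠ 0 := by
    by_contra hcon
    push Not at hcon
    exact he0 (h.eq_zero_of_orth hF h2 hl hcon)
  obtain ⟨g, hg, heg⟩ := h3
  have hge : hermForm n F q g e = hermForm n F q e g := by rw [herm_swap hF e g, hpow he hg]
  set a := hermForm n F q e g with ha
  have haq : a ^ q = a := hpow he hg
  set b := hermForm n F q g g with hb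
  have hbq : b ^ q = b := hpow hg hg
  have h2q : (2 : F) ^ q = 2 := by
    have : (2 : F) = 1 + 1 := by norm_num
    rw [this, add_pow_q hF, one_pow]
  refine ⟨e, a⁻¹ • g - (b / (2 * a * a)) • e, he,
    h.mem_sub hF (h.mem_smul (by rw [inv_pow, haq]) hg)
      (h.mem_smul (by rw [div_pow, mul_pow, mul_pow, haq, hbq, h2q]) he), hee, ?_, ?_⟩
  · simp only [herm_sub_left, herm_sub_right hF, herm_smul_left, herm_smul_right, hee, hge, ← ha, ← hb, inv_pow,
      haq, hbq, div_pow, mul_pow, h2q]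
    field_simp
    ring
  · rw [herm_sub_right hF, herm_smul_right, herm_smul_right, hee, ← ha, inv_pow, haq]
    field_simp
    ring

end Sm

end Cfsg.Agent.UGT.U2.FOne.PSUSemi
end

-- part: UGT/U2/FOne/PSUSemiEnd
section
/-!
# (f1) for `PSU_n(q)`: semilinear involutions, the end
-/

set_option autoImplicit false
set_option linter.unusedSectionVars false

namespace Cfsg.Agent.UGT.U2.FOne.PSUSemi

open Matrix Cfsg
open Cfsg.Agent.LieClassical.HermBasic Cfsg.Agent.LieClassical.HermSiegel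
open Cfsg.Agent.ClassicalGeometry.PSUAutCount (gm semiConj toAut gm_mul gm_one gm_mul_inv gm_inv_mul eq_of_toAut_eq
  toAut_tau exists_r sc gm_sc_mul toAut_sc_mul herm_gm act_semiConj herm_semi gm_mulVec_inv gm_inv_mulVec)
open Cfsg.Agent.ClassicalGeometry.PSUAutBasic (siegel_pow_prime_pow)
open Cfsg.Agent.ClassicalGeometry.PSUAutSylow (siegel_pr_inj)
open Cfsg.Agent.Schreier.PSU (f₁ f₂ toAut_eq mapGU conj_field toAut_pr' gm_mapGU)
open Cfsg.Agent.ClassicalGeometry.PSUAutExt (isSiegel_semi semiConj_siegel)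
open Cfsg.Agent.ClassicalGeometry.UnitAutBasic (pr pr_surjective)

variable {F : Type*} [Field F] [Fintype F] {q n : ℕ}

/-! ### equality of Siegel transformations -/

section Siegel

variable {e w e' w' : Fin n → F} {μ μ' : F}

theorem siegel_eq_apply (hF : Fintype.card F = q ^ 2) {h : IsSiegel q e w μ} {h' : IsSiegel q e' w' μ'}
    (H : siegel hF e' w' μ' h' = siegel hF e w μ h) (y : Fin n → F) :
    hermForm n F q y e' • w' + (μ' * hermForm n F q y e' - hermForm n F q y w') • e' =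
      hermForm n F q y e • w + (μ * hermForm n F q y e - hermForm n F q y w) • e := by
  have h1 := congrArg (fun g => act g y) H
  simp only [act_siegel, add_assoc] at h1
  exact add_left_cancel h1

/-- the centre is determined if `w` is not isotropic -/
theorem siegel_centre (hF : Fintype.card F = q ^ 2) {h : IsSiegel q e w μ} {h' : IsSiegel q e' w' μ'}
    (H : siegel hF e' w' μ' h' = siegel hF e w μ h) (hw : hermForm n F q w' w' ≠ 0) (he : e' ≠ 0) :
    ∃ k : F, e' = k • e := by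
  -- the square of `g - 1`
  have hN : ∀ {e w : Fin n → F} {μ : F} (_ : IsSiegel q e w μ) (y : Fin n → F),
      hermForm n F q (hermForm n F q y e • w + (μ * hermForm n F q y e - hermForm n F q y w) • e) e = 0 ∧
      hermForm n F q (hermForm n F q y e • w + (μ * hermForm n F q y e - hermForm n F q y w) • e) w =
        hermForm n F q y e * hermForm n F q w w := by
    intro e w μ h y
    constructor
    · rw [herm_add_left, herm_smul_left, herm_smul_left, h.orth, h.iso]; ring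
    · rw [herm_add_left, herm_smul_left, herm_smul_left, h.orth' hF]; ring
  obtain ⟨y, hy⟩ := exists_herm_ne_zero hF he
  have hy' : hermForm n F q y e' ≠ 0 := fun h0 => hy (herm_eq_zero_swap hF h0)
  have h1 := siegel_eq_apply hF H y
  have h2 := siegel_eq_apply hF H
    (hermForm n F q y e • w + (μ * hermForm n F q y e - hermForm n F q y w) • e)
  have h3 := hN h' y
  have h4 := hN h y
  rw [h4.1, h4.2, ← h1, h3.1, h3.2] at h2
  simp only [zero_smul, mul_zero, zero_sub, zero_add, neg_smul] at h2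
  have h5 := neg_injective h2
  refine ⟨(hermForm n F q y e' * hermForm n F q w' w')⁻¹ * (hermForm n F q y e * hermForm n F q w w), ?_⟩
  rw [← smul_smul, ← h5, smul_smul, inv_mul_cancel₀ (mul_ne_zero hy' hw), one_smul]

/-- the second vector -/
theorem siegel_second (hF : Fintype.card F = q ^ 2) {h : IsSiegel q e w μ} {h' : IsSiegel q e' w' μ'}
    (H : siegel hF e' w' μ' h' = siegel hF e w μ h) {k : F} (hk : k ≠ 0) (he : e ≠ 0) (hke : e' = k • e) :
    ∃ b : F, w' = (k ^ q)⁻¹ • w + b • e := by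
  obtain ⟨y, hy⟩ := exists_herm_ne_zero hF he
  have hy' : hermForm n F q y e ≠ 0 := fun h0 => hy (herm_eq_zero_swap hF h0)
  have h1 := siegel_eq_apply hF H y
  subst hke
  rw [herm_smul_right] at h1
  have hkq : k ^ q ≠ 0 := pow_ne_zero _ hk
  set s := hermForm n F q y e with hs
  refine ⟨(k ^ q * s)⁻¹ * ((μ * s - hermForm n F q y w) - (μ' * (k ^ q * s) - hermForm n F q y w') * k), ?_⟩
  have h2 : (k ^ q * s) • w' = s • w + ((μ * s - hermForm n F q y w) -
      (μ' * (k ^ q * s) - hermForm n F q y w') * k) • e := by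
    rw [sub_smul, ← add_sub_assoc, ← h1, smul_smul]
    abel
  calc w' = (k ^ q * s)⁻¹ • ((k ^ q * s) • w') := by
        rw [smul_smul, inv_mul_cancel₀ (mul_ne_zero hkq hy'), one_smul]
    _ = _ := by
        rw [h2, smul_add, smul_smul, smul_smul]
        congr 2
        field_simp

end Siegel

/-! ### the case `T² = 1` -/

section Pos

variable {A B : GU n F q} {σ : F ≃+* F} {p : ℕ} [Fact p.Prime] [CharP F p]

theorem isSiegel_form (hF : Fintype.card F = q ^ 2) (h2 : (2 : F) ≠ 0) {e w : Fin n → F}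
    (hee : hermForm n F q e e = 0) (hwe : hermForm n F q w e = 0) :
    IsSiegel q e w (-(2⁻¹ * hermForm n F q w w)) ∧
      (-(2⁻¹ * hermForm n F q w w)) ^ q = -(2⁻¹ * hermForm n F q w w) := by
  have h2q : (2 : F) ^ q = 2 := by
    have : (2 : F) = 1 + 1 := by norm_num
    rw [this, add_pow_q hF, one_pow]
  have h3 : (-(2⁻¹ * hermForm n F q w w)) ^ q = -(2⁻¹ * hermForm n F q w w) := by
    rw [neg_pow_q hF, mul_pow, inv_pow, h2q, herm_self_pow hF]
  refine ⟨⟨hee, hwe, ?_⟩, h3⟩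
  rw [h3]
  field_simp
  ring

/-- `d` fixes the Siegel transformations of the form. -/
theorem siegel_fixed (hF : Fintype.card F = q ^ 2) (hn : 3 ≤ n)
    (hfix : ∀ v, toAut A (conj hF) v = v → (∃ k, v ^ p ^ k = 1) → toAut B σ v = v)
    {e w : Fin n → F} (he : S A (conj hF) e = (1 : F) • e) (hw : S A (conj hF) w = (1 : F) • w) {μ : F}
    (h : IsSiegel q e w μ) (hμ : μ ^ q = μ) :
    siegel hF (S B σ e) (S B σ w) (σ μ) (isSiegel_semi B σ h) = siegel hF e w μ h := by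
  rw [one_smul] at he hw
  have h1 : toAut A (conj hF) (pr n F q (siegel hF e w μ h)) = pr n F q (siegel hF e w μ h) := by
    rw [toAut_pr', semiConj_siegel]
    congr 1
    exact siegel_congr hF _ _ he hw hμ
  obtain ⟨k, hk⟩ := siegel_pow_prime_pow hF p h
  have h3 := hfix _ h1 ⟨k, by rw [← map_pow, hk, map_one]⟩
  rw [toAut_pr', semiConj_siegel] at h3
  exact siegel_pr_inj hF hn _ _ h3

/-- the conclusion for a hyperbolic pair of the form -/
theorem hyp_scalar (hF : Fintype.card F = q ^ 2) (hn : 3 ≤ n) (h2 : (2 : F) ≠ 0)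
    (hT : Sm q (S A (conj hF)) (1 : F))
    (hfix : ∀ v, toAut A (conj hF) v = v → (∃ k, v ^ p ^ k = 1) → toAut B σ v = v)
    {e f w0 : Fin n → F} (he : S A (conj hF) e = (1 : F) • e) (hf : S A (conj hF) f = (1 : F) • f)
    (hee : hermForm n F q e e = 0) (hff : hermForm n F q f f = 0) (hef : hermForm n F q e f = 1)
    (hw0 : S A (conj hF) w0 = (1 : F) • w0) (hwe : hermForm n F q w0 e = 0) (hwf : hermForm n F q w0 f = 0)
    (hww : hermForm n F q w0 w0 ≠ 0) :
    ∃ k : F, S B σ e = k • e ∧ S B σ f = k • f ∧ ∀ w, S A (conj hF) w = (1 : F) • w →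
      hermForm n F q w e = 0 → hermForm n F q w f = 0 → S B σ w = k • w := by
  have he0 : e ≠ 0 := by
    rintro rfl
    rw [herm_zero_left] at hef
    exact zero_ne_one hef
  have hf0 : f ≠ 0 := by
    rintro rfl
    rw [herm_zero_right hF] at hef
    exact zero_ne_one hef
  have hfe : hermForm n F q f e = 1 := by rw [herm_swap hF e f, hef, one_pow]
  -- `e` and `f` are eigenvectors
  have key : ∀ {u : Fin n → F}, S A (conj hF) u = (1 : F) • u → hermForm n F q u u = 0 → u ≠ 0 →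
      hermForm n F q w0 u = 0 → ∃ k : F, k ≠ 0 ∧ S B σ u = k • u := by
    intro u hu huu hu0 hwu
    obtain ⟨h, hμ⟩ := isSiegel_form hF h2 huu hwu
    have h1 := siegel_fixed hF hn hfix hu hw0 h hμ
    obtain ⟨k, hk⟩ := siegel_centre hF h1 (by
      rw [S_herm]
      exact (map_ne_zero σ).2 hww) (S_ne_zero B σ hu0)
    refine ⟨k, ?_, hk⟩
    rintro rfl
    rw [zero_smul] at hk
    exact S_ne_zero B σ hu0 hk
  obtain ⟨k, hk0, hk⟩ := key he hee he0 hwe
  obtain ⟨k', hk0', hk'⟩ := key hf hff hf0 hwf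
  have hkk : k * k' ^ q = 1 := by
    have h1 := S_herm B σ e f
    rw [hk, hk', herm_smul_left, herm_smul_right, hef, map_one, mul_one] at h1
    exact h1
  -- the vectors orthogonal to `e` and `f`
  have hw : ∀ w, S A (conj hF) w = (1 : F) • w → hermForm n F q w e = 0 → hermForm n F q w f = 0 →
      S B σ w = (k ^ q)⁻¹ • w ∧ S B σ w = (k' ^ q)⁻¹ • w := by
    intro w hw hwe hwf
    obtain ⟨h, hμ⟩ := isSiegel_form hF h2 hee hwe
    obtain ⟨h', hμ'⟩ := isSiegel_form hF h2 hff hwf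
    obtain ⟨b, hb⟩ := siegel_second hF (siegel_fixed hF hn hfix he hw h hμ) hk0 he0 hk
    obtain ⟨b', hb'⟩ := siegel_second hF (siegel_fixed hF hn hfix hf hw h' hμ') hk0' hf0 hk'
    have h3 := congrArg (fun v => hermForm n F q v f) (hb.symm.trans hb')
    have h4 := congrArg (fun v => hermForm n F q v e) (hb.symm.trans hb')
    simp only [herm_add_left, herm_smul_left, hwf, hwe, hef, hff, hee, hfe, mul_zero, mul_one, zero_add] at h3 h4
    rw [h3, zero_smul, add_zero] at hb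
    rw [← h4, zero_smul, add_zero] at hb'
    exact ⟨hb, hb'⟩
  have hw00 : w0 ≠ 0 := by
    rintro rfl
    rw [herm_zero_left] at hww
    exact hww rfl
  have h5 : (k ^ q)⁻¹ = (k' ^ q)⁻¹ := by
    obtain ⟨h3, h4⟩ := hw w0 hw0 hwe hwf
    rw [h3, ← sub_eq_zero, ← sub_smul] at h4
    exact sub_eq_zero.1 ((smul_eq_zero.1 h4).resolve_right hw00)
  have h6 : k = k' := (pow_q_inj hF).1 (inv_injective h5)
  subst h6
  have h7 : (k ^ q)⁻¹ = k := inv_eq_of_mul_eq_one_left hkk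
  refine ⟨k, hk, hk', fun w h3 h4 h5 => ?_⟩
  rw [(hw w h3 h4 h5).1, h7]

/-- **The case `T² = 1`.** -/
theorem key_pos (hF : Fintype.card F = q ^ 2) (hn : 3 ≤ n) (h2 : (2 : F) ≠ 0)
    (hT : Sm q (S A (conj hF)) (1 : F))
    (hfix : ∀ v, toAut A (conj hF) v = v → (∃ k, v ^ p ^ k = 1) → toAut B σ v = v) :
    (∀ a : F, a ^ q = a → σ a = a) ∧ ∃ k : F, ∀ v, S A (conj hF) v = (1 : F) • v → S B σ v = k • v := by
  have hl : (1 : F) * 1 ^ q = 1 := by rw [one_pow, one_mul]
  have hpow : ∀ {u v : Fin n → F}, S A (conj hF) u = (1 : F) • u → S A (conj hF) v = (1 : F) • v →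
      hermForm n F q u v ^ q = hermForm n F q u v := fun hu hv => by
    rw [hT.herm_form hl hu hv, one_mul]
  obtain ⟨e, f, he, hf, hee, hff, hef⟩ := hT.exists_hyp hF h2 hn
  have hfe : hermForm n F q f e = 1 := by rw [herm_swap hF e f, hef, one_pow]
  -- the projection to the orthogonal complement
  have hP : ∀ v, S A (conj hF) v = (1 : F) • v →
      S A (conj hF) (v - hermForm n F q v f • e - hermForm n F q v e • f) =
        (1 : F) • (v - hermForm n F q v f • e - hermForm n F q v e • f) ∧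
      hermForm n F q (v - hermForm n F q v f • e - hermForm n F q v e • f) e = 0 ∧
      hermForm n F q (v - hermForm n F q v f • e - hermForm n F q v e • f) f = 0 := by
    intro v hv
    refine ⟨hT.mem_sub hF (hT.mem_sub hF hv (hT.mem_smul (hpow hv hf) he)) (hT.mem_smul (hpow hv he) hf), ?_, ?_⟩
    · rw [herm_sub_left, herm_sub_left, herm_smul_left, herm_smul_left, hee, hfe]; ring
    · rw [herm_sub_left, herm_sub_left, herm_smul_left, herm_smul_left, hff, hef]; ring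
  obtain ⟨w0, hw0, hw0e, hw0f, hww⟩ := hT.exists_aniso hF h2 hn e f
    (fun v => v - hermForm n F q v f • e - hermForm n F q v e • f)
    (fun v hv => ⟨(hP v hv).1, (hP v hv).2.1, (hP v hv).2.2, hermForm n F q v f, hermForm n F q v e, by module⟩)
  have hw00 : w0 ≠ 0 := by
    rintro rfl
    rw [herm_zero_left] at hww
    exact hww rfl
  obtain ⟨k, hke, hkf, hkw⟩ := hyp_scalar hF hn h2 hT hfix he hf hee hff hef hw0 hw0e hw0f hww
  have he0 : e ≠ 0 := by
    rintro rfl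
    rw [herm_zero_left] at hef
    exact zero_ne_one hef
  have hk0 : k ≠ 0 := by
    rintro rfl
    rw [zero_smul] at hke
    exact S_ne_zero B σ he0 hke
  have hσ : ∀ a : F, a ^ q = a → σ a = a := by
    intro a ha
    by_cases ha0 : a = 0
    · rw [ha0, map_zero]
    have hai : a⁻¹ ^ q = a⁻¹ := by rw [inv_pow, ha]
    obtain ⟨k', h3, -, h5⟩ := hyp_scalar hF hn h2 hT hfix (hT.mem_smul ha he) (hT.mem_smul hai hf)
      (by rw [herm_smul_left, herm_smul_right, hee]; ring) (by rw [herm_smul_left, herm_smul_right, hff]; ring)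
      (by rw [herm_smul_left, herm_smul_right, hef, hai, mul_one, mul_inv_cancel₀ ha0]) hw0
      (by rw [herm_smul_right, hw0e, mul_zero]) (by rw [herm_smul_right, hw0f, mul_zero]) hww
    have h6 := h5 w0 hw0 (by rw [herm_smul_right, hw0e, mul_zero]) (by rw [herm_smul_right, hw0f, mul_zero])
    rw [hkw w0 hw0 hw0e hw0f, ← sub_eq_zero, ← sub_smul] at h6
    have h7 : k = k' := sub_eq_zero.1 ((smul_eq_zero.1 h6).resolve_right hw00)
    subst h7
    rw [S_smul, hke, smul_smul, smul_smul, ← sub_eq_zero, ← sub_smul] at h3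
    have h8 := (smul_eq_zero.1 h3).resolve_right he0
    have h9 : (σ a - a) * k = 0 := by linear_combination h8
    exact sub_eq_zero.1 ((mul_eq_zero.1 h9).resolve_right hk0)
  refine ⟨hσ, k, fun v hv => ?_⟩
  have h3 := hkw _ (hP v hv).1 (hP v hv).2.1 (hP v hv).2.2
  have h4 : v = hermForm n F q v f • e + hermForm n F q v e • f +
      (v - hermForm n F q v f • e - hermForm n F q v e • f) := by module
  rw [h4, S_add, S_add, S_smul, S_smul, hke, hkf, hσ _ (hpow hv hf), hσ _ (hpow hv he), h3]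
  module

end Pos

/-! ### the conclusion -/

section Final

variable {A : GU n F q} {p : ℕ} [Fact p.Prime] [CharP F p]

/-- An automorphism fixing all `p`-elements of the centraliser: the square is trivial. -/
theorem sq_eq_one (hF : Fintype.card F = q ^ 2) (hn : 3 ≤ n) (h2 : (2 : F) ≠ 0) {c : F}
    (hT : Sm q (S A (conj hF)) c) {e : MulAut (PSU n F q)}
    (hfix : ∀ v, toAut A (conj hF) v = v → (∃ k, v ^ p ^ k = 1) → e v = v) : e * e = 1 := by
  have hq2 : ¬ (n = 3 ∧ q = 2) := by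
    rintro ⟨-, rfl⟩
    apply h2
    have h3 : ((Fintype.card F : ℕ) : F) = 0 := Nat.cast_card_eq_zero F
    rw [hF] at h3
    have h4 : (2 : F) ^ 2 = 0 := by
      rw [← h3]; norm_num
    exact (pow_eq_zero_iff two_ne_zero).1 h4
  obtain ⟨B, σ, rfl⟩ := ClassicalGeometry.PSUAutMain.exists_toAut hF hn hq2 e
  have hv0 : (Pi.single (⟨0, by omega⟩ : Fin n) (1 : F) : Fin n → F) ≠ 0 := by
    intro h
    have := congrFun h ⟨0, by omega⟩
    simp at this
  have hcq := hT.c_pow hF hv0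
  obtain ⟨l, hl⟩ := exists_norm_eq hF hcq
  -- the two cases
  have key : ∃ l : F, l * l ^ q = c ∧ (∀ a : F, a ^ q = a → σ a = a) ∧
      ∃ k : F, ∀ v, S A (conj hF) v = l • v → S B σ v = k • v := by
    rcases hT.c_cases hF hv0 with h | h
    · subst h
      exact ⟨1, by rw [one_pow, one_mul], key_pos hF hn h2 hT hfix⟩
    · subst h
      exact ⟨l, hl, key_neg hF hn h2 p hT hl hfix⟩
  obtain ⟨l, hl, hσ, k, hk⟩ := key
  have hσ2 := sq_of_fix hF hσ
  rw [toAut_mul, hσ2]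
  -- the matrix is scalar
  have h3 : ∀ v, gm (B * mapGU σ B) *ᵥ v = (σ k * k) • v := by
    intro v
    refine hT.ext_form hF h2 hl (fun v hv => ?_) v
    have h4 := S_S B B σ σ v
    rw [hσ2, hk v hv, S_smul, hk v hv, smul_smul] at h4
    exact h4.symm
  ext x
  obtain ⟨g, rfl⟩ := pr_surjective x
  rw [toAut_pr', MulAut.one_apply]
  congr 1
  apply ext_act
  intro x
  obtain ⟨y, rfl⟩ : ∃ y, x = gm (B * mapGU σ B) *ᵥ y := ⟨_, (gm_mulVec_inv (B * mapGU σ B) x).symm⟩
  have h5 := act_semiConj (B * mapGU σ B) 1 g y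
  have h6 : (fun i => (1 : F ≃+* F) (y i)) = y := rfl
  have h7 : (fun i => (1 : F ≃+* F) (act g y i)) = act g y := rfl
  rw [h6, h7] at h5
  rw [h5, h3, h3, act_smul]

/-- **(f1) for the semilinear involutions of `PSU_n(q)`.** -/
theorem _root_.Cfsg.Agent.UGT.U2.FOne.Semi.eq_one (hF : Fintype.card F = q ^ 2) (hn : 3 ≤ n) (hq : Odd q) {A : GU n F q} {s : F ≃+* F}
    (hs : s ≠ 1) (hx : toAut A s * toAut A s = 1) {d : MulAut (PSU n F q)} (hd : Odd (orderOf d))
    (hfix : ∀ v, toAut A s v = v → (∃ k, v ^ p ^ k = 1) → d v = v) : d = 1 := by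
  have h2 : (2 : F) ≠ 0 := by
    intro h0
    have h3 : ringChar F ≠ 2 := by
      intro h3
      have h4 := FiniteField.even_card_iff_char_two.1 h3
      rw [hF] at h4
      exact (Nat.not_even_iff_odd.2 (hq.pow (n := 2))) (Nat.even_iff.2 h4)
    exact Ring.two_ne_zero h3 h0
  obtain ⟨rfl, c, hT⟩ := data hF hn hs hx
  obtain ⟨m, hm⟩ := hd
  set e := d ^ (m + 1) with he
  have h3 : e * e = d := by
    rw [he, ← pow_add, show m + 1 + (m + 1) = (2 * m + 1) + 1 by ring, pow_succ, ← hm, pow_orderOf_eq_one, one_mul]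
  rw [← h3]
  refine sq_eq_one (p := p) hF hn h2 hT fun v hv hvp => ?_
  have h4 := hfix v hv hvp
  rw [he]
  clear h3 he
  generalize m + 1 = j
  induction j with
  | zero => rfl
  | succ j ih => rw [pow_succ, MulAut.mul_apply, h4, ih]

end Final

end Cfsg.Agent.UGT.U2.FOne.PSUSemi
end

-- part: UGT/U2/FOne/PSU
section
/-!
# (f1) for `PSU_n(q)`, `n ≥ 3`, `q` odd

`PSU.concl` : `x` an involutory automorphism of `PSU n F q`, `d ≠ 1` an automorphism of odd order commuting with `x`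
and fixing all `p`-elements fixed by `x`: there are an involution `z` and `J ∋ z`, `J ≃ SL₂(q)`, subnormal in `C(z)`,
invariant under `x` and `d`, not centralised by `d`.
-/

set_option autoImplicit false
set_option linter.unusedSectionVars false

namespace Cfsg.Agent.UGT.U2.FOne.PSU

open Cfsg Cfsg.Agent.LieClassical.HermBasic Cfsg.Agent.LieClassical.HermSiegel
  Cfsg.Agent.LieClassical.HermGen Cfsg.Agent.LieClassical.SUBasic Matrix
  Cfsg.Agent.ClassicalGeometry.PSUAutBasic Cfsg.Agent.ClassicalGeometry.HermOrtho Module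

open Cfsg.Agent.ClassicalGeometry.PSUAutCount (gm semiConj toAut herm_gm act_semiConj herm_semi
  gm_inv_mulVec gm_mulVec_inv eq_of_toAut_eq)

open Cfsg.Agent.KFacts.Unit (sg sg_add sg_smul herm_sg exists_sg exists_GU_of_semi act_semiConj' toAut_eq_conj)

open Cfsg.Agent.Cit.LongInst (KK card_KK)

section

variable {F : Type*} [Field F] [Fintype F] {q n : ℕ}

/-- elements of norm one are squares -/
theorem exists_sq (hF : Fintype.card F = q ^ 2) (ho : Odd q) {μ : F} (hμ : μ * μ ^ q = 1) :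
    ∃ ν : F, ν * ν = μ := by
  have ho' : Odd (Fintype.card F) := by rw [hF]; exact ho.pow
  have hμ0 : μ ≠ 0 := by
    rintro rfl
    rw [zero_mul] at hμ
    exact zero_ne_one hμ
  have hch : ringChar F ≠ 2 := by
    intro h
    have h1 := FiniteField.even_card_iff_char_two.1 h
    rw [Nat.odd_iff] at ho'
    omega
  obtain ⟨k, hk⟩ := ho
  have h1 : Fintype.card F / 2 = (q + 1) * k := by
    rw [hF, hk]
    have : (2 * k + 1) ^ 2 = 2 * ((2 * k + 1 + 1) * k) + 1 := by ring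
    omega
  have h2 : IsSquare μ := by
    rw [FiniteField.isSquare_iff hch hμ0, h1, pow_mul, pow_succ', hμ, one_pow]
  obtain ⟨ν, hν⟩ := h2
  exact ⟨ν, hν.symm⟩

theorem Rep.scalar_ne (hF : Fintype.card F = q ^ 2) (hn : 3 ≤ n) {α : MulAut (PSU n F q)}
    {T : (Fin n → F) → (Fin n → F)} {σ : F ≃+* F} (h : Rep α T σ) (hα : α ≠ 1) (a : F) :
    ∃ v, T v ≠ a • v := by
  by_contra hcon
  push Not at hcon
  by_cases ha : a = 0
  · have h1 : (Pi.single ⟨0, by omega⟩ 1 : Fin n → F) = 0 := by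
      apply h.inj hF
      rw [hcon, h.zero, ha, zero_smul]
    have h2 := congrFun h1 ⟨0, by omega⟩
    rw [Pi.single_eq_same] at h2
    exact one_ne_zero h2
  · exact hα (h.eq_one ha hcon)

/-- **The plane**: for `x` linear. -/
theorem exists_plane (hF : Fintype.card F = q ^ 2) (ho : Odd q) (hn : 3 ≤ n) {p : ℕ} [Fact p.Prime] [CharP F p]
    {x d : MulAut (PSU n F q)} {T : (Fin n → F) → (Fin n → F)} (hT : Rep x T 1) (hxx : x * x = 1) (hx1 : x ≠ 1)
    (hd : Odd (orderOf d)) (hd1 : d ≠ 1) (hc : d * x = x * d)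
    (hfix : ∀ v, x v = v → (∃ k : ℕ, v ^ p ^ k = 1) → d v = v) :
    ∃ S, Rep d S 1 ∧ Plane q T S := by
  have ho' : Odd (Fintype.card F) := by rw [hF]; exact ho.pow
  have h2 : (2 : F) ≠ 0 := SignalizersComponents.SLQuasisimple.two_ne_zero_of_odd ho'
  have h32 : ¬ (n = 3 ∧ q = 2) := by
    rintro ⟨-, rfl⟩
    exact absurd ho (by decide)
  obtain ⟨S, τ, hS⟩ := exists_rep hF hn h32 d
  -- `T² = μ`
  obtain ⟨-, μ, hμ, hTT⟩ := (hxx ▸ hT.mul hT : Rep (1 : MulAut (PSU n F q)) (fun v => T (T v)) (1 * 1)).of_one hF hn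
  obtain ⟨ν, hν⟩ := exists_sq hF ho hμ
  have hν0 : ν ≠ 0 := by
    rintro rfl
    rw [zero_mul] at hν
    rw [← hν, zero_mul] at hμ
    exact zero_ne_one hμ
  -- commutation
  obtain ⟨-, c, -, hST⟩ := Rep.unique hF hn (hT.mul hS) (hc ▸ hS.mul hT)
  -- odd order
  obtain ⟨hτ, ν', hν', hSm⟩ := (pow_orderOf_eq_one d ▸ hS.pow (orderOf d) :
    Rep (1 : MulAut (PSU n F q)) (S^[orderOf d]) (τ ^ orderOf d)).of_one hF hn
  have hν'0 : ν' ≠ 0 := by
    rintro rfl
    rw [zero_mul] at hν'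
    exact zero_ne_one hν'
  have hLin : Lin q p (orderOf d) x d T S τ ν c ν' :=
    { hF := hF, hn := hn, two := h2, rT := hT, rS := hS, ne := hν0
      TT := fun v => by rw [hν]; exact hTT v
      Tne := hT.scalar_ne hF hn hx1
      ST := hST, odd := hd, tau := hτ, ne' := hν'0, pow := hSm
      Sne := hS.scalar_ne hF hn hd1
      fix := fixing_of hF hn hT hS hfix }
  obtain ⟨rfl, h⟩ := hLin.main
  exact ⟨S, hS, h⟩

end

variable {F : Type} [Field F] [Fintype F] {q n : ℕ}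

/-- **(f1) for one automorphism of `PSU_n(q)`** -/
theorem concl (hF : Fintype.card F = q ^ 2) (ho : Odd q) (hn : 3 ≤ n) {p : ℕ} [Fact p.Prime] [CharP F p]
    {x d : MulAut (PSU n F q)} (hxx : x * x = 1) (hx1 : x ≠ 1)
    (hd : Odd (orderOf d)) (hd1 : d ≠ 1) (hc : d * x = x * d)
    (hfix : ∀ v, x v = v → (∃ k : ℕ, v ^ p ^ k = 1) → d v = v) :
    ∃ (z : PSU n F q) (J : Subgroup (PSU n F q)), Good5 z J ∧
      Nonempty (↥J ≃* SpecialLinearGroup (Fin 2) (KK hF)) ∧ J.map x.toMonoidHom = J ∧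
      J.map d.toMonoidHom = J ∧ ∃ j ∈ J, d j ≠ j := by
  have h32 : ¬ (n = 3 ∧ q = 2) := by
    rintro ⟨-, rfl⟩
    exact absurd ho (by decide)
  obtain ⟨A, σ, rfl⟩ := Cfsg.Agent.ClassicalGeometry.PSUAutMain.exists_toAut hF hn h32 x
  by_cases hσ : σ = 1
  · subst hσ
    obtain ⟨S, hS, h⟩ := exists_plane hF ho hn (rep_toAut A 1) hxx hx1 hd hd1 hc hfix
    exact concl_of_plane hF ho hn (p := p) (rep_toAut A 1) hS h
  · exact absurd (Semi.eq_one (p := p) hF hn ho hσ hxx hd hfix) hd1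

/-- **(f1) for `PSU_n(q)`** in the situation `Sit`. -/
theorem concl_of_sit (hF : Fintype.card F = q ^ 2) (ho : Odd q) (hn : 3 ≤ n) {p : ℕ} [Fact p.Prime] [CharP F p]
    {x : MulAut (PSU n F q)} {D : Subgroup (MulAut (PSU n F q))} (S : Sit p x D) : Concl q x D := by
  have hfin : Finite (PSU n F q) := Finite.of_surjective _ (pr_surjective (n := n) (F := F) (q := q))
  obtain ⟨⟨d, hd⟩, hd1'⟩ := Subgroup.ne_bot_iff_exists_ne_one.1 S.ne_bot
  have hd1 : d ≠ 1 := fun h => hd1' (Subtype.ext h)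
  have hodd : Odd (orderOf d) := by
    refine S.odd.of_dvd_nat ?_
    have := orderOf_dvd_natCard (⟨d, hd⟩ : D)
    rwa [Subgroup.orderOf_mk] at this
  obtain ⟨z, J, hz, ⟨e⟩, h1, h2, h3⟩ := concl hF ho hn (p := p) (x := x) (d := d)
    (MulEquiv.ext fun g => S.sq g) S.ne hodd hd1 (MulEquiv.ext fun g => S.comm d hd g) (S.fix d hd)
  have hcard : Nat.card (KK hF) = q := by rw [Nat.card_eq_fintype_card, card_KK]
  exact ⟨z, J, hz.order, hz.mem, hz.le, hz.sn,
    Or.inl ⟨KK hF, inferInstance, inferInstance, hcard, ho, ⟨e⟩⟩, h1, d, hd, h2, h3⟩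

/-- **(f1) for `PSU_n(q)`**, `n ≥ 3`, `q` odd. -/
theorem f1d (hF : Fintype.card F = q ^ 2) (ho : Odd q) (hn : 3 ≤ n) : F1D q (PSU n F q) := by
  have hfin : Finite (PSU n F q) := Finite.of_surjective _ (pr_surjective (n := n) (F := F) (q := q))
  obtain ⟨p, k, hp, hchar, hk, -⟩ := exists_prime_pow hF
  have := Fact.mk hp
  have hp2 : Odd p := by
    rcases hp.eq_two_or_odd' with rfl | h
    · exfalso
      rw [hk] at ho
      obtain ⟨m, rfl⟩ : ∃ m, k = m + 1 := by
        rcases k with _ | m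
        · rw [pow_zero] at hk
          have := two_le hF
          omega
        · exact ⟨m, rfl⟩
      rw [pow_succ] at ho
      exact absurd ho (Nat.not_odd_iff_even.2 (even_two.mul_left _))
    · exact h
  have h32 : ¬ (n = 3 ∧ q = 2) := by
    rintro ⟨-, rfl⟩
    exact absurd ho (by decide)
  have hs : IsSimpleGroup (PSU n F q) := LieClassical.HermSimple.isSimpleGroup_of_perfect hF hn
      (LieClassical.HermPerfect.commutator_SU_eq_top hF hn h32)
  exact f1d_of_sit (p := p) (by rintro rfl; exact absurd hp2 (by decide)) (FixBN.WittNodeC.hasGoodSplit_PSU hF hn hp2).hasSplit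
    fun x D S => concl_of_sit hF ho hn S

end Cfsg.Agent.UGT.U2.FOne.PSU
end
end

section
prune_inst 0xfcfefbaff8bddeffff7ffffffddffffdfcffffffdffbfbfffdfbffffff6b6fffe5fbafffecd8ffdef7e2b634f87b53fdffc23fef6bdd7ffffd5ff45ffbff9fffffbfad51feb8be1ffe6ffffbf37fdf7f000000000000000000000000000051004200000000

-- part: UGT/I34/FourDefs
section
prune_inst 0x104000100000000000000020000000000000020040000000400000080100010000000030700210010088a0600a800001cc00090028000020008a0040040000040122e010741c0011000040c802080c00000000000000000000000000000000000000000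
set_option linter.all false
open scoped Cfsg.Agent.FastGrp

-- part: UGT/I34/Lam
section
/-!
# 2-components of type `Λ` modulo the centre

`Lam Λ X` : `X / O(X)` modulo its centre is isomorphic to `Λ`. The property passes to diagonals (`lam_diag`), to
subgroups covering `X / O(X)` (`lam_of_sup`), and a 2-component of type `Λ` contained in a 2-component of type `Λ`
covers it modulo the core (`sup_of_lam`).
-/

set_option autoImplicit false

open Cfsg Subgroup
open Cfsg.Agent.SignalizersComponents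
open Cfsg.Agent.SignalizersComponents.IntrinsicBasic
open Cfsg.Agent.Intrinsic.Basic Cfsg.Agent.Intrinsic.Cen Cfsg.Agent.Intrinsic.Quot
open Cfsg.Agent.Intrinsic.Diag
open scoped commutatorElement

namespace Cfsg.Agent.UGT.I34

/-- `X / O(X)` -/
abbrev Bar {G : Type*} [Group G] (X : Subgroup G) := ↥X ⧸ oddCore ↥X

/-- `X / O(X)` modulo its centre is isomorphic to `Λ`. -/
def Lam (Λ : Type*) [Group Λ] {G : Type*} [Group G] (X : Subgroup G) : Prop :=
  Nonempty (Bar X ⧸ center (Bar X) ≃* Λ)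

section algebra

/-- isomorphic groups have isomorphic central quotients -/
theorem exists_quot_center_equiv {A B : Type*} [Group A] [Group B] (e : A ≃* B) :
    Nonempty (A ⧸ center A ≃* B ⧸ center B) := by
  refine ⟨QuotientGroup.congr _ _ e ?_⟩
  ext x
  rw [mem_center_iff]
  constructor
  · rintro ⟨z, hz, rfl⟩ g
    obtain ⟨y, rfl⟩ := e.surjective g
    have h2 : e y * e z = e z * e y := by
      rw [← map_mul, ← map_mul, mem_center_iff.mp hz y]
    exact h2
  · intro h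
    obtain ⟨y, rfl⟩ := e.surjective x
    refine ⟨y, ?_, rfl⟩
    rw [SetLike.mem_coe, mem_center_iff]
    intro g
    apply e.injective
    rw [map_mul, map_mul]
    exact h (e g)

/-- a surjection of quasisimple groups induces an isomorphism of the central quotients -/
theorem exists_quot_center_of_surjective {A B : Type*} [Group A] [Group B] [Finite A]
    (hA : IsQuasisimple A) (hB : IsQuasisimple B) (f : A →* B) (hf : Function.Surjective f) :
    Nonempty (A ⧸ center A ≃* B ⧸ center B) := by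
  obtain ⟨g, hg⟩ : ∃ g : A →* B ⧸ center B, g = (QuotientGroup.mk' (center B)).comp f := ⟨_, rfl⟩
  have hgs : Function.Surjective g := by
    rw [hg]; exact (QuotientGroup.mk'_surjective _).comp hf
  have hsB := hB.2
  have hsA := hA.2
  have hZ : center A ≤ g.ker := by
    intro z hz
    rw [MonoidHom.mem_ker, hg, MonoidHom.comp_apply, QuotientGroup.mk'_apply,
      QuotientGroup.eq_one_iff, mem_center_iff]
    intro b
    obtain ⟨a, rfl⟩ := hf b
    rw [← map_mul, ← map_mul, mem_center_iff.mp hz a]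
  have hker : g.ker = center A := by
    apply le_antisymm _ hZ
    have hn : (g.ker.map (QuotientGroup.mk' (center A))).Normal :=
      Subgroup.Normal.map inferInstance _ (QuotientGroup.mk'_surjective _)
    rcases hn.eq_bot_or_eq_top with h | h
    · rw [Subgroup.map_eq_bot_iff, QuotientGroup.ker_mk'] at h
      exact h
    · exfalso
      have h1 : g.ker = ⊤ := by
        have h2 := congrArg (Subgroup.comap (QuotientGroup.mk' (center A))) h
        rw [Subgroup.comap_map_eq, QuotientGroup.ker_mk', Subgroup.comap_top] at h2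
        rwa [sup_eq_left.mpr hZ] at h2
      obtain ⟨x, hx⟩ := exists_ne (1 : B ⧸ center B)
      obtain ⟨a, rfl⟩ := hgs x
      apply hx
      have : a ∈ g.ker := by rw [h1]; exact mem_top a
      exact this
  exact ⟨(QuotientGroup.quotientMulEquivOfEq hker.symm).trans
    (QuotientGroup.quotientKerEquivOfSurjective g hgs)⟩

end algebra

variable {Λ : Type*} [Group Λ] {G : Type*} [Group G]

theorem Lam.congr {X : Subgroup G} {H : Type*} [Group H] {Y : Subgroup H} (e : Bar X ≃* Bar Y)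
    (h : Lam Λ X) : Lam Λ Y := by
  obtain ⟨i⟩ := h
  obtain ⟨j⟩ := exists_quot_center_equiv e
  exact ⟨j.symm.trans i⟩

theorem Lam.cj {X : Subgroup G} (h : Lam Λ X) (g : G) : Lam Λ (cj g X) := h.congr (cjQuot g X)

variable [Finite G]

theorem lam_diag {H K : Subgroup G} {v : G} (hK : IsComp H K) (hvH : v ∈ H) (hv : v * v = 1)
    (hne : IntrinsicBasic.cj v K ≠ K) (h : Lam Λ K) : Lam Λ (diag H K v) := by
  obtain ⟨hD, -, -, -, f, hf, -, -⟩ := exists_diag hK hvH hv hne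
  obtain ⟨i⟩ := h
  obtain ⟨j⟩ := exists_quot_center_of_surjective (quasisimple_quot hK) (quasisimple_quot hD) f hf
  exact ⟨j.symm.trans i⟩

omit [Finite G] in
/-- the map to `Y / O(Y)` modulo the centre kills `a` iff `a` fixes `Y` -/
theorem mk_mem_center_iff {Y : Subgroup G} {a : G} (ha : a ∈ Y) :
    (QuotientGroup.mk ⟨a, ha⟩ : Bar Y) ∈ center (Bar Y) ↔ Fixes a Y := by
  rw [mem_center_iff, fixes_iff_conj]
  constructor
  · intro h
    refine ⟨le_normalizer ha, fun y hy => ?_⟩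
    have h1 := h (QuotientGroup.mk ⟨y, hy⟩)
    exact (mk_comm_iff hy ha).mp h1
  · rintro ⟨-, h⟩ x
    obtain ⟨⟨x, hx⟩, rfl⟩ := QuotientGroup.mk_surjective x
    exact (mk_comm_iff hx ha).mpr (h x hx)

/-- A 2-component `E ≤ Y` of type `Λ` covers the 2-component `Y` of type `Λ` modulo the core. -/
theorem sup_of_lam {H H' E Y : Subgroup G} (hE : IsComp H E) (hY : IsComp H' Y) (hEL : Lam Λ E)
    (hYL : Lam Λ Y) (hle : E ≤ Y) : E ⊔ core Y = Y := by
  have hp2 : Fact (Nat.Prime 2) := ⟨Nat.prime_two⟩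
  obtain ⟨eE⟩ := hEL
  obtain ⟨eY⟩ := hYL
  let f : ↥E →* Bar Y := (QuotientGroup.mk' (oddCore ↥Y)).comp (inclusion hle)
  let f' : ↥E →* (Bar Y ⧸ center (Bar Y)) := (QuotientGroup.mk' (center (Bar Y))).comp f
  let g : ↥E →* (Bar E ⧸ center (Bar E)) :=
    (QuotientGroup.mk' (center (Bar E))).comp (QuotientGroup.mk' (oddCore ↥E))
  have hg : Function.Surjective g :=
    (QuotientGroup.mk'_surjective _).comp (QuotientGroup.mk'_surjective _)
  have hqE := quasisimple_quot hE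
  have hqY := quasisimple_quot hY
  have hsE := hqE.2
  have hEperf : ⁅(⊤ : Subgroup ↥E), (⊤ : Subgroup ↥E)⁆ = ⊤ := by
    apply Subgroup.map_injective E.subtype_injective
    rw [Subgroup.map_commutator, ← MonoidHom.range_eq_map, Subgroup.range_subtype]
    exact hE.perfect
  have hn : (f'.ker.map g).Normal := Subgroup.Normal.map inferInstance _ hg
  have hf's : Function.Surjective f' := by
    rcases hn.eq_bot_or_eq_top with h | h
    · -- `ker f' ≤ ker g`
      rw [Subgroup.map_eq_bot_iff] at h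
      have h1 : Nat.card (Bar E ⧸ center (Bar E)) = g.ker.index := by
        rw [Subgroup.index_ker, MonoidHom.range_eq_top.mpr hg]
        exact (Nat.card_congr Subgroup.topEquiv.toEquiv).symm
      have h2 : g.ker.index ∣ f'.ker.index := Subgroup.index_dvd_of_le h
      rw [Subgroup.index_ker f'] at h2
      have h3 : Nat.card (Bar Y ⧸ center (Bar Y)) ≤ Nat.card f'.range := by
        rw [Nat.card_congr eY.toEquiv, ← Nat.card_congr eE.toEquiv, h1]
        exact Nat.le_of_dvd Nat.card_pos h2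
      exact MonoidHom.range_eq_top.mp (Subgroup.eq_top_of_le_card _ h3)
    · -- `ker f'` is everything
      exfalso
      have h1 : f'.ker ⊔ g.ker = ⊤ := by
        have h2 := congrArg (Subgroup.comap g) h
        rwa [Subgroup.comap_map_eq, Subgroup.comap_top] at h2
      have hgk : ∀ x ∈ g.ker, (QuotientGroup.mk' (oddCore ↥E)) x ∈ center (Bar E) := by
        intro x hx
        exact (QuotientGroup.eq_one_iff _).mp hx
      have h2 : ⁅(⊤ : Subgroup ↥E), (⊤ : Subgroup ↥E)⁆ ≤ f'.ker ⊔ oddCore ↥E := by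
        have hM : (f'.ker ⊔ oddCore ↥E).Normal := inferInstance
        rw [commutator_le]
        intro a _ b _
        have ha : a ∈ ((f'.ker ⊔ g.ker : Subgroup ↥E) : Set ↥E) := by rw [h1]; trivial
        have hb : b ∈ ((f'.ker ⊔ g.ker : Subgroup ↥E) : Set ↥E) := by rw [h1]; trivial
        rw [Subgroup.normal_mul] at ha hb
        obtain ⟨a1, ha1, a2, ha2, rfl⟩ := ha
        obtain ⟨b1, hb1, b2, hb2, rfl⟩ := hb
        -- work in the quotient by `M`
        rw [← QuotientGroup.eq_one_iff (N := f'.ker ⊔ oddCore ↥E)]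
        have e1 : (QuotientGroup.mk' (f'.ker ⊔ oddCore ↥E)) a1 = 1 :=
          (QuotientGroup.eq_one_iff _).mpr (mem_sup_left ha1)
        have e2 : (QuotientGroup.mk' (f'.ker ⊔ oddCore ↥E)) b1 = 1 :=
          (QuotientGroup.eq_one_iff _).mpr (mem_sup_left hb1)
        have e3 : (QuotientGroup.mk' (f'.ker ⊔ oddCore ↥E)) ⁅a2, b2⁆ = 1 := by
          apply (QuotientGroup.eq_one_iff _).mpr
          apply mem_sup_right
          rw [← QuotientGroup.eq_one_iff]
          change (QuotientGroup.mk' (oddCore ↥E)) ⁅a2, b2⁆ = 1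
          rw [map_commutatorElement, commutatorElement_eq_one_iff_mul_comm]
          exact (mem_center_iff.mp (hgk a2 ha2) _).symm
        change (QuotientGroup.mk' (f'.ker ⊔ oddCore ↥E)) ⁅a1 * a2, b1 * b2⁆ = 1
        rw [map_commutatorElement] at e3 ⊢
        rw [map_mul, map_mul, e1, e2, one_mul, one_mul, e3]
      rw [hEperf, top_le_iff] at h2
      -- 2-elements of `E` lie in `ker f'`
      have h3 : ∀ k ∈ E, ∀ n : ℕ, k ^ 2 ^ n = 1 → k ∈ f'.ker.map E.subtype := by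
        intro k hk n hkn
        refine ⟨⟨k, hk⟩, ?_, rfl⟩
        have h4 : (⟨k, hk⟩ : ↥E) ∈ ((f'.ker ⊔ oddCore ↥E : Subgroup ↥E) : Set ↥E) := by
          rw [h2]; trivial
        rw [Subgroup.normal_mul] at h4
        obtain ⟨a, ha, o, ho, hao⟩ := h4
        have h5 : (QuotientGroup.mk' f'.ker) ⟨k, hk⟩ = (QuotientGroup.mk' f'.ker) o := by
          rw [← hao]
          change (QuotientGroup.mk' f'.ker) (a * o) = _
          have h6 : (QuotientGroup.mk' f'.ker) a = 1 := (QuotientGroup.eq_one_iff a).mpr ha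
          rw [map_mul, h6, one_mul]
        have h6 : ((QuotientGroup.mk' f'.ker) ⟨k, hk⟩) ^ 2 ^ n = 1 := by
          rw [← map_pow, ← map_one (QuotientGroup.mk' f'.ker)]
          congr 1
          exact Subtype.ext hkn
        have h7 : Odd (orderOf ((QuotientGroup.mk' f'.ker) o)) := by
          refine Odd.of_dvd_nat ?_ (orderOf_map_dvd _ o)
          have h8 : Odd (Nat.card (oddCore ↥E)) := by
            have := odd_card_core E
            rwa [core, card_map_of_injective E.subtype_injective] at this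
          exact Odd.of_dvd_nat h8 (Subgroup.orderOf_dvd_natCard _ ho)
        rw [← h5] at h7
        have h8 : orderOf ((QuotientGroup.mk' f'.ker) ⟨k, hk⟩) = 1 := by
          have h9 := orderOf_dvd_of_pow_eq_one h6
          exact Nat.eq_one_of_dvd_coprimes (Nat.Coprime.pow_left n h7.coprime_two_left) h9 dvd_rfl
        exact (QuotientGroup.eq_one_iff _).mp (orderOf_eq_one_iff.mp h8)
      have h4 := hE.le_of_two h3
      -- so `E` acts trivially on `Y`
      have h5 : ∀ k ∈ E, Fixes k Y := by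
        intro k hk
        obtain ⟨⟨y, hy⟩, hy1, hy2⟩ := h4 hk
        have : y = k := hy2
        subst this
        rw [← mk_mem_center_iff (hle hk)]
        exact (QuotientGroup.eq_one_iff _).mp hy1
      have h6 : ⁅E, E⁆ ≤ core Y := by
        rw [commutator_le]
        intro a ha b hb
        exact (h5 a ha).2 b (hle hb)
      rw [hE.perfect] at h6
      exact hE.not_odd (odd_card_core Y) h6
  -- `f` is surjective
  have hfs : f.range = ⊤ := by
    have hperf : ⁅(⊤ : Subgroup (Bar Y)), (⊤ : Subgroup (Bar Y))⁆ = ⊤ := by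
      have := hqY.1.1
      rwa [_root_.commutator_def] at this
    have h1 : ∀ y : Bar Y, ∃ a : ↥E, ∃ z ∈ center (Bar Y), y = f a * z := by
      intro y
      obtain ⟨a, ha⟩ := hf's (QuotientGroup.mk y)
      have h2 : (QuotientGroup.mk (f a) : Bar Y ⧸ center (Bar Y)) = QuotientGroup.mk y := ha
      exact ⟨a, (f a)⁻¹ * y, QuotientGroup.eq.mp h2, by group⟩
    rw [eq_top_iff, ← hperf, commutator_le]
    intro x _ y _
    obtain ⟨a, z, hz, rfl⟩ := h1 x
    obtain ⟨b, w, hw, rfl⟩ := h1 y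
    refine ⟨⁅a, b⁆, ?_⟩
    rw [map_commutatorElement]
    have c1 := mem_center_iff.mp hz
    have c2 := mem_center_iff.mp hw
    rw [commutatorElement_def, commutatorElement_def, mul_inv_rev, mul_inv_rev]
    calc f a * f b * (f a)⁻¹ * (f b)⁻¹ = f a * (f b * (f a)⁻¹) * (f b)⁻¹ * (z * z⁻¹) * (w * w⁻¹) := by
          group
      _ = f a * z * (f b * w) * (z⁻¹ * (f a)⁻¹) * (w⁻¹ * (f b)⁻¹) := by
          have d1 : f b * z = z * f b := c1 (f b)
          have d2 : (f a)⁻¹ * z = z * (f a)⁻¹ := c1 _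
          have d3 : (f a)⁻¹ * w = w * (f a)⁻¹ := c2 _
          have d4 : (f b)⁻¹ * w = w * (f b)⁻¹ := c2 _
          have d5 : z⁻¹ * w = w * z⁻¹ := c2 _
          have d6 : (f b)⁻¹ * z = z * (f b)⁻¹ := c1 _
          have d7 : (f a)⁻¹ * z⁻¹ = z⁻¹ * (f a)⁻¹ := by
            have : z⁻¹ ∈ center (Bar Y) := inv_mem hz
            exact mem_center_iff.mp this _
          have d8 : (f b)⁻¹ * w⁻¹ = w⁻¹ * (f b)⁻¹ := by
            have : w⁻¹ ∈ center (Bar Y) := inv_mem hw
            exact mem_center_iff.mp this _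
          rw [← d7, ← d8]
          have e1 : f a * z * (f b * w) * ((f a)⁻¹ * z⁻¹) * ((f b)⁻¹ * w⁻¹) =
              f a * (z * f b) * w * (f a)⁻¹ * z⁻¹ * ((f b)⁻¹ * w⁻¹) := by group
          rw [e1, ← d1]
          have e2 : f a * (f b * z) * w * (f a)⁻¹ * z⁻¹ * ((f b)⁻¹ * w⁻¹) =
              f a * f b * z * (w * (f a)⁻¹) * z⁻¹ * ((f b)⁻¹ * w⁻¹) := by group
          rw [e2, ← d3]
          have e3 : f a * f b * z * ((f a)⁻¹ * w) * z⁻¹ * ((f b)⁻¹ * w⁻¹) =
              f a * f b * (z * (f a)⁻¹) * (w * z⁻¹) * ((f b)⁻¹ * w⁻¹) := by group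
          rw [e3, ← d2, ← d5]
          have e4 : f a * f b * ((f a)⁻¹ * z) * (z⁻¹ * w) * ((f b)⁻¹ * w⁻¹) =
              f a * f b * (f a)⁻¹ * (w * (f b)⁻¹) * w⁻¹ := by group
          rw [e4, ← d4]
          group
  exact sup_of_exists hle fun y hy => by
    have h1 : (QuotientGroup.mk ⟨y, hy⟩ : Bar Y) ∈ f.range := by rw [hfs]; exact mem_top _
    obtain ⟨j, hj⟩ := h1
    exact ⟨j, j.2, mk_eq_mk_iff.mp hj⟩

end Cfsg.Agent.UGT.I34
end

-- part: UGT/I34/FourDefs
section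
/-!
# THEOREM I34, part [C]: `X / O(X)` of type `2².L₃(4)`; the common definitions

* `Can t`: `t` is a canonical noncentral involution of `K` (a noncentral involution which is not a square);
* `TypeC`, `TypeF`, `TypeG`: types of outer involutory automorphisms of `K`;
* `HeT κ`: the facts on the exceptional configurations (`He`, `z` of class 2A, `C(z)^∞`);
* `Klein κ`: the centre of `X / O(X)` is a four-group, facts on canonical involutions; `KTypes κ`: the outer types;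
* `Sett κ G`: the induction setting;
* `Sett.vess`: if `(v, Y)` is a pair and `w ∈ Y` is an involution central modulo `O(Y)` then `(w, M)` is a pair, `M`
  the pump-up of `cen Y w`.
-/

set_option autoImplicit false

open Cfsg Subgroup
open Cfsg.Agent.SignalizersComponents Cfsg.Agent.Lib
open Cfsg.Agent.SignalizersComponents.IntrinsicBasic
open Cfsg.Agent.SignalizersComponents.PLayerAut
open Cfsg.Agent.Intrinsic.Basic hiding IsPair PQS Target IsPair.sq IsPair.ne_one IsPair.cj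
open Cfsg.Agent.Intrinsic.Cen hiding pair_comm pair_mem_cen exists_pump pump_unique
open Cfsg.Agent.Intrinsic.Quot hiding Big isPair_quot small_or_big
open Cfsg.Agent.McLLyComp.Act hiding mk_eq_one_iff
open Cfsg.Agent.UGT.I34.Pair Cfsg.Agent.UGT.I34.KAut
open Cfsg.Agent.UGT.I34.KF (NInv)
open scoped commutatorElement

namespace Cfsg.Agent.UGT.I34.Four

universe u

section defs

variable {K : Type*} [Group K]

/-- canonical noncentral involutions: those which are not squares -/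
def Can (t : K) : Prop := NInv t ∧ ∀ y : K, y * y ≠ t

/-- type `c` -/
structure TypeC (φ : MulAut K) : Prop where
  sq : φ * φ = 1
  out : φ ∉ Inn K
  center : ∀ z ∈ center K, φ z = z
  shift : ∀ z ∈ Subgroup.center K, ∃ h, φ h = h * z
  inv : ∃ w, NInv w ∧ φ w = w ∧ ∃ h, φ h = h * w

/-- type `f` -/
structure TypeF (φ : MulAut K) (J : Subgroup K) : Prop where
  sq : φ * φ = 1
  out : φ ∉ Inn K
  center : ∃ z ∈ center K, φ z ≠ z
  shift : ∀ z ∈ Subgroup.center K, φ z = z → ∃ h, φ h = h * z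
  le : J ≤ fixed φ
  comp : IsComponent (J.subgroupOf (fixed φ))
  even : 2 ∣ Nat.card J
  core : oddCore ↥J = ⊥
  noncan : ∀ w ∈ J, w * w = 1 → w ≠ 1 → NInv w ∧ ¬ Can w
  inv : ∃ w ∈ J, w * w = 1 ∧ w ≠ 1 ∧ ∃ h, φ h = h * w
  cent : ∀ A : Subgroup (MulAut K), A ≤ Inn K → ⁅A, A⁆ = A → (∀ a ∈ A, a * φ = φ * a) →
    (∀ a ∈ A, ∀ j ∈ J, a j = j) → A = ⊥

/-- type `g` -/
structure TypeG (φ : MulAut K) (J : Subgroup K) : Prop where
  sq : φ * φ = 1
  out : φ ∉ Inn K
  center : ∃ z ∈ center K, φ z ≠ z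
  shift : ∀ z ∈ Subgroup.center K, φ z = z → ∃ h, φ h = h * z
  le : J ≤ fixed φ
  comp : IsComponent (J.subgroupOf (fixed φ))
  even : 2 ∣ Nat.card J
  core : oddCore ↥J = ⊥
  can : ∀ w ∈ J, w * w = 1 → w ≠ 1 → Can w
  inv : ∃ w ∈ J, w * w = 1 ∧ w ≠ 1 ∧ ∃ h, φ h = h * w
  cent : ∀ A : Subgroup (MulAut K), A ≤ Inn K → ⁅A, A⁆ = A → (∀ a ∈ A, a * φ = φ * a) →
    (∀ a ∈ A, ∀ j ∈ J, a j = j) → A = ⊥

theorem NInv.map {L : Type*} [Group L] (e : K ≃* L) {t : K} (h : NInv t) : NInv (e t) := by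
  refine ⟨by rw [← map_mul, h.1, map_one], fun hc => h.2 ?_⟩
  rw [mem_center_iff] at hc ⊢
  intro g
  apply e.injective
  rw [map_mul, map_mul]
  exact hc (e g)

theorem Can.map {L : Type*} [Group L] (e : K ≃* L) {t : K} (h : Can t) : Can (e t) := by
  refine ⟨NInv.map e h.1, fun y hy => h.2 (e.symm y) ?_⟩
  rw [← map_mul, hy, e.symm_apply_apply]

/-- automorphisms preserve the canonical involutions -/
theorem Can.aut {t : K} (h : Can t) (φ : MulAut K) : Can (φ t) := h.map φ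

theorem Can.map_iff {L : Type*} [Group L] (e : K ≃* L) {t : K} : Can (e t) ↔ Can t := by
  refine ⟨fun h => ?_, Can.map e⟩
  have := h.map e.symm
  rwa [e.symm_apply_apply] at this

end defs

/-- `u` is the involution of a pair of kind `κ` -/
def D (κ : Kind.{u}) {G : Type u} [Group G] (u : G) : Prop := ∃ X, IsPair κ u X

/-- The facts on the exceptional configurations `(He, z, C(z)^∞)`. -/
structure HeT (κ : Kind.{u}) : Prop where
  center : ∀ {Y : Type u} [Group Y] [Finite Y] {z : Y} {L : Subgroup Y}, κ.T Y z L → IsPair κ z L →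
    center Y = ⊥
  core : ∀ {Y : Type u} [Group Y] [Finite Y] {z : Y} {L : Subgroup Y}, κ.T Y z L → IsPair κ z L →
    oddCore ↥L = ⊥
  cent : ∀ {Y : Type u} [Group Y] [Finite Y] {z : Y} {L : Subgroup Y}, κ.T Y z L → IsPair κ z L →
    centralizer (L : Set Y) ≤ L
  one : ∀ {Y : Type u} [Group Y] [Finite Y] {z : Y} {L L' : Subgroup Y}, κ.T Y z L → IsPair κ z L →
    IsComp (centralizer ({z} : Set Y)) L' → L' = L
  can : ∀ {Y : Type u} [Group Y] [Finite Y] {z : Y} {L : Subgroup Y}, κ.T Y z L → IsPair κ z L →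
    ∀ (t : Y) (ht : t ∈ L), Can (QuotientGroup.mk ⟨t, ht⟩ : ↥L ⧸ oddCore ↥L) →
      ∃ g, g * z * g⁻¹ = t ∧ z ∈ cj g L

/-- The first facts on `K = 2².L₃(4)`. -/
structure Klein (κ : Kind.{u}) : Prop where
  card : ∀ {K : Type u} [Group K] [Finite K], κ.P K → Nat.card (center K) = 4
  sq : ∀ {K : Type u} [Group K] [Finite K], κ.P K → ∀ c ∈ center K, c * c = 1
  exCan : ∀ {K : Type u} [Group K] [Finite K], κ.P K → ∃ t : K, Can t
  canU : ∀ {K : Type u} [Group K] [Finite K], κ.P K → ∀ t c : K, Can t → c ∈ center K → Can (t * c) → c = 1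
  exC : ∀ {K : Type u} [Group K] [Finite K], κ.P K → ∀ t : K, NInv t → ∃ c ∈ center K, Can (t * c)

/-- The types of the outer involutory automorphisms. -/
structure KTypes (κ : Kind.{u}) : Prop where
  out : ∀ {K : Type u} [Group K] [Finite K], κ.P K → ∀ φ : MulAut K, φ * φ = 1 → φ ∉ Inn K →
    TypeC φ ∨ (∃ J, TypeF φ J) ∨ ∃ J, TypeG φ J

/-- The setting. -/
structure Sett (κ : Kind.{u}) (G : Type u) [Group G] : Prop where
  ih : PQS κ (Nat.card G)
  cent : ∀ x : G, orderOf x = 2 → centralizer ({x} : Set G) ≠ ⊤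
  he : HeT κ
  kl : Klein κ

section basic

variable {κ : Kind.{u}} {G : Type u} [Group G] {v w : G} {X Y : Subgroup G}

theorem order_two {x : G} (hx2 : x * x = 1) (hx1 : x ≠ 1) : orderOf x = 2 :=
  orderOf_eq_prime (by rw [pow_two]; exact hx2) hx1

theorem pair_fixes (h : IsPair κ v Y) : Fixes v Y := by
  rw [fixes_iff_conj]
  refine ⟨le_normalizer h.mem, fun y hy => ?_⟩
  rw [← pair_comm h hy, mul_inv_cancel_right, inv_mul_cancel]
  exact one_mem _

theorem fixes_of_comm_all {x : G} (hY : ∀ y ∈ Y, x * y = y * x) : Fixes x Y := by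
  have hx : x ∈ normalizer (Y : Set G) := by
    rw [mem_normalizer_iff]
    intro y
    constructor
    · intro hy
      rwa [hY y hy, mul_inv_cancel_right]
    · intro hy
      have h1 := hY _ hy
      have h2 : x * y * x⁻¹ = y := by
        have : x * (x * y * x⁻¹) = x * y := by rw [h1]; group
        exact mul_left_cancel this
      rwa [h2] at hy
  rw [fixes_iff_conj]
  refine ⟨hx, fun y hy => ?_⟩
  rw [hY y hy, mul_inv_cancel_right, inv_mul_cancel]
  exact one_mem _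

/-- the elements of a subgroup `Y ≤ C(x)` are fixed by `x` -/
theorem fixes_of_le_cent {x : G} (hY : Y ≤ centralizer ({x} : Set G)) : Fixes x Y :=
  fixes_of_comm_all fun _ hy => (mem_centralizer_singleton_iff.mp (hY hy)).symm

variable [Finite G]

theorem card_lt_of_le_cent {x : G} (hx : centralizer ({x} : Set G) ≠ ⊤) {R : Subgroup G}
    (hR : R ≤ centralizer ({x} : Set G)) : Nat.card R < Nat.card G := by
  have h1 : R ≠ ⊤ := by
    intro h
    apply hx
    rw [eq_top_iff, ← h]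
    exact hR
  rcases (Subgroup.card_le_card_group R).lt_or_eq with h | h
  · exact h
  · exact absurd (Subgroup.eq_top_of_card_eq R h) h1

/-- an element fixing `M` and normalizing `J ≤ M` fixes `J` -/
theorem fixes_of_le {J M : Subgroup G} (hJM : J ≤ M) {a : G} (ha : a ∈ normalizer (J : Set G))
    (haf : Fixes a M) : Fixes a J := by
  rw [fixes_iff_conj] at haf ⊢
  have h0 : J ⊓ core M ≤ core J := by
    refine le_core inf_le_left ?_ (Odd.of_dvd_nat (odd_card_core M) (card_dvd_of_le inf_le_right))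
    intro j hj
    rw [mem_normalizer_iff_cj, cj_inf, cj_eq_self_of_mem hj,
      mem_normalizer_iff_cj.mp (le_normalizer_core M (hJM hj))]
  refine ⟨ha, fun y hy => h0 ⟨?_, haf.2 y (hJM hy)⟩⟩
  exact J.mul_mem (J.inv_mem hy) ((mem_normalizer_iff.mp ha y).mp hy)

end basic

namespace Sett

variable {κ : Kind.{u}} {G : Type u} [Group G] [Finite G] (S : Sett κ G) {u v w : G}
  {X Y J M : Subgroup G}

include S

/-- small or big for a 2-component of `C(x)` -/
theorem small_or_big {x : G} (hx : x * x = 1) (hx1 : x ≠ 1) (hu : orderOf u = 2) (huJ : u ∈ J)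
    (hJ : IsComp (centralizer ({x} : Set G) ⊓ centralizer ({u} : Set G)) J)
    (hk : κ.P (↥J ⧸ oddCore ↥J)) (hM : IsComp (centralizer ({x} : Set G)) M) (hJM : J ≤ M) :
    Small J M ∨ Big κ u J M :=
  Pair.small_or_big S.ih hu huJ hJ hk hM hJM
    (card_lt_of_le_cent (S.cent x (Four.order_two hx hx1)) hM.le)

omit S in
/-- the configuration of `Big` is a pair -/
theorem big_pair {H : Subgroup G} (hb : Big κ u J M) (hu : orderOf u = 2) (huJ : u ∈ J)
    (hJ : IsComp (H ⊓ centralizer ({u} : Set G)) J) (hk : κ.P (↥J ⧸ oddCore ↥J)) (hM : IsComp H M)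
    (hJM : J ≤ M) : ∃ huM : u ∈ M, κ.T (↥M ⧸ oddCore ↥M) (QuotientGroup.mk ⟨u, huM⟩) (qs M J) ∧
      IsPair κ (QuotientGroup.mk ⟨u, huM⟩ : ↥M ⧸ oddCore ↥M) (qs M J) := by
  obtain ⟨huM, hT⟩ := hb
  refine ⟨huM, hT, isPair_quot ?_ ?_ huJ huM (isComp_inf hJ hM hJM) hk⟩
  · rw [← pow_two, ← hu, pow_orderOf_eq_one]
  · rintro rfl; simp at hu

/-- a big 2-component has no central involution modulo its core -/
theorem big_not_fixes {H : Subgroup G} (hb : Big κ u J M) (hu : orderOf u = 2) (huJ : u ∈ J)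
    (hJ : IsComp (H ⊓ centralizer ({u} : Set G)) J) (hk : κ.P (↥J ⧸ oddCore ↥J)) (hM : IsComp H M)
    (hJM : J ≤ M) {a : G} (ha : a ∈ M) (haa : a * a = 1) (ha1 : a ≠ 1) : ¬ Fixes a M := by
  intro hf
  obtain ⟨huM, hT, hp⟩ := big_pair hb hu huJ hJ hk hM hJM
  have h1 : (QuotientGroup.mk ⟨a, ha⟩ : ↥M ⧸ oddCore ↥M) ∈ center (↥M ⧸ oddCore ↥M) :=
    (mk_mem_center_iff ha).mpr hf
  rw [S.he.center hT hp, mem_bot, Cfsg.Agent.Intrinsic.Quot.mk_eq_one_iff] at h1
  exact ha1 (eq_one_of_mem_core_sq h1 haa)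

/-- The pump-up of a pair at an involution `w ∈ Y` central modulo `O(Y)`. -/
theorem vess (h : IsPair κ v Y) (hw : w ∈ Y) (hww : w * w = 1) (hw1 : w ≠ 1) (hf : Fixes w Y) :
    ∃ M, IsPair κ w M ∧ v ∈ M ∧ cen Y w ≤ M ∧ cen Y w ⊔ core M = M ∧ cen Y w ⊔ core Y = Y ∧
      ∀ a : G, a * w = w * a → a ∈ normalizer (Y : Set G) → (Fixes a M ↔ Fixes a Y) := by
  have hwv : w * v = v * w := pair_comm h hw
  have hwC : w ∈ centralizer ({v} : Set G) := mem_centralizer_singleton_iff.mpr hwv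
  obtain ⟨M, hM, hle, hvM⟩ := exists_pump h hww hwv hf
  obtain ⟨hJ, hs⟩ := isComp_cen h.comp hwC hww hf
  have hJ' : IsComp (centralizer ({w} : Set G) ⊓ centralizer ({v} : Set G)) (cen Y w) := by
    rw [inf_comm]; exact hJ
  have hk := (kind_cen (κ := κ) h.comp hwC hww hf).mpr h.kind
  have hwJ : w ∈ cen Y w := mem_cen_of_sq hw rfl hww
  have hwM : w ∈ M := hle hwJ
  have hsmall : Small (cen Y w) M := by
    rcases S.small_or_big hww hw1 h.inv (pair_mem_cen h hwv) hJ' hk hM hle with h1 | h1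
    · exact h1
    · exact absurd (fixes_of_le_cent hM.le)
        (S.big_not_fixes h1 h.inv (pair_mem_cen h hwv) hJ' hk hM hle hwM hww hw1)
  refine ⟨M, IsPair.of_small (Four.order_two hww hw1) hsmall hk hM hwM, hvM, hle, hsmall, hs,
    fun a haw haY => ?_⟩
  have haJ : a ∈ normalizer (cen Y w : Set G) := mem_normalizer_cen haY haw
  have haM : a ∈ normalizer (M : Set G) := by
    rw [mem_normalizer_iff_cj] at haJ ⊢
    have haC : a ∈ centralizer ({w} : Set G) := mem_centralizer_singleton_iff.mpr haw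
    have h2 : IsComp (centralizer ({w} : Set G)) (cj a M) := by
      have := hM.cj a
      rwa [cj_eq_self_of_mem haC] at this
    refine hJ.unique h2 hM ?_ hle
    rw [← haJ]
    exact cj_mono hle
  rw [← fixes_iff_of_sup hsmall haJ haM, fixes_iff_of_sup hs haJ haY]

end Sett

end Cfsg.Agent.UGT.I34.Four
end
end

-- part: UGT/I34/WOne
section
prune_inst 0x1010010054001000000000002000002020000000000000002000000001080001804100013040020001008820200a802003cc00090020000020008a0040040000040022c00040100001000040c802080c00000000000000000000000000000000000000000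
set_option linter.all false
open scoped Cfsg.Agent.FastGrp

/-!
# THEOREM I34, part [A]: the world W1

`W1 κ τ D L`: `D` is a class of involutions, `(u, L u)` is a pair of kind `κ` for every `u ∈ D`, `L u` normal in `C(u)`,
the involutions of `L u` are in `D`, (P): `v ~ v u` under `L u` if `u, v ∈ D` commute and `v` does not fix `L u`; the
facts `KF.Facts (L u / O(L u)) τ`; in a target all involutions are conjugate (`Tgt κ`).

`act u a`: the automorphism of `L u / O(L u)` induced by `a`.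

* `pump x X`, `IsBig`, `IsSmall`
* (5.1), first part: `mem_of_mem`
* (5.3): `isBig_iff`, `of_mem_pump`
-/

set_option autoImplicit false

open Cfsg Subgroup
open Cfsg.Agent.SignalizersComponents Cfsg.Agent.Lib
open Cfsg.Agent.SignalizersComponents.IntrinsicBasic
open Cfsg.Agent.SignalizersComponents.PLayerAut
open Cfsg.Agent.Intrinsic
open Cfsg.Agent.Intrinsic.Basic hiding IsPair PQS Target IsPair.sq IsPair.ne_one IsPair.cj
open Cfsg.Agent.Intrinsic.Cen hiding pair_comm pair_mem_cen exists_pump pump_unique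
open Cfsg.Agent.Intrinsic.Quot hiding Big isPair_quot small_or_big
open Cfsg.Agent.McLLyComp.Act hiding mk_eq_one_iff
open Cfsg.Agent.UGT.I34.Pair Cfsg.Agent.UGT.I34.KF
open scoped commutatorElement

namespace Cfsg.Agent.UGT.I34.WOne

universe v

/-- The facts on targets. -/
def Tgt (κ : Kind.{v}) : Prop :=
  ∀ (X : Type v) [Group X] [Finite X] (z : X) (L : Subgroup X), κ.T X z L → IsPair κ z L →
    z ∉ center X ∧ ∀ s : X, s * s = 1 → s ≠ 1 → ∃ g, g * z * g⁻¹ = s

/-- The world W1. -/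
structure W1 {G : Type v} [Group G] [Finite G] (κ : Kind.{v}) (τ : Bool) (D : Set G) (L : G → Subgroup G) :
    Prop where
  ih : PQS κ (Nat.card G)
  tgt : Tgt κ
  cent : ∀ x : G, orderOf x = 2 → centralizer ({x} : Set G) ≠ ⊤
  pair : ∀ {u : G}, u ∈ D → IsPair κ u (L u)
  facts : ∀ {u : G}, u ∈ D → Facts (↥(L u) ⧸ oddCore ↥(L u)) τ
  conj : ∀ {u : G}, u ∈ D → ∀ g : G, g * u * g⁻¹ ∈ D
  L_conj : ∀ {u : G}, u ∈ D → ∀ g : G, L (g * u * g⁻¹) = cj g (L u)
  one_class : ∀ {u v : G}, u ∈ D → v ∈ D → ∃ g : G, g * u * g⁻¹ = v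
  /-- (P) -/
  swap : ∀ {u v : G}, u ∈ D → v ∈ D → u * v = v * u → ¬ Fixes v (L u) →
    ∃ h ∈ L u, h⁻¹ * v * h = v * u
  inv_mem : ∀ {u t : G}, u ∈ D → t ∈ L u → t * t = 1 → t ≠ 1 → t ∈ D

/-! ### the pump-up -/

section pump

variable {G : Type v} [Group G]

open Classical in
/-- The 2-component `M_x(X)` of `C(x)` containing `cen X x`. -/
noncomputable def pump (x : G) (X : Subgroup G) : Subgroup G :=
  if h : ∃ M, IsComp (centralizer ({x} : Set G)) M ∧ cen X x ≤ M then h.choose else ⊥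

/-- `x` is big for `(u, X)` -/
def IsBig (κ : Kind.{v}) (u : G) (X : Subgroup G) (x : G) : Prop := Big κ u (cen X x) (pump x X)

/-- `x` is small for `X` -/
def IsSmall (X : Subgroup G) (x : G) : Prop := Small (cen X x) (pump x X)

variable [Finite G] {κ : Kind.{v}} {u x : G} {X : Subgroup G}

theorem pump_spec (h : IsPair κ u X) (hxx : x * x = 1) (hx : x * u = u * x) (hf : Fixes x X) :
    IsComp (centralizer ({x} : Set G)) (pump x X) ∧ cen X x ≤ pump x X := by
  obtain ⟨M, h1, h2, -⟩ := exists_pump h hxx hx hf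
  have h3 : ∃ M, IsComp (centralizer ({x} : Set G)) M ∧ cen X x ≤ M := ⟨M, h1, h2⟩
  rw [pump, dif_pos h3]
  exact h3.choose_spec

theorem pump_comp (h : IsPair κ u X) (hxx : x * x = 1) (hx : x * u = u * x) (hf : Fixes x X) :
    IsComp (centralizer ({x} : Set G)) (pump x X) := (pump_spec h hxx hx hf).1

theorem cen_le_pump (h : IsPair κ u X) (hxx : x * x = 1) (hx : x * u = u * x) (hf : Fixes x X) :
    cen X x ≤ pump x X := (pump_spec h hxx hx hf).2

theorem mem_pump (h : IsPair κ u X) (hxx : x * x = 1) (hx : x * u = u * x) (hf : Fixes x X) :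
    u ∈ pump x X := cen_le_pump h hxx hx hf (pair_mem_cen h hx)

/-- 2-elements of `X` commuting with `x` lie in the pump-up -/
theorem mem_pump_of_mem (h : IsPair κ u X) (hxx : x * x = 1) (hx : x * u = u * x) (hf : Fixes x X)
    {m : G} (hm : m ∈ X) (hmx : m * x = x * m) {k : ℕ} (hk : m ^ 2 ^ k = 1) : m ∈ pump x X :=
  cen_le_pump h hxx hx hf (mem_cen hm hmx hk)

theorem pump_eq (h : IsPair κ u X) (hxx : x * x = 1) (hx : x * u = u * x) (hf : Fixes x X)
    {M : Subgroup G} (hM : IsComp (centralizer ({x} : Set G)) M) (hle : cen X x ≤ M) :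
    pump x X = M :=
  pump_unique h hxx hx hf (pump_comp h hxx hx hf) hM (cen_le_pump h hxx hx hf) hle

theorem cj_pump (h : IsPair κ u X) (hxx : x * x = 1) (hx : x * u = u * x) (hf : Fixes x X)
    (g : G) : pump (g * x * g⁻¹) (cj g X) = cj g (pump x X) := by
  refine pump_eq (h.cj g) ?_ ?_ (hf.cj g) ?_ ?_
  · rw [show g * x * g⁻¹ * (g * x * g⁻¹) = g * (x * x) * g⁻¹ by group, hxx]; group
  · rw [show g * x * g⁻¹ * (g * u * g⁻¹) = g * (x * u) * g⁻¹ by group, hx]; group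
  · rw [← cj_centralizer]
    exact (pump_comp h hxx hx hf).cj g
  · rw [← cj_cen]
    exact cj_mono (cen_le_pump h hxx hx hf)

/-- elements normalizing `X` and commuting with `x` normalize the pump-up -/
theorem mem_normalizer_pump (h : IsPair κ u X) (hxx : x * x = 1) (hx : x * u = u * x)
    (hf : Fixes x X) {a : G} (ha : a ∈ normalizer (X : Set G)) (hax : a * x = x * a) :
    a ∈ normalizer (pump x X : Set G) := by
  have h1 := cj_pump h hxx hx hf a
  rw [mem_normalizer_iff_cj] at ha ⊢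
  rw [ha, hax, mul_inv_cancel_right] at h1
  exact h1.symm

/-- `u` is an involution of `C(x)`, `cen X x` is a 2-component of `C(x) ∩ C(u)` -/
theorem isComp_cen_pump (h : IsPair κ u X) (hxx : x * x = 1) (hx : x * u = u * x)
    (hf : Fixes x X) :
    IsComp (centralizer ({x} : Set G) ⊓ centralizer ({u} : Set G)) (cen X x) := by
  rw [inf_comm]
  exact (isComp_cen h.comp (mem_centralizer_singleton_iff.mpr hx) hxx hf).1

theorem isComp_cen_inf (h : IsPair κ u X) (hxx : x * x = 1) (hx : x * u = u * x)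
    (hf : Fixes x X) : IsComp (pump x X ⊓ centralizer ({u} : Set G)) (cen X x) :=
  isComp_inf (isComp_cen_pump h hxx hx hf) (pump_comp h hxx hx hf) (cen_le_pump h hxx hx hf)

/-- **small or big** -/
theorem isSmall_or_isBig (ih : PQS κ (Nat.card G))
    (hc : ∀ x : G, orderOf x = 2 → centralizer ({x} : Set G) ≠ ⊤)
    (h : IsPair κ u X) (hxx : x * x = 1) (hx1 : x ≠ 1) (hx : x * u = u * x)
    (hf : Fixes x X) : IsSmall X x ∨ IsBig κ u X x := by
  refine small_or_big ih h.inv (pair_mem_cen h hx) (isComp_cen_pump h hxx hx hf)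
    ((kind_cen h.comp (mem_centralizer_singleton_iff.mpr hx) hxx hf).mpr h.kind)
    (pump_comp h hxx hx hf) (cen_le_pump h hxx hx hf) ?_
  have hox : orderOf x = 2 := orderOf_eq_prime (by rw [pow_two, hxx]) hx1
  have h1 : pump x X < ⊤ := lt_of_le_of_lt (pump_comp h hxx hx hf).le
    (lt_top_iff_ne_top.mpr (hc x hox))
  have h2 : Nat.card (pump x X) ≤ Nat.card G :=
    Nat.le_of_dvd Nat.card_pos (Subgroup.card_subgroup_dvd_card _)
  refine lt_of_le_of_ne h2 fun h3 => h1.ne (Subgroup.eq_top_of_card_eq _ h3)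

omit [Finite G] in
theorem IsSmall.fixes {X : Subgroup G} (h : IsSmall X x) (hp : IsPair κ u X) (hx : x * u = u * x) :
    Fixes u (pump x X) :=
  Small.fixes h (pair_mem_cen hp hx) fun _ hy =>
    mem_centralizer_singleton_iff.mpr (pair_comm hp (cen_le X x hy))

/-- the target situation in `M / O(M)` for a pair -/
theorem Big.tgt {M J : Subgroup G} (hT : Tgt κ) (h : Big κ u J M) (hu : u * u = 1) (hu1 : u ≠ 1)
    (huJ : u ∈ J) (hJ : IsComp (M ⊓ centralizer ({u} : Set G)) J) (hk : κ.P (↥J ⧸ oddCore ↥J)) :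
    ∃ huM : u ∈ M, (QuotientGroup.mk ⟨u, huM⟩ : ↥M ⧸ oddCore ↥M) ∉ center (↥M ⧸ oddCore ↥M) ∧
      ∀ s : ↥M ⧸ oddCore ↥M, s * s = 1 → s ≠ 1 → ∃ g, g * QuotientGroup.mk ⟨u, huM⟩ * g⁻¹ = s := by
  obtain ⟨huM, h1⟩ := h
  exact ⟨huM, hT _ _ _ h1 (isPair_quot hu hu1 huJ huM hJ hk)⟩

theorem IsBig.tgt (hT : Tgt κ) (h : IsBig κ u X x) (hp : IsPair κ u X) (hxx : x * x = 1)
    (hx : x * u = u * x) (hf : Fixes x X) :
    ∃ huM : u ∈ pump x X, (QuotientGroup.mk ⟨u, huM⟩ : ↥(pump x X) ⧸ oddCore ↥(pump x X)) ∉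
        center (↥(pump x X) ⧸ oddCore ↥(pump x X)) ∧
      ∀ s : ↥(pump x X) ⧸ oddCore ↥(pump x X), s * s = 1 → s ≠ 1 →
        ∃ g, g * QuotientGroup.mk ⟨u, huM⟩ * g⁻¹ = s :=
  Big.tgt hT h hp.sq hp.ne_one (pair_mem_cen hp hx) (isComp_cen_inf hp hxx hx hf)
    ((kind_cen hp.comp (mem_centralizer_singleton_iff.mpr hx) hxx hf).mpr hp.kind)

theorem IsBig.not_fixes (hT : Tgt κ) (h : IsBig κ u X x) (hp : IsPair κ u X) (hxx : x * x = 1)
    (hx : x * u = u * x) (hf : Fixes x X) : ¬ Fixes u (pump x X) := by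
  intro hfu
  obtain ⟨huM, h1, -⟩ := h.tgt hT hp hxx hx hf
  apply h1
  rw [mem_center_iff]
  intro y
  obtain ⟨⟨y, hy⟩, rfl⟩ := QuotientGroup.mk_surjective y
  rw [mk_comm_iff]
  exact (fixes_iff_conj.mp hfu).2 y hy

/-- big and small exclude each other -/
theorem IsBig.not_small (hT : Tgt κ) (h : IsBig κ u X x) (hp : IsPair κ u X) (hxx : x * x = 1)
    (hx : x * u = u * x) (hf : Fixes x X) : ¬ IsSmall X x := fun hs =>
  h.not_fixes hT hp hxx hx hf (hs.fixes hp hx)

/-- in the big case the pump-up has one class of involutions -/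
theorem IsBig.conj (hT : Tgt κ) (h : IsBig κ u X x) (hp : IsPair κ u X) (hxx : x * x = 1)
    (hx : x * u = u * x) (hf : Fixes x X) {s : G} (hs : s ∈ pump x X) (hss : s * s = 1) (hs1 : s ≠ 1) :
    ∃ g ∈ pump x X, g * u * g⁻¹ = s := by
  obtain ⟨huM, -, h5⟩ := h.tgt hT hp hxx hx hf
  have h0 : (QuotientGroup.mk ⟨s, hs⟩ : ↥(pump x X) ⧸ oddCore ↥(pump x X)) ≠ 1 := by
    rw [Ne, mk_eq_one_iff]
    exact fun h => hs1 (eq_one_of_mem_core_sq h hss)
  have h00 : (QuotientGroup.mk ⟨s, hs⟩ : ↥(pump x X) ⧸ oddCore ↥(pump x X)) * QuotientGroup.mk ⟨s, hs⟩ = 1 := by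
    change (QuotientGroup.mk ⟨s * s, (pump x X).mul_mem hs hs⟩ : ↥(pump x X) ⧸ oddCore ↥(pump x X)) = 1
    rw [mk_eq_one_iff, hss]
    exact one_mem _
  obtain ⟨g, hg⟩ := h5 _ h00 h0
  obtain ⟨⟨g, hgM⟩, rfl⟩ := QuotientGroup.mk_surjective g
  have h6 : (QuotientGroup.mk ⟨g * u * g⁻¹, (pump x X).mul_mem ((pump x X).mul_mem hgM huM)
      ((pump x X).inv_mem hgM)⟩ : ↥(pump x X) ⧸ oddCore ↥(pump x X)) = QuotientGroup.mk ⟨s, hs⟩ := hg
  rw [mk_eq_mk_iff'] at h6
  have hv : (g * u * g⁻¹) ^ 2 ^ 1 = 1 := by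
    rw [pow_one, pow_two]
    calc g * u * g⁻¹ * (g * u * g⁻¹) = g * (u * u) * g⁻¹ := by group
      _ = 1 := by rw [hp.sq]; group
  obtain ⟨o, ho, h7⟩ := Lifting.exists_conj_eq (odd_card_core (pump x X)) hv
    (show s ^ 2 ^ 1 = 1 by rw [pow_one, pow_two, hss])
    (le_normalizer_core (pump x X) ((pump x X).mul_mem ((pump x X).mul_mem hgM huM)
      ((pump x X).inv_mem hgM))) h6
  refine ⟨o * g, (pump x X).mul_mem (core_le (pump x X) ho) hgM, ?_⟩
  rw [← h7]; group

end pump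

/-! ### general lemmas on `Fixes` -/

section general

variable {G : Type v} [Group G]

theorem comm_mul {u a b : G} (ha : a * u = u * a) (hb : b * u = u * b) : a * b * u = u * (a * b) := by
  rw [mul_assoc, hb, ← mul_assoc, ha, mul_assoc]

theorem comm_pow {u a : G} (ha : a * u = u * a) (m : ℕ) : a ^ m * u = u * a ^ m :=
  ((show Commute a u from ha).pow_left m).eq

theorem mul_sq {a b : G} (ha : a * a = 1) (hb : b * b = 1) (hab : a * b = b * a) :
    (a * b) * (a * b) = 1 := by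
  rw [mul_assoc, ← mul_assoc b a b, ← hab, mul_assoc a b b, hb, mul_one, ha]

theorem mul_ne_one {a b : G} (hb : b * b = 1) (hab : a ≠ b) : a * b ≠ 1 := fun h =>
  hab (by rw [eq_inv_of_mul_eq_one_left h, inv_eq_of_mul_eq_one_left hb])

theorem fixes_pow {K : Subgroup G} {a : G} (ha : Fixes a K) (m : ℕ) : Fixes (a ^ m) K := by
  induction m with
  | zero => rw [pow_zero]; exact fixes_one K
  | succ m ih => rw [pow_succ]; exact fixes_mul ih ha

variable [Finite G]

/-- a normal odd subgroup of a bigger group meets `J` in the core of `J` -/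
theorem inf_core_le {J M : Subgroup G} (hJ : J ≤ normalizer (M : Set G)) : J ⊓ core M ≤ core J := by
  refine le_core inf_le_left ?_ (Odd.of_dvd_nat (odd_card_core M) (card_dvd_of_le inf_le_right))
  intro j hj
  rw [mem_normalizer_iff_cj, cj_inf, cj_eq_self_of_mem hj,
    mem_normalizer_iff_cj.mp (normalizer_le_normalizer_core M (hJ hj))]

/-- an element normalizing `J ≤ M` and fixing `M` fixes `J` -/
theorem fixes_of_le {J M : Subgroup G} (hJM : J ≤ M) {a : G} (ha : a ∈ normalizer (J : Set G))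
    (haf : Fixes a M) : Fixes a J := by
  rw [fixes_iff_conj] at haf ⊢
  refine ⟨ha, fun y hy => inf_core_le (hJM.trans le_normalizer) ⟨?_, haf.2 y (hJM hy)⟩⟩
  exact J.mul_mem (J.inv_mem hy) ((mem_normalizer_iff.mp ha y).mp hy)

/-- if `a` fixes `pump x X` it fixes `X` -/
theorem fixes_of_pump {κ : Kind.{v}} {u x : G} {X : Subgroup G} (h : IsPair κ u X) (hxx : x * x = 1)
    (hx : x * u = u * x) (hf : Fixes x X) {a : G} (ha : a ∈ normalizer (X : Set G)) (hax : a * x = x * a)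
    (haf : Fixes a (pump x X)) : Fixes a X := by
  have hs := (isComp_cen h.comp (mem_centralizer_singleton_iff.mpr hx) hxx hf).2
  rw [← fixes_iff_of_sup hs (mem_normalizer_cen ha hax) ha]
  exact fixes_of_le (cen_le_pump h hxx hx hf) (mem_normalizer_cen ha hax) haf

end general

/-! ### consequences of the record -/

namespace W1

variable {G : Type v} [Group G] [Finite G] {κ : Kind.{v}} {τ : Bool} {D : Set G} {L : G → Subgroup G}
  {u v t x s a b : G}

theorem sq (h : W1 κ τ D L) (hu : u ∈ D) : u * u = 1 := (h.pair hu).sq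

theorem ne_one (h : W1 κ τ D L) (hu : u ∈ D) : u ≠ 1 := (h.pair hu).ne_one

theorem mem (h : W1 κ τ D L) (hu : u ∈ D) : u ∈ L u := (h.pair hu).mem

theorem comp (h : W1 κ τ D L) (hu : u ∈ D) : IsComp (centralizer ({u} : Set G)) (L u) :=
  (h.pair hu).comp

/-- elements of `L u` commute with `u` -/
theorem comm (h : W1 κ τ D L) (hu : u ∈ D) (hx : x ∈ L u) : x * u = u * x := pair_comm (h.pair hu) hx

theorem norm (h : W1 κ τ D L) (hu : u ∈ D) {a : G} (ha : a * u = u * a) :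
    a ∈ normalizer (L u : Set G) := by
  have h1 := h.L_conj hu a
  rw [ha, mul_inv_cancel_right] at h1
  rw [mem_normalizer_iff_cj]
  exact h1.symm

/-- (3.A) -/
theorem symm (h : W1 κ τ D L) (hu : u ∈ D) (hv : v ∈ D) (huv : u * v = v * u) (hf : Fixes v (L u)) :
    Fixes u (L v) := typeZero_symm' (h.pair hu) (h.pair hv) huv hf

theorem small_or_big (h : W1 κ τ D L) (hu : u ∈ D) (hxx : x * x = 1) (hx1 : x ≠ 1)
    (hx : x * u = u * x) (hf : Fixes x (L u)) : IsSmall (L u) x ∨ IsBig κ u (L u) x :=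
  isSmall_or_isBig h.ih h.cent (h.pair hu) hxx hx1 hx hf

theorem fixes_self (h : W1 κ τ D L) (hu : u ∈ D) : Fixes u (L u) := by
  rw [fixes_iff_conj]
  refine ⟨le_normalizer (h.mem hu), fun y hy => ?_⟩
  rw [← h.comm hu hy, mul_inv_cancel_right, inv_mul_cancel]
  exact one_mem _

section mk

variable (h : W1 κ τ D L) (hu : u ∈ D)

/-- central involutions of `L u / O(L u)` are equal -/
theorem center_unique (hF : Facts (↥(L u) ⧸ oddCore ↥(L u)) τ) {a b : ↥(L u) ⧸ oddCore ↥(L u)}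
    (ha : a ∈ center (↥(L u) ⧸ oddCore ↥(L u))) (hb : b ∈ center (↥(L u) ⧸ oddCore ↥(L u)))
    (haa : a * a = 1) (hbb : b * b = 1) (ha1 : a ≠ 1) (hb1 : b ≠ 1) : a = b := by
  obtain ⟨i, hi, hc⟩ := hF.exists_i
  rw [hc] at ha hb
  have hi4 : i ^ 4 = 1 := by rw [← hi, pow_orderOf_eq_one]
  have key : ∀ {a : ↥(L u) ⧸ oddCore ↥(L u)}, a ∈ zpowers i → a * a = 1 → a ≠ 1 → a = i ^ 2 := by
    intro a ha haa ha1
    classical
    rw [mem_zpowers_iff_mem_range_orderOf, hi] at ha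
    simp only [Finset.mem_image, Finset.mem_range] at ha
    obtain ⟨n, hn, rfl⟩ := ha
    have h2 : ∀ m : ℕ, i ^ m = 1 → 4 ∣ m := fun m hm => by
      rw [← hi]; exact orderOf_dvd_of_pow_eq_one hm
    interval_cases n
    · exact absurd (pow_zero i) ha1
    · rw [← pow_add] at haa
      have := h2 _ haa
      omega
    · rfl
    · rw [← pow_add] at haa
      have := h2 _ haa
      omega
  rw [key ha haa ha1, key hb hbb hb1]

end mk

omit [Finite G] in
theorem mk_mul {X : Subgroup G} {a b : G} (ha : a ∈ X) (hb : b ∈ X) :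
    (QuotientGroup.mk ⟨a, ha⟩ : ↥X ⧸ oddCore ↥X) * QuotientGroup.mk ⟨b, hb⟩ =
      QuotientGroup.mk ⟨a * b, X.mul_mem ha hb⟩ := rfl

omit [Finite G] in
/-- `mk t` is an involution -/
theorem mk_sq {X : Subgroup G} (ht : t ∈ X) (htt : t * t = 1) :
    (QuotientGroup.mk ⟨t, ht⟩ : ↥X ⧸ oddCore ↥X) * QuotientGroup.mk ⟨t, ht⟩ = 1 := by
  rw [mk_mul, mk_eq_one_iff, htt]
  exact one_mem _

theorem mk_ne_one {X : Subgroup G} (ht : t ∈ X) (htt : t * t = 1) (ht1 : t ≠ 1) :
    (QuotientGroup.mk ⟨t, ht⟩ : ↥X ⧸ oddCore ↥X) ≠ 1 := by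
  rw [Ne, mk_eq_one_iff]
  exact fun h => ht1 (eq_one_of_mem_core_sq h htt)

omit [Finite G] in
theorem mk_center_iff {X : Subgroup G} (ht : t ∈ X) :
    (QuotientGroup.mk ⟨t, ht⟩ : ↥X ⧸ oddCore ↥X) ∈ center (↥X ⧸ oddCore ↥X) ↔ Fixes t X := by
  rw [mem_center_iff, fixes_iff_conj]
  constructor
  · intro h
    refine ⟨le_normalizer ht, fun y hy => ?_⟩
    exact (mk_comm_iff hy ht).mp (h _)
  · rintro ⟨-, h⟩ y
    obtain ⟨⟨y, hy⟩, rfl⟩ := QuotientGroup.mk_surjective y
    exact (mk_comm_iff hy ht).mpr (h y hy)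

/-- `t ∈ L u`, `t` an involution, `t` fixes `L u`: `t = u` -/
theorem eq_of_fixes (h : W1 κ τ D L) (hu : u ∈ D) (ht : t ∈ L u) (htt : t * t = 1) (ht1 : t ≠ 1)
    (hf : Fixes t (L u)) : t = u := by
  have h1 := center_unique (h.facts hu) ((mk_center_iff ht).mpr hf)
    ((mk_center_iff (h.mem hu)).mpr (h.fixes_self hu)) (mk_sq ht htt) (mk_sq (h.mem hu) (h.sq hu))
    (mk_ne_one ht htt ht1) (mk_ne_one (h.mem hu) (h.sq hu) (h.ne_one hu))
  rw [mk_eq_mk_iff'] at h1
  exact Lifting.eq_of_commute (odd_card_core (L u)) (n := 1) (m := 1)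
    (by rw [pow_one, pow_two, htt]) (by rw [pow_one, pow_two, h.sq hu]) (h.comm hu ht) h1

/-- involutions of `L u` other than `u` do not fix `L u` -/
theorem not_fixes (h : W1 κ τ D L) (hu : u ∈ D) (ht : t ∈ L u) (htt : t * t = 1) (ht1 : t ≠ 1)
    (htu : t ≠ u) : ¬ Fixes t (L u) := fun hf => htu (h.eq_of_fixes hu ht htt ht1 hf)

/-- noncentral involutions of `L u / O(L u)` -/
theorem ninv (h : W1 κ τ D L) (hu : u ∈ D) (ht : t ∈ L u) (htt : t * t = 1) (ht1 : t ≠ 1)
    (htu : t ≠ u) : NInv (QuotientGroup.mk ⟨t, ht⟩ : ↥(L u) ⧸ oddCore ↥(L u)) :=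
  ⟨mk_sq ht htt, fun hc => h.not_fixes hu ht htt ht1 htu ((mk_center_iff ht).mp hc)⟩

theorem exists_conj (h : W1 κ τ D L) (hu : u ∈ D) {s t : G} (hs : s ∈ L u) (ht : t ∈ L u)
    (hss : s * s = 1) (htt : t * t = 1) (hs1 : s ≠ 1) (ht1 : t ≠ 1) (hsu : s ≠ u) (htu : t ≠ u) :
    ∃ g ∈ L u, g * s * g⁻¹ = t := by
  obtain ⟨w, hw⟩ := (h.facts hu).conj (h.ninv hu hs hss hs1 hsu) (h.ninv hu ht htt ht1 htu)
  obtain ⟨⟨w, hwX⟩, rfl⟩ := QuotientGroup.mk_surjective w
  have h1 : w * s * w⁻¹ ∈ L u := (L u).mul_mem ((L u).mul_mem hwX hs) ((L u).inv_mem hwX)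
  have h2 : (w * s * w⁻¹)⁻¹ * t ∈ core (L u) := (mk_eq_mk_iff' h1 ht).mp hw
  obtain ⟨o, ho, h3⟩ := Lifting.exists_conj_eq (odd_card_core (L u)) (v := w * s * w⁻¹) (v' := t)
    (n := 1) (m := 1) (by rw [pow_one, pow_two, show w * s * w⁻¹ * (w * s * w⁻¹) = w * (s * s) * w⁻¹ by group, hss]; group)
    (by rw [pow_one, pow_two, htt]) (le_normalizer_core (L u) h1) h2
  refine ⟨o * w, (L u).mul_mem (core_le (L u) ho) hwX, ?_⟩
  rw [← h3]; group

/-- involutions of `L u` commuting with a 2-group fixing `L u` -/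
theorem exists_inv_comm (h : W1 κ τ D L) (hu : u ∈ D) {V : Subgroup G} (hV : IsPGroup 2 V)
    (hf : ∀ a ∈ V, Fixes a (L u)) :
    ∃ t ∈ L u, t * t = 1 ∧ t ≠ 1 ∧ t ≠ u ∧ ∀ a ∈ V, a * t = t * a := by
  obtain ⟨t', ht2, htc⟩ := (h.facts hu).exists_t
  obtain ⟨⟨t₀, ht₀⟩, rfl⟩ := QuotientGroup.mk_surjective t'
  have hVN : V ≤ normalizer (core (L u) : Set G) := fun a ha =>
    normalizer_le_normalizer_core (L u) (hf a ha).1
  obtain ⟨o, ho, h4⟩ := Lifting.exists_commute_group (odd_card_core (L u)) hV hVN (m := t₀)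
    (fun a ha => (fixes_iff_conj.mp (hf a ha)).2 t₀ ht₀)
  have h3 : t₀ * t₀ ∈ core (L u) := by
    rw [mk_mul, mk_eq_one_iff] at ht2
    exact ht2
  have h5 : (t₀ * o) ^ 2 ^ 1 ∈ core (L u) := by
    have h6 := conj_mem_core (x := t₀) (le_normalizer ht₀) ho
    have h7 : (t₀ * o) ^ 2 ^ 1 = (t₀ * o * t₀⁻¹) * (t₀ * t₀) * o := by
      rw [pow_one, pow_two]; group
    rw [h7]
    exact mul_mem (mul_mem h6 h3) ho
  obtain ⟨k, h6, h7⟩ := Lifting.exists_two_part (odd_card_core (L u)) h5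
  have hmem : t₀ * o ∈ L u := (L u).mul_mem ht₀ (core_le (L u) ho)
  have hk := (L u).pow_mem hmem k
  have e : (QuotientGroup.mk ⟨(t₀ * o) ^ k, hk⟩ : ↥(L u) ⧸ oddCore ↥(L u)) = QuotientGroup.mk ⟨t₀, ht₀⟩ := by
    have h8 : (QuotientGroup.mk ⟨t₀ * o, hmem⟩ : ↥(L u) ⧸ oddCore ↥(L u)) =
        QuotientGroup.mk ⟨(t₀ * o) ^ k, hk⟩ := (mk_eq_mk_iff' hmem hk).mpr h7
    rw [← h8]
    symm
    rw [mk_eq_mk_iff', inv_mul_cancel_left]
    exact ho
  refine ⟨(t₀ * o) ^ k, hk, by rwa [pow_one, pow_two] at h6, ?_, ?_, fun a ha => ?_⟩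
  · intro h8
    apply htc
    have h9 : (QuotientGroup.mk ⟨(t₀ * o) ^ k, hk⟩ : ↥(L u) ⧸ oddCore ↥(L u)) = 1 := by
      rw [mk_eq_one_iff, h8]; exact one_mem _
    rw [← e, h9]
    exact one_mem _
  · intro h8
    apply htc
    rw [← e, mk_center_iff, h8]
    exact h.fixes_self hu
  · exact ((show Commute a (t₀ * o) from h4 a ha).pow_right k).eq

/-- an involution of `L u` other than `u` commuting with the 2-element `a` fixing `L u` -/
theorem exists_inv_comm_one (h : W1 κ τ D L) (hu : u ∈ D) {a : G} {m : ℕ} (ham : a ^ 2 ^ m = 1)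
    (hf : Fixes a (L u)) :
    ∃ t ∈ L u, t * t = 1 ∧ t ≠ 1 ∧ t ≠ u ∧ a * t = t * a := by
  have hV : IsPGroup 2 (zpowers a) := by
    rintro ⟨_, k, rfl⟩
    refine ⟨m, ?_⟩
    apply Subtype.ext
    change (a ^ k) ^ 2 ^ m = 1
    rw [← zpow_natCast, ← zpow_mul, mul_comm, zpow_mul, zpow_natCast, ham, one_zpow]
  obtain ⟨t, ht, h1, h2, h3, h4⟩ := h.exists_inv_comm hu hV (fun b hb => by
    obtain ⟨k, rfl⟩ := mem_zpowers_iff.mp hb
    obtain ⟨n, hn⟩ : ∃ n : ℕ, a ^ k = a ^ n := by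
      have h5 := mem_powers_iff_mem_zpowers.mpr (zpow_mem_zpowers a k)
      obtain ⟨n, hn⟩ := Submonoid.mem_powers_iff _ _ |>.mp h5
      exact ⟨n, hn.symm⟩
    rw [hn]
    exact fixes_pow hf n)
  exact ⟨t, ht, h1, h2, h3, h4 a (mem_zpowers a)⟩

/-- **(5.1)** -/
theorem mem_of_mem (h : W1 κ τ D L) (hu : u ∈ D) (ht : t ∈ L u) (htt : t * t = 1) (ht1 : t ≠ 1) :
    u ∈ L t := by
  by_cases htu : t = u
  · rw [htu]; exact h.mem hu
  have htD := h.inv_mem hu ht htt ht1
  have hc := h.comm hu ht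
  have hnf := h.not_fixes hu ht htt ht1 htu
  have hnf' : ¬ Fixes u (L t) := fun hf => hnf (h.symm htD hu hc hf)
  obtain ⟨a, haL, ha⟩ := h.swap hu htD hc.symm hnf
  obtain ⟨b, hbL, hb⟩ := h.swap htD hu hc hnf'
  -- `a`: fixes `u`, `t ↦ t u`;  `b`: fixes `t`, `u ↦ u t`
  have hau : a⁻¹ * u * a = u := by
    rw [mul_assoc, ← h.comm hu haL, inv_mul_cancel_left]
  have hbt : b⁻¹ * t * b = t := by
    rw [mul_assoc, ← h.comm htD hbL, inv_mul_cancel_left]
  -- `g = a * b * a`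
  obtain ⟨g, hg⟩ : ∃ g, g = a * b * a := ⟨_, rfl⟩
  have e1 : g⁻¹ * u * g = t := by
    have : g⁻¹ * u * g = a⁻¹ * (b⁻¹ * (a⁻¹ * u * a) * b) * a := by rw [hg]; group
    rw [this, hau, hb, show a⁻¹ * (u * t) * a = (a⁻¹ * u * a) * (a⁻¹ * t * a) by group, hau, ha,
      hc, ← mul_assoc, h.sq hu, one_mul]
  have e2 : g⁻¹ * t * g = u := by
    have : g⁻¹ * t * g = a⁻¹ * (b⁻¹ * (a⁻¹ * t * a) * b) * a := by rw [hg]; group
    rw [this, ha, show b⁻¹ * (t * u) * b = (b⁻¹ * t * b) * (b⁻¹ * u * b) by group, hbt, hb,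
      ← hc, ← mul_assoc t t u, h.sq htD, one_mul, hau]
  have e3 : L t = cj g⁻¹ (L u) := by
    have := h.L_conj hu g⁻¹
    rw [inv_inv, e1] at this
    exact this
  rw [e3]
  have := conj_mem_cj (g := g⁻¹) ht
  rwa [inv_inv, e2] at this

/-! ### (5.3) -/

section

variable (h : W1 κ τ D L) (hu : u ∈ D) (hxx : x * x = 1) (hx : x * u = u * x)
  (hf : Fixes x (L u)) (ht : t ∈ L u) (htt : t * t = 1) (ht1 : t ≠ 1) (htu : t ≠ u)
  (hxt : x * t = t * x)

include h hu hxx hx hf ht htt ht1 htu hxt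

/-- the involutions of `L u` other than `u` commuting with `x` do not fix the pump-up -/
theorem not_fixes_pump : ¬ Fixes t (pump x (L u)) := fun hft =>
  h.not_fixes hu ht htt ht1 htu
    (fixes_of_pump (h.pair hu) hxx hx hf (h.norm hu (h.comm hu ht)) hxt.symm hft)

/-- **(5.3), first half** -/
theorem pump_eq_pump (hft : Fixes x (L t)) : pump x (L u) = pump x (L t) := by
  have htD := h.inv_mem hu ht htt ht1
  by_contra hne
  have h1 := pump_comp (h.pair hu) hxx hx hf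
  have h2 := pump_comp (h.pair htD) hxx hxt hft
  have h3 := mem_pump_of_mem (h.pair hu) hxx hx hf ht hxt.symm (k := 1) (by rw [pow_one, pow_two, htt])
  have h4 := h1.fixes_of_mem h2 hne (mem_pump (h.pair htD) hxx hxt hft)
  exact h.not_fixes_pump hu hxx hx hf ht htt ht1 htu hxt h4

theorem isBig_of_fixes (hx1 : x ≠ 1) (hft : Fixes x (L t)) :
    IsBig κ u (L u) x ∧ IsBig κ t (L t) x := by
  have htD := h.inv_mem hu ht htt ht1
  have huL := h.mem_of_mem hu ht htt ht1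
  have he := h.pump_eq_pump hu hxx hx hf ht htt ht1 htu hxt hft
  constructor
  · refine (h.small_or_big hu hxx hx1 hx hf).resolve_left fun hs => ?_
    -- `u` fixes the pump-up, which is the pump-up of `L t`, in which `u` is not central
    have h1 := hs.fixes (h.pair hu) hx
    rw [he] at h1
    exact h.not_fixes_pump htD hxx hxt hft huL (h.sq hu) (h.ne_one hu) (Ne.symm htu) hx h1
  · refine (h.small_or_big htD hxx hx1 hxt hft).resolve_left fun hs => ?_
    have h1 := hs.fixes (h.pair htD) hxt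
    rw [← he] at h1
    exact h.not_fixes_pump hu hxx hx hf ht htt ht1 htu hxt h1

end

/-- **(5.3), second half**: if `x` is big then all involutions `s` of the pump-up are in `D`, `x` fixes
`L s`, the pump-ups are the same and `x` is big for `s`. -/
theorem of_mem_pump (h : W1 κ τ D L) (hu : u ∈ D) (hxx : x * x = 1) (hx1 : x ≠ 1) (hx : x * u = u * x)
    (hf : Fixes x (L u)) (hb : IsBig κ u (L u) x) {s : G} (hs : s ∈ pump x (L u))
    (hss : s * s = 1) (hs1 : s ≠ 1) : s ∈ D ∧ x * s = s * x ∧ Fixes x (L s) ∧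
      pump x (L s) = pump x (L u) ∧ IsBig κ s (L s) x := by
  obtain ⟨m, hm, rfl⟩ := hb.conj h.tgt (h.pair hu) hxx hx hf hs hss hs1
  have hM := pump_comp (h.pair hu) hxx hx hf
  have hmx : m * x = x * m := mem_centralizer_singleton_iff.mp (hM.le hm)
  have hxm : m * x * m⁻¹ = x := by rw [hmx, mul_inv_cancel_right]
  have h1 := hf.cj m
  rw [hxm, ← h.L_conj hu] at h1
  have h2 := cj_pump (h.pair hu) hxx hx hf m
  rw [hxm, ← h.L_conj hu, cj_eq_self_of_mem hm] at h2
  have h3 := (mem_centralizer_singleton_iff.mp (hM.le hs)).symm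
  refine ⟨h.conj hu m, h3, h1, h2, ?_⟩
  refine (h.small_or_big (h.conj hu m) hxx hx1 h3 h1).resolve_left fun hsm => ?_
  have h4 := (hsm.fixes (h.pair (h.conj hu m)) h3).cj m⁻¹
  rw [h2, cj_eq_self_of_mem (Subgroup.inv_mem _ hm), show m⁻¹ * (m * u * m⁻¹) * m⁻¹⁻¹ = u by group] at h4
  exact hb.not_fixes h.tgt (h.pair hu) hxx hx hf h4

/-- **(5.3)** -/
theorem fixes_of_isBig (h : W1 κ τ D L) (hu : u ∈ D) (hxx : x * x = 1) (hx1 : x ≠ 1)
    (hx : x * u = u * x) (hf : Fixes x (L u)) (ht : t ∈ L u) (htt : t * t = 1) (ht1 : t ≠ 1)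
    (hxt : x * t = t * x) (hb : IsBig κ u (L u) x) : Fixes x (L t) :=
  (h.of_mem_pump hu hxx hx1 hx hf hb
    (mem_pump_of_mem (h.pair hu) hxx hx hf ht hxt.symm (k := 1) (by rw [pow_one, pow_two, htt]))
    htt ht1).2.2.1

/-- **(5.3)** -/
theorem isBig_iff (h : W1 κ τ D L) (hu : u ∈ D) (hxx : x * x = 1) (hx1 : x ≠ 1)
    (hx : x * u = u * x) (hf : Fixes x (L u)) (ht : t ∈ L u) (htt : t * t = 1) (ht1 : t ≠ 1)
    (htu : t ≠ u) (hxt : x * t = t * x) : IsBig κ u (L u) x ↔ Fixes x (L t) :=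
  ⟨h.fixes_of_isBig hu hxx hx1 hx hf ht htt ht1 hxt,
    fun hft => (h.isBig_of_fixes hu hxx hx hf ht htt ht1 htu hxt hx1 hft).1⟩

end W1

end Cfsg.Agent.UGT.I34.WOne

private theorem dce_883238908d52 : _root_.True := by
  try have : _root_.True := by simp only [_root_.Cfsg.Agent.UGT.I34.WOne.pump.eq_1]
  exact _root_.True.intro
end

-- part: UGT/I34/SideOf
section
set_option linter.all false
open scoped Cfsg.Agent.FastGrp

/-!
# THEOREM I34, part [A]: the sides of the local configuration in the world W1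

`R`: a 2-subgroup of `C(u, t)` of odd index, `t ≠ u` an involution of `L u`.
`sideOf : Side R (L u / O(L u)) u t`; `sideOf' : Side R (L t / O(L t)) t u`.
-/

set_option autoImplicit false

open Cfsg Subgroup
open Cfsg.Agent.SignalizersComponents Cfsg.Agent.Lib
open Cfsg.Agent.SignalizersComponents.IntrinsicBasic
open Cfsg.Agent.SignalizersComponents.PLayerAut
open Cfsg.Agent.Intrinsic
open Cfsg.Agent.Intrinsic.Basic hiding IsPair PQS Target IsPair.sq IsPair.ne_one IsPair.cj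
open Cfsg.Agent.Intrinsic.Cen hiding pair_comm pair_mem_cen exists_pump pump_unique
open Cfsg.Agent.Intrinsic.Quot hiding Big isPair_quot small_or_big
open Cfsg.Agent.McLLyComp.Act hiding mk_eq_one_iff
open Cfsg.Agent.UGT.I34.Pair Cfsg.Agent.UGT.I34.KF Cfsg.Agent.UGT.I34.Loc Cfsg.Agent.UGT.I34.WOne
open scoped commutatorElement

namespace Cfsg.Agent.UGT.I34.SideOf

universe v

section syl

theorem relIndex_dvd {H : Type*} [Group H] [Finite H] (P X : Subgroup H) [X.Normal] :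
    P.relIndex X ∣ P.index := by
  have h1 : X.relIndex P * P.index = (X ⊓ P).index := by
    rw [← inf_relIndex_right, relIndex_mul_index inf_le_right]
  have h2 : P.relIndex X * X.index = (X ⊓ P).index := by
    rw [← inf_relIndex_right, inf_comm, relIndex_mul_index inf_le_left]
  have h3 : X.relIndex P * (P ⊔ X).index = X.index := by
    rw [← relIndex_sup_right P X, relIndex_mul_index le_sup_right]
  have h4 : X.relIndex P ≠ 0 := (FiniteIndex.index_ne_zero : (X.subgroupOf P).index ≠ 0)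
  refine ⟨(P ⊔ X).index, Nat.eq_of_mul_eq_mul_left (Nat.pos_of_ne_zero h4) ?_⟩
  rw [h1, ← h2, ← h3]
  ring

/-- a normal section which is a 2-group is covered by a Sylow 2-subgroup -/
theorem exists_in_sylow {G : Type*} [Group G] [Finite G] {R H X : Subgroup G} (hRH : R ≤ H)
    (hodd : ¬ 2 ∣ R.relIndex H) (hXH : X ≤ H) (hn : ∀ h ∈ H, ∀ x ∈ X, h * x * h⁻¹ ∈ X)
    {Q : Type*} [Group Q] (f : ↥X →* Q) (hf : Function.Surjective f) (hQ : IsPGroup 2 Q) (q : Q) :
    ∃ (x : G) (hx : x ∈ X), x ∈ R ∧ f ⟨x, hx⟩ = q := by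
  have h2 : Fact (Nat.Prime 2) := ⟨Nat.prime_two⟩
  have hnorm : (X.subgroupOf H).Normal := ⟨fun x hx g => hn g g.2 x hx⟩
  have h3 : R.relIndex X ∣ R.relIndex H := by
    have := relIndex_dvd (R.subgroupOf H) (X.subgroupOf H)
    rwa [relIndex_subgroupOf hXH] at this
  have h4 : ((R.subgroupOf X).map f).index ∣ R.relIndex H :=
    (Subgroup.index_map_dvd _ hf).trans h3
  have hfin : Finite Q := Finite.of_surjective f hf
  obtain ⟨k, hk⟩ := hQ.index ((R.subgroupOf X).map f)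
  have h5 : (R.subgroupOf X).map f = ⊤ := by
    rw [← Subgroup.index_eq_one]
    rcases Nat.eq_zero_or_pos k with h6 | h6
    · rw [hk, h6, pow_zero]
    · exact absurd ((dvd_pow_self 2 h6.ne').trans (hk ▸ h4)) hodd
  have h6 : q ∈ (R.subgroupOf X).map f := by rw [h5]; trivial
  obtain ⟨⟨x, hx⟩, hxR, hxq⟩ := h6
  exact ⟨x, hx, hxR, hxq⟩

end syl

variable {G : Type v} [Group G] [Finite G] {κ : Kind.{v}} {τ : Bool} {D : Set G} {L : G → Subgroup G}
  {u t x : G} {R : Subgroup G}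

/-- The local configuration: `u ∈ D`, `t ≠ u` an involution of `L u`, `R` a 2-subgroup of `C(u, t)` of odd index. -/
structure Cfg (D : Set G) (L : G → Subgroup G) (u t : G) (R : Subgroup G) : Prop where
  hu : u ∈ D
  ht : t ∈ L u
  tt : t * t = 1
  t1 : t ≠ 1
  tu : t ≠ u
  two : IsPGroup 2 R
  le : R ≤ centralizer ({u} : Set G) ⊓ centralizer ({t} : Set G)
  odd : ¬ 2 ∣ R.relIndex (centralizer ({u} : Set G) ⊓ centralizer ({t} : Set G))

namespace Cfg

theorem tD (c : Cfg D L u t R) (h : W1 κ τ D L) : t ∈ D := h.inv_mem c.hu c.ht c.tt c.t1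

theorem symm (c : Cfg D L u t R) (h : W1 κ τ D L) : Cfg D L t u R where
  hu := c.tD h
  ht := h.mem_of_mem c.hu c.ht c.tt c.t1
  tt := h.sq c.hu
  t1 := h.ne_one c.hu
  tu := c.tu.symm
  two := c.two
  le := by rw [inf_comm]; exact c.le
  odd := by rw [inf_comm]; exact c.odd

omit [Finite G] in
theorem comm_u (c : Cfg D L u t R) {r : G} (hr : r ∈ R) : r * u = u * r :=
  mem_centralizer_singleton_iff.mp (c.le hr).1

omit [Finite G] in
theorem comm_t (c : Cfg D L u t R) {r : G} (hr : r ∈ R) : r * t = t * r :=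
  mem_centralizer_singleton_iff.mp (c.le hr).2

theorem norm (c : Cfg D L u t R) (h : W1 κ τ D L) {r : G} (hr : r ∈ R) : r ∈ normalizer (L u : Set G) :=
  h.norm c.hu (c.comm_u hr)

/-- central 2-elements of `C(u, t)` are in `R` -/
theorem mem_of_central (c : Cfg D L u t R) {y : G} (hy : y ∈ centralizer ({u} : Set G) ⊓ centralizer ({t} : Set G))
    (hc : ∀ g ∈ centralizer ({u} : Set G) ⊓ centralizer ({t} : Set G), g * y = y * g) (hyy : y * y = 1) :
    y ∈ R := by
  have h2 : Fact (Nat.Prime 2) := ⟨Nat.prime_two⟩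
  have hp : IsPGroup 2 ↥(zpowers y) := by
    rintro ⟨_, k, rfl⟩
    refine ⟨1, ?_⟩
    apply Subtype.ext
    change (y ^ k) ^ 2 ^ 1 = 1
    rw [pow_one, ← zpow_natCast, ← zpow_mul, mul_comm, zpow_mul, zpow_natCast, pow_two, hyy, one_zpow]
  obtain ⟨x, hx, hxR, hxy⟩ := exists_in_sylow (X := zpowers y) (Q := ↥(zpowers y)) c.le c.odd
    (zpowers_le.mpr hy) (by
      intro g hg x hx
      obtain ⟨k, rfl⟩ := mem_zpowers_iff.mp hx
      have h3 : Commute g y := hc g hg
      rw [(h3.zpow_right k).eq, mul_inv_cancel_right]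
      exact hx) (MonoidHom.id _) Function.surjective_id hp ⟨y, mem_zpowers y⟩
  have h3 : x = y := congrArg Subtype.val hxy
  rwa [← h3]

theorem uR (c : Cfg D L u t R) (h : W1 κ τ D L) : u ∈ R :=
  c.mem_of_central ⟨mem_centralizer_singleton_iff.mpr rfl, mem_centralizer_singleton_iff.mpr
    (h.comm c.hu c.ht).symm⟩ (fun _ hg => mem_centralizer_singleton_iff.mp hg.1) (h.sq c.hu)

theorem tR (c : Cfg D L u t R) (h : W1 κ τ D L) : t ∈ R :=
  c.mem_of_central ⟨mem_centralizer_singleton_iff.mpr (h.comm c.hu c.ht),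
    mem_centralizer_singleton_iff.mpr rfl⟩ (fun _ hg => mem_centralizer_singleton_iff.mp hg.2) c.tt

theorem cen (c : Cfg D L u t R) (h : W1 κ τ D L) : Cen ↥R ⟨u, c.uR h⟩ ⟨t, c.tR h⟩ where
  two := c.two
  cz r := Subtype.ext (c.comm_u r.2)
  ce r := Subtype.ext (c.comm_t r.2)
  zz := Subtype.ext (h.sq c.hu)
  ee := Subtype.ext c.tt
  z1 := fun h' => h.ne_one c.hu (congrArg Subtype.val h')
  e1 := fun h' => c.t1 (congrArg Subtype.val h')
  ze := fun h' => c.tu.symm (congrArg Subtype.val h')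

/-- the side `L u` of the configuration -/
noncomputable def side (c : Cfg D L u t R) (h : W1 κ τ D L) :
    Side ↥R (↥(L u) ⧸ oddCore ↥(L u)) ⟨u, c.uR h⟩ ⟨t, c.tR h⟩ where
  S := (L u).subgroupOf R
  normal := ⟨fun s hs r => (mem_normalizer_iff.mp (c.norm h r.2) s).mp hs⟩
  zS := h.mem c.hu
  eS := c.ht
  j := { toFun := fun s => QuotientGroup.mk ⟨((s : ↥R) : G), s.2⟩
         map_one' := rfl
         map_mul' := fun _ _ => rfl }
  inj := by
    rw [injective_iff_map_eq_one]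
    rintro ⟨⟨s, hsR⟩, hs⟩ hs1
    have h1 : s ∈ core (L u) := (Quot.mk_eq_one_iff (M := L u) (x := s) hs).mp hs1
    obtain ⟨n, hn⟩ := c.two ⟨s, hsR⟩
    have h2 : s = 1 := eq_one_of_mem_core h1 (congrArg Subtype.val hn)
    apply Subtype.ext
    exact Subtype.ext h2
  jz := (W1.mk_center_iff (h.mem c.hu)).mpr (h.fixes_self c.hu)
  je := h.ninv c.hu c.ht c.tt c.t1 c.tu
  surj := by
    intro k hk
    have h2 : Fact (Nat.Prime 2) := ⟨Nat.prime_two⟩
    have hk' : k ∈ centralizer ({(QuotientGroup.mk ⟨t, c.ht⟩ : ↥(L u) ⧸ oddCore ↥(L u))} :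
        Set (↥(L u) ⧸ oddCore ↥(L u))) := mem_centralizer_singleton_iff.mpr hk
    have hQ : IsPGroup 2 ↥(centralizer ({(QuotientGroup.mk ⟨t, c.ht⟩ : ↥(L u) ⧸ oddCore ↥(L u))} :
        Set (↥(L u) ⧸ oddCore ↥(L u)))) :=
      IsPGroup.of_card (n := 7) (by rw [(h.facts c.hu).card_C (h.ninv c.hu c.ht c.tt c.t1 c.tu)]; norm_num)
    let f : ↥(L u ⊓ centralizer ({t} : Set G)) →*
        ↥(centralizer ({(QuotientGroup.mk ⟨t, c.ht⟩ : ↥(L u) ⧸ oddCore ↥(L u))} :
          Set (↥(L u) ⧸ oddCore ↥(L u)))) :=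
      { toFun := fun x => ⟨QuotientGroup.mk ⟨x, x.2.1⟩, mem_centralizer_singleton_iff.mpr
          (congrArg QuotientGroup.mk (Subtype.ext (mem_centralizer_singleton_iff.mp x.2.2) :
            (⟨(x : G) * t, (L u).mul_mem x.2.1 c.ht⟩ : ↥(L u)) = ⟨t * x, (L u).mul_mem c.ht x.2.1⟩))⟩
        map_one' := rfl
        map_mul' := fun _ _ => rfl }
    have hf : Function.Surjective f := by
      rintro ⟨y, hy⟩
      obtain ⟨⟨m, hm⟩, rfl⟩ := QuotientGroup.mk_surjective y
      have h3 := (mk_comm_iff hm c.ht).mp (mem_centralizer_singleton_iff.mp hy)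
      obtain ⟨o, ho, h4⟩ := Lifting.exists_commute (odd_card_core (L u)) (n := 1)
        (by rw [pow_one, pow_two, c.tt]) (le_normalizer_core _ c.ht) h3
      have hmo : m * o ∈ L u := (L u).mul_mem hm (core_le _ ho)
      refine ⟨⟨m * o, hmo, mem_centralizer_singleton_iff.mpr h4.symm⟩, Subtype.ext ?_⟩
      change (QuotientGroup.mk ⟨m * o, hmo⟩ : ↥(L u) ⧸ oddCore ↥(L u)) = QuotientGroup.mk ⟨m, hm⟩
      symm
      rw [mk_eq_mk_iff', inv_mul_cancel_left]
      exact ho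
    obtain ⟨x, hx, hxR, hxk⟩ := exists_in_sylow (X := L u ⊓ centralizer ({t} : Set G)) c.le c.odd
      (inf_le_inf_right _ fun x hx => mem_centralizer_singleton_iff.mpr (h.comm c.hu hx)) (by
        intro g hg x hx
        have h3 := h.norm c.hu (mem_centralizer_singleton_iff.mp hg.1)
        exact ⟨(mem_normalizer_iff.mp h3 x).mp hx.1, (centralizer ({t} : Set G)).mul_mem
          ((centralizer ({t} : Set G)).mul_mem hg.2 hx.2) ((centralizer ({t} : Set G)).inv_mem hg.2)⟩)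
      f hf hQ ⟨k, hk'⟩
    exact ⟨⟨⟨x, hxR⟩, hx.1⟩, congrArg Subtype.val hxk⟩
  ρ := (act (L u)).comp (inclusion (fun r hr => c.norm h hr))
  ρ_j r s := rfl
  ρ_S s := by
    apply MulEquiv.ext
    intro x
    obtain ⟨⟨y, hy⟩, rfl⟩ := QuotientGroup.mk_surjective x
    rfl

theorem side_ρ (c : Cfg D L u t R) (h : W1 κ τ D L) {r : G} (hr : r ∈ R) :
    (c.side h).ρ ⟨r, hr⟩ = act (L u) ⟨r, c.norm h hr⟩ := rfl

theorem side_ρ_eq_one_iff (c : Cfg D L u t R) (h : W1 κ τ D L) {r : G} (hr : r ∈ R) :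
    (c.side h).ρ ⟨r, hr⟩ = 1 ↔ Fixes r (L u) := by
  rw [side_ρ, act_eq_one_iff]

/-- existence of `R` containing a given 2-subgroup -/
theorem exists_cfg (_h : W1 κ τ D L) (hu : u ∈ D) (ht : t ∈ L u) (tt : t * t = 1) (t1 : t ≠ 1) (tu : t ≠ u)
    {V : Subgroup G} (hV : IsPGroup 2 V)
    (hVle : V ≤ centralizer ({u} : Set G) ⊓ centralizer ({t} : Set G)) : ∃ R, Cfg D L u t R ∧ V ≤ R := by
  have h2 : Fact (Nat.Prime 2) := ⟨Nat.prime_two⟩
  obtain ⟨H, hH⟩ : ∃ H, H = centralizer ({u} : Set G) ⊓ centralizer ({t} : Set G) := ⟨_, rfl⟩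
  have hV' : IsPGroup 2 ↥(V.subgroupOf H) := hV.comap_of_injective H.subtype H.subtype_injective
  obtain ⟨P, hP⟩ := hV'.exists_le_sylow
  refine ⟨(P : Subgroup ↥H).map H.subtype, ⟨hu, ht, tt, t1, tu, P.2.map _, ?_, ?_⟩, ?_⟩
  · rw [← hH]; exact map_subtype_le _
  · rw [← hH]
    have h3 : ((P : Subgroup ↥H).map H.subtype).relIndex H = (P : Subgroup ↥H).index := by
      rw [relIndex, ← comap_subtype, comap_map_eq_self_of_injective H.subtype_injective]
    rw [h3]
    exact P.not_dvd_index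
  · intro x hx
    rw [← hH] at hVle
    exact ⟨⟨x, hVle hx⟩, hP hx, rfl⟩

end Cfg

end Cfsg.Agent.UGT.I34.SideOf
end

-- part: UGT/I34/FourKI_mg
section
prune_inst 0x10400000221000000000000000000010000002004000000000000000000001200400003060021001000820000a002003c40009002000002000020040000000000020c00000000001000000c802080c00000000000000000000000000000000000000000
set_option linter.all false
open scoped Cfsg.Agent.FastGrp

-- part: UGT/I34/FourKI
section
/-!
# THEOREM I34, part [C]: the K-facts of (TYPE I)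

`K = 2².L₃(4)`, `t` a noncentral involution, `T = C_K(t)` (a Sylow 2-subgroup, of order `2⁸`),
`DZ t = Z(T) = T'` of order 16.
-/

set_option autoImplicit false

open Cfsg Subgroup
open Cfsg.Agent.UGT.I34.Pair Cfsg.Agent.UGT.I34.KAut
open Cfsg.Agent.UGT.I34.KF (NInv)
open scoped commutatorElement

namespace Cfsg.Agent.UGT.I34.Four

universe u

/-- the centre of `C(t)` -/
def DZ {K : Type*} [Group K] (t : K) : Subgroup K :=
  centralizer ({t} : Set K) ⊓ centralizer (centralizer ({t} : Set K) : Set K)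

/-- The facts on `K = 2².L₃(4)` used in (TYPE I). -/
structure TFacts (K : Type*) [Group K] : Prop where
  /-- involutions modulo the centre are involutions -/
  sqz : ∀ x : K, x * x ∈ center K → x * x = 1
  card : ∀ {t : K}, NInv t → Nat.card (centralizer ({t} : Set K)) = 256
  gen : ∀ {t : K}, NInv t → centralizer ({t} : Set K) ≤
    closure {m | ∃ g : K, t * (g * t * g⁻¹) = (g * t * g⁻¹) * t ∧ m = t * (g * t * g⁻¹)}
  /-- `T' ≥ Z(K)` -/
  center_le : ∀ {t : K}, NInv t →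
    center K ≤ ⁅centralizer ({t} : Set K), centralizer ({t} : Set K)⁆
  card_DZ : ∀ {t : K}, NInv t → Nat.card (DZ t) = 16
  sq_DZ : ∀ {t : K}, NInv t → ∀ d ∈ DZ t, d * d = 1
  /-- (V) -/
  four : ∀ {t : K}, NInv t → ∀ V : Subgroup (MulAut K), Nat.card V = 4 → (∀ α ∈ V, α * α = 1) →
    MulAut.conj t ∈ V →
    (∀ x ∈ centralizer ({t} : Set K), ∀ α ∈ V, MulAut.conj x * α * (MulAut.conj x)⁻¹ ∈ V) →
    ∀ α : MulAut K, α ∈ V ↔ ∃ d ∈ DZ t, α = MulAut.conj d
  /-- (W) -/
  inn : ∀ {t : K}, NInv t → ∀ α : MulAut K, (∃ n : ℕ, α ^ 2 ^ n = 1) → (∀ z ∈ center K, α z = z) →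
    (∀ d ∈ DZ t, ∃ z ∈ center K, α d = d * z) →
    ∃ p ∈ centralizer ({t} : Set K), α = MulAut.conj p
  /-- (B) -/
  nB : ∀ {t : K}, NInv t → ∀ B : Subgroup K, B ≤ centralizer ({t} : Set K) →
    (∀ x ∈ centralizer ({t} : Set K), ∀ b ∈ B, x * b * x⁻¹ ∈ B) → (∀ b ∈ B, b ∈ center K → b = 1) →
    4 ≤ Nat.card B → (∀ d ∈ DZ t, ∃ b ∈ B, b ∈ DZ t ∧ ∃ z ∈ center K, d = b * z) ∧ Nat.card B ≤ 8
  /-- centralisers in `T / Z(K)` of elements outside `Z(T) / Z(K)` -/
  cE : ∀ {t : K}, NInv t → ∀ e ∈ centralizer ({t} : Set K), e ∉ DZ t →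
    ∀ A : Subgroup K, A ≤ centralizer ({t} : Set K) → (∀ a ∈ A, ⁅a, e⁆ ∈ center K) → Nat.card A ≤ 64
  /-- the two elementary abelian subgroups of order `2⁶` of `T` -/
  EE : ∀ {t : K}, NInv t → ∃ E₁ E₂ : Subgroup K, E₁ ≤ centralizer ({t} : Set K) ∧
    E₂ ≤ centralizer ({t} : Set K) ∧ center K ≤ E₁ ∧ center K ≤ E₂ ∧ DZ t ≤ E₁ ∧ DZ t ≤ E₂ ∧ E₁ ≠ E₂ ∧
    Nat.card E₁ = 64 ∧ Nat.card E₂ = 64 ∧ (∀ x ∈ E₁, x * x = 1) ∧ (∀ x ∈ E₂, x * x = 1) ∧
    (∀ x ∈ centralizer ({t} : Set K), x * x ∈ center K → x ∈ E₁ ∨ x ∈ E₂) ∧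
    ∀ W : Subgroup K, W ≤ centralizer ({t} : Set K) → (∀ x ∈ W, x * x ∈ center K) → W ≤ E₁ ∨ W ≤ E₂
  /-- involutions of `(Aut K)'` are inner -/
  cinn : ∀ φ ∈ commutator (MulAut K), φ * φ = 1 → φ ∈ Inn K

/-- `TFacts` for all groups of the kind `κ` -/
def KI (κ : Kind.{u}) : Prop := ∀ {K : Type u} [Group K] [Finite K], κ.P K → TFacts K

end Cfsg.Agent.UGT.I34.Four
end

-- part: UGT/I34/FourC
section
/-!
# THEOREM I34, part [C] (`Z = 2²`): type `c` does not occur

`World κ G`: the setting, no type (2) (`no2`), the result on type I pairs (`ti`), the facts on automorphisms.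

* `exists_conj_mul`: `act X v h = h c̄` gives `g ∈ X` with `v^g = v c`;
* `World.not_vess`: `v` outer on `X ∈ Ω_u`, `X' ∈ Ω_v`, `l ∈ X` a central involution modulo `O(X)`: `l ∉ X'`, `l` does
  not centralize `X' / O(X')`;
* `World.no_typeC`.
-/

set_option autoImplicit false

open Cfsg Subgroup
open Cfsg.Agent.SignalizersComponents Cfsg.Agent.Lib
open Cfsg.Agent.SignalizersComponents.IntrinsicBasic
open Cfsg.Agent.Intrinsic
open Cfsg.Agent.Intrinsic.Basic hiding IsPair PQS Target IsPair.sq IsPair.ne_one IsPair.cj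
open Cfsg.Agent.Intrinsic.Cen hiding pair_comm pair_mem_cen exists_pump pump_unique
open Cfsg.Agent.McLLyComp.Act
open Cfsg.Agent.UGT.I34.Pair Cfsg.Agent.UGT.I34.KAut Cfsg.Agent.UGT.I34.FixLift
open Cfsg.Agent.UGT.I34.KF (NInv)
open scoped commutatorElement

namespace Cfsg.Agent.UGT.I34.Four

universe u

/-! ### conjugation and lifting -/

section lift

variable {G : Type*} [Group G]

/-- commuting involutions generate a 2-group -/
theorem isPGroup_closure {s : Set G} (h2 : ∀ x ∈ s, x * x = 1) (hc : ∀ x ∈ s, ∀ y ∈ s, x * y = y * x) :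
    IsPGroup 2 (closure s) := by
  have h1 : ∀ x ∈ closure s, ∀ y ∈ s, x * y = y * x := by
    intro x hx
    refine closure_induction (p := fun x _ => ∀ y ∈ s, x * y = y * x) (fun x hx y hy => hc x hx y hy)
      (fun y _ => by rw [one_mul, mul_one]) (fun a b _ _ ha hb y hy => ?_) (fun a _ ha y hy => ?_) hx
    · rw [mul_assoc, hb y hy, ← mul_assoc, ha y hy, mul_assoc]
    · rw [inv_mul_eq_iff_eq_mul, ← mul_assoc, ha y hy, mul_inv_cancel_right]
  have h3 : ∀ x ∈ closure s, ∀ y ∈ closure s, x * y = y * x := by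
    intro x hx y hy
    refine closure_induction (p := fun y _ => x * y = y * x) (fun y hy => h1 x hx y hy)
      (by rw [one_mul, mul_one]) (fun a b _ _ ha hb => ?_) (fun a _ ha => ?_) hy
    · rw [← mul_assoc, ha, mul_assoc, hb, mul_assoc]
    · rw [eq_inv_mul_iff_mul_eq, ← mul_assoc, ← ha, mul_inv_cancel_right]
  have h4 : ∀ x ∈ closure s, x * x = 1 := by
    intro x hx
    refine closure_induction (p := fun x _ => x * x = 1) (fun x hx => h2 x hx)
      (by rw [one_mul]) (fun a b ha' hb' ha hb => ?_) (fun a _ ha => ?_) hx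
    · calc a * b * (a * b) = a * (b * a) * b := by group
        _ = (a * a) * (b * b) := by rw [h3 b hb' a ha']; group
        _ = 1 := by rw [ha, hb, one_mul]
    · rw [← mul_inv_rev, ha, inv_one]
  rintro ⟨x, hx⟩
  exact ⟨1, Subtype.ext (by
    change x ^ 2 ^ 1 = 1
    rw [pow_one, pow_two, h4 x hx])⟩

variable [Finite G] {X : Subgroup G} {v : G}

/-- lifting involutions fixed by a 2-group -/
theorem exists_lift_group {P : Subgroup G} (hP : IsPGroup 2 P) (hPX : P ≤ normalizer (X : Set G))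
    {x : ↥X ⧸ oddCore ↥X} (hx : ∀ p (hp : p ∈ P), act X ⟨p, hPX hp⟩ x = x) (hxx : x * x = 1) :
    ∃ a, ∃ ha : a ∈ X, a * a = 1 ∧ (∀ p ∈ P, p * a = a * p) ∧ QuotientGroup.mk ⟨a, ha⟩ = x := by
  obtain ⟨⟨c, hc⟩, rfl⟩ := QuotientGroup.mk_surjective x
  obtain ⟨o, ho, h1⟩ := Lifting.exists_commute_group (odd_card_core X) hP
    (hPX.trans (normalizer_le_normalizer_core X)) (m := c) (fun p hp => by
      have := hx p hp
      rw [act_mk (hPX hp) hc] at this
      exact (mk_eq_iff hc (conj_mem (hPX hp) hc)).mp this.symm)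
  have hco : c * o ∈ X := mul_mem hc (core_le X ho)
  have hmk : (QuotientGroup.mk ⟨c * o, hco⟩ : ↥X ⧸ oddCore ↥X) = QuotientGroup.mk ⟨c, hc⟩ := by
    rw [mk_eq_iff]
    have : (c * o)⁻¹ * c = o⁻¹ := by group
    rw [this]
    exact inv_mem ho
  have h2 : (c * o) ^ 2 ^ 1 ∈ core X := by
    rw [← mk_eq_one_iff (pow_mem hco _)]
    have : (QuotientGroup.mk ⟨(c * o) ^ 2 ^ 1, pow_mem hco _⟩ : ↥X ⧸ oddCore ↥X) =
        QuotientGroup.mk ⟨c * o, hco⟩ * QuotientGroup.mk ⟨c * o, hco⟩ := by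
      rw [← QuotientGroup.mk_mul]
      congr 1
      exact Subtype.ext (by
        change (c * o) ^ 2 ^ 1 = c * o * (c * o)
        rw [pow_one, pow_two])
    rw [this, hmk, hxx]
  obtain ⟨k, hk1, hk2⟩ := Lifting.exists_two_part (odd_card_core X) h2
  refine ⟨(c * o) ^ k, pow_mem hco _, ?_, fun p hp => ?_, ?_⟩
  · rw [← pow_two, ← hk1, pow_one]
  · exact (show Commute p (c * o) from h1 p hp).pow_right k
  · rw [← hmk, mk_eq_iff]
    have : ((c * o) ^ k)⁻¹ * (c * o) = ((c * o)⁻¹ * (c * o) ^ k)⁻¹ := by group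
    rw [this]
    exact inv_mem hk2

/-- `v^h ≡ v c` modulo `O(X)` gives exact conjugacy under `X` -/
theorem exists_conj_mul (hn : v ∈ normalizer (X : Set G)) (hvv : v * v = 1) {c : G} (hc : c ∈ X)
    (hcc : c * c = 1) (hcv : c * v = v * c) {h : ↥X ⧸ oddCore ↥X}
    (hh : act X ⟨v, hn⟩ h = h * QuotientGroup.mk ⟨c, hc⟩) : ∃ g ∈ X, g * v * g⁻¹ = v * c := by
  obtain ⟨⟨k, hk⟩, rfl⟩ := QuotientGroup.mk_surjective h
  have hvi : v⁻¹ = v := inv_eq_of_mul_eq_one_left hvv
  rw [act_mk hn hk] at hh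
  have h1 : (v * k * v⁻¹)⁻¹ * (k * c) ∈ core X := (mk_eq_iff (conj_mem hn hk) (mul_mem hk hc)).mp hh
  have h2 := conj_mem_core (inv_mem hn) h1
  have h3 : v⁻¹ * ((v * k * v⁻¹)⁻¹ * (k * c)) * v⁻¹⁻¹ = (k⁻¹ * v * k⁻¹⁻¹)⁻¹ * (v * c) := by
    calc v⁻¹ * ((v * k * v⁻¹)⁻¹ * (k * c)) * v⁻¹⁻¹ = k⁻¹ * v⁻¹ * k * (c * v) := by group
      _ = k⁻¹ * v⁻¹ * k * (v * c) := by rw [hcv]
      _ = _ := by group
  rw [h3] at h2
  have e1 : (k⁻¹ * v * k⁻¹⁻¹) ^ 2 ^ 1 = 1 := by
    rw [pow_one, pow_two]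
    calc k⁻¹ * v * k⁻¹⁻¹ * (k⁻¹ * v * k⁻¹⁻¹) = k⁻¹ * (v * v) * k := by group
      _ = 1 := by rw [hvv]; group
  have e2 : (v * c) ^ 2 ^ 1 = 1 := by
    rw [pow_one, pow_two]
    calc v * c * (v * c) = v * (c * v) * c := by group
      _ = (v * v) * (c * c) := by rw [hcv]; group
      _ = 1 := by rw [hvv, hcc, one_mul]
  obtain ⟨o, ho, h4⟩ := Lifting.exists_conj_eq (odd_card_core X) e1 e2
    (normalizer_le_normalizer_core X (mul_mem (mul_mem (inv_mem (le_normalizer hk)) hn)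
      (inv_mem (inv_mem (le_normalizer hk))))) h2
  refine ⟨o * k⁻¹, mul_mem (core_le X ho) (inv_mem hk), ?_⟩
  rw [← h4]; group

end lift

/-! ### the world -/

/-- The world after (3.F), (3.G) and the analysis of type I. -/
structure World (κ : Kind.{u}) (G : Type u) [Group G] : Prop where
  sett : Sett κ G
  types : KTypes κ
  /-- no type (2) -/
  no2 : ∀ (u v : G) (X X' : Subgroup G), IsPair κ u X → IsPair κ v X' → u * v = v * u → cj v X = X
  /-- (TYPE I) -/
  ti : ∀ (u v : G) (X X' : Subgroup G), IsPair κ u X → IsPair κ v X' → u * v = v * u → IsInn v X →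
    ¬ Fixes v X → (∃ h : v ∈ X, Can (QuotientGroup.mk ⟨v, h⟩ : ↥X ⧸ oddCore ↥X)) ∧ IsInn u X' ∧
      ∀ Y, IsPair κ u Y → Y = X

namespace World

variable {κ : Kind.{u}} {G : Type u} [Group G]

theorem exCan' (W : World κ G) {K : Type u} [Group K] [Finite K] (hK : κ.P K) (t : K) (ht : NInv t) :
    ∃ c ∈ center K, Can (t * c) := W.sett.kl.exC hK t ht

theorem canU (W : World κ G) {K : Type u} [Group K] [Finite K] (hK : κ.P K) (t c : K) (ht : Can t)
    (hc : c ∈ center K) (htc : Can (t * c)) : c = 1 := W.sett.kl.canU hK t c ht hc htc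

theorem out (W : World κ G) {K : Type u} [Group K] [Finite K] (hK : κ.P K) (φ : MulAut K)
    (h : φ * φ = 1) (ho : φ ∉ Inn K) : TypeC φ ∨ (∃ J, TypeF φ J) ∨ ∃ J, TypeG φ J :=
  W.types.out hK φ h ho

end World

section

variable {κ : Kind.{u}} {G : Type u} [Group G] {u v l a : G} {X X' M J : Subgroup G}

theorem fixes_of_mem_core {o : G} (ho : o ∈ core M) : Fixes o M := by
  have hoM := core_le M ho
  refine ⟨le_normalizer hoM, fun y hy => ?_⟩
  have h1 := conj_mem_core (x := y) (le_normalizer hy) (inv_mem ho)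
  have h2 : ⁅o, y⁆ = o * (y * o⁻¹ * y⁻¹) := by
    rw [commutatorElement_def]; group
  rw [h2]
  exact mul_mem ho h1

theorem pair_mk_center (hu : IsPair κ u X) :
    (QuotientGroup.mk ⟨u, hu.mem⟩ : ↥X ⧸ oddCore ↥X) ∈ center (↥X ⧸ oddCore ↥X) :=
  (mk_mem_center_iff hu.mem).mpr (pair_fixes hu)

theorem mk_sq_one {a : G} (ha : a ∈ X) (haa : a * a = 1) :
    (QuotientGroup.mk ⟨a, ha⟩ : ↥X ⧸ oddCore ↥X) * QuotientGroup.mk ⟨a, ha⟩ = 1 := by
  rw [← QuotientGroup.mk_mul]
  have : (⟨a, ha⟩ : ↥X) * ⟨a, ha⟩ = 1 := Subtype.ext haa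
  rw [this]
  rfl

/-- conjugate pairs -/
theorem pair_conj {g y : G} {Y : Subgroup G} (h : IsPair κ v Y) (hg : g * v * g⁻¹ = y) :
    IsPair κ y (cj g Y) := hg ▸ h.cj g

variable [Finite G]

theorem mk_ne_one' {a : G} (ha : a ∈ X) (haa : a * a = 1) (ha1 : a ≠ 1) :
    (QuotientGroup.mk ⟨a, ha⟩ : ↥X ⧸ oddCore ↥X) ≠ 1 := fun h =>
  ha1 (eq_one_of_mem_core_sq ((mk_eq_one_iff ha).mp h) haa)

/-- `IsInn` passes from a small pump-up to `X` -/
theorem isInn_of_small (hJM : J ⊔ core M = M) (hJX : J ⊔ core X = X)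
    (haJ : a ∈ normalizer (J : Set G)) (haX : a ∈ normalizer (X : Set G)) (h : IsInn a M) :
    IsInn a X := by
  have hJleX : J ≤ X := by rw [← hJX]; exact le_sup_left
  have hJleM : J ≤ M := by rw [← hJM]; exact le_sup_left
  obtain ⟨y, hy, hf⟩ := isInn_iff.mp h
  obtain ⟨j, hj, hjy⟩ := exists_mul_of_sup hJM hy
  have h1 : Fixes (j⁻¹ * a) M := by
    have e : j⁻¹ * a = (j⁻¹ * y) * (y⁻¹ * a) := by group
    rw [e]
    exact fixes_mul (fixes_of_mem_core hjy) hf
  have hjJ : j⁻¹ * a ∈ normalizer (J : Set G) := mul_mem (inv_mem (le_normalizer hj)) haJ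
  have h2 := (fixes_iff_of_sup hJM hjJ h1.1).mpr h1
  have h3 := (fixes_iff_of_sup hJX hjJ (mul_mem (inv_mem (le_normalizer (hJleX hj))) haX)).mp h2
  exact isInn_iff.mpr ⟨j, hJleX hj, h3⟩

omit [Finite G] in
theorem isInn_of_mem {l : G} (hl : l ∈ X) : IsInn l X :=
  isInn_iff.mpr ⟨l, hl, by rw [inv_mul_cancel]; exact fixes_one X⟩

namespace World

variable (W : World κ G)
include W

/-- `v` outer on `X`, `l` in the vessel of `X` -/
theorem not_vess (hu : IsPair κ u X) (hv : IsPair κ v X') (ho : IsOut v X)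
    (hlX : l ∈ X) (hll : l * l = 1) (hl1 : l ≠ 1) (hlf : Fixes l X) (hlv : l * v = v * l) :
    ¬ Fixes l X' ∧ l ∉ X' := by
  obtain ⟨M, hM, -, hle, hs1, hs2, hfix⟩ := W.sett.vess hu hlX hll hl1 hlf
  have key : ¬ Fixes v M := fun h => ho.not_fixes ((hfix v hlv.symm ho.1).mp h)
  have k1 : ¬ Fixes l X' := fun h => key (typeZero_symm' hv hM hlv.symm h)
  refine ⟨k1, fun h => ?_⟩
  have h1 := (W.ti v l X' M hv hM hlv.symm (isInn_of_mem h) k1).2.1
  exact ho.not_inn (isInn_of_small hs1 hs2 (mem_normalizer_cen ho.1 hlv.symm) ho.1 h1)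

/-- `c ∈ X` a noncentral noncanonical involution: `c` is not the involution of a pair -/
theorem not_D (hu : IsPair κ u X) {c : G} {Y : Subgroup G} (hc : c ∈ X)
    (hnc : ¬ Can (QuotientGroup.mk ⟨c, hc⟩ : ↥X ⧸ oddCore ↥X)) (hcf : ¬ Fixes c X) :
    ¬ IsPair κ c Y := by
  intro h
  obtain ⟨⟨h1, h2⟩, -⟩ := W.ti u c X Y hu h (pair_comm hu hc).symm (isInn_of_mem hc) hcf
  exact hnc h2

/-- an involution `y` of a pair which commutes with `v` and is outer on `X' ∈ Ω_v`: `y v` is the involution of a pair -/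
theorem shift_out (hv : IsPair κ v X') {y : G} {Y : Subgroup G} (hy : IsPair κ y Y)
    (hyv : y * v = v * y) (ho : IsOut y X') : ∃ g ∈ X', g * y * g⁻¹ = y * v := by
  have h1 : act X' ⟨y, ho.1⟩ (QuotientGroup.mk ⟨v, hv.mem⟩) = QuotientGroup.mk ⟨v, hv.mem⟩ := by
    rw [act_mk ho.1 hv.mem]
    congr 1
    exact Subtype.ext (by
      change y * v * y⁻¹ = v
      rw [hyv, mul_inv_cancel_right])
  have h2 : ∃ h, act X' ⟨y, ho.1⟩ h = h * QuotientGroup.mk ⟨v, hv.mem⟩ := by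
    rcases W.out hv.kind _ (ho.out hy.sq).sq (ho.out hy.sq).out with h | ⟨J, h⟩ | ⟨J, h⟩
    · exact h.shift _ (pair_mk_center hv)
    · exact h.shift _ (pair_mk_center hv) h1
    · exact h.shift _ (pair_mk_center hv) h1
  obtain ⟨h, hh⟩ := h2
  exact exists_conj_mul ho.1 hy.sq hv.mem hv.sq hyv.symm hh

/-- `v` acts as type `c`, `f` or `g` on `X`; `c ∈ X` a noncanonical noncentral involution commuting with `v` such that
`v c` is the involution of a pair: then `c` centralizes `X' / O(X')` or `c ∈ X'` -/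
theorem fixes_or_mem (hu : IsPair κ u X) (hv : IsPair κ v X') {c : G} {Y : Subgroup G}
    (hc : c ∈ X) (hnc : ¬ Can (QuotientGroup.mk ⟨c, hc⟩ : ↥X ⧸ oddCore ↥X)) (hcf : ¬ Fixes c X)
    (hcv : c * v = v * c) (hY : IsPair κ (v * c) Y) : Fixes c X' ∨ c ∈ X' := by
  have hcomm : v * (v * c) = (v * c) * v := by rw [mul_assoc, hcv]
  have hn : v * c ∈ normalizer (X' : Set G) :=
    mem_normalizer_iff_cj.mpr (W.no2 v (v * c) X' Y hv hY hcomm)
  rcases isInn_or_isOut hn with hi | ho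
  · by_cases hf : Fixes (v * c) X'
    · left
      exact (fixes_mul_iff_right (pair_fixes hv)).mp hf
    · right
      obtain ⟨⟨h1, -⟩, -⟩ := W.ti v (v * c) X' Y hv hY hcomm hi hf
      have := mul_mem (inv_mem hv.mem) h1
      rwa [inv_mul_cancel_left] at this
  · exfalso
    obtain ⟨g, -, hg⟩ := W.shift_out hv hY hcomm.symm ho
    have h1 : v * c * v = c := by rw [mul_assoc, hcv, ← mul_assoc, hv.sq, one_mul]
    rw [h1] at hg
    exact W.not_D hu hc hnc hcf (pair_conj hY hg)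

/-- **no type `c`** -/
theorem no_typeC (hu : IsPair κ u X) (hv : IsPair κ v X')
    (hn : v ∈ normalizer (X : Set G)) (hvu : v * u = u * v) (hc : TypeC (act X ⟨v, hn⟩)) : False := by
  have ho : IsOut v X := ⟨hn, hc.out⟩
  have hvv := hv.sq
  obtain ⟨w0, hw0, hw0f, h0, hh0⟩ := hc.inv
  obtain ⟨c0, hc0, hcan⟩ := W.exCan' hu.kind w0 hw0
  -- the canonical lift
  obtain ⟨t, ht⟩ : ∃ t, t = w0 * c0 := ⟨_, rfl⟩
  rw [← ht] at hcan
  have htf : act X ⟨v, hn⟩ t = t := by rw [ht, map_mul, hw0f, hc.center c0 hc0]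
  have hsh : ∀ z ∈ center (↥X ⧸ oddCore ↥X), ∃ h, act X ⟨v, hn⟩ h = h * (t * z) := by
    intro z hz
    obtain ⟨h1, hh1⟩ := hc.shift (c0 * z) (mul_mem hc0 hz)
    refine ⟨h1 * h0, ?_⟩
    rw [map_mul, hh1, hh0, ht]
    have h2 := mem_center_iff.mp (mul_mem hc0 hz) (h0 * w0)
    calc h1 * (c0 * z) * (h0 * w0) = h1 * ((c0 * z) * (h0 * w0)) := by group
      _ = h1 * ((h0 * w0) * (c0 * z)) := by rw [h2]
      _ = _ := by group
  -- an element `b` of the centre
  have hucen := pair_mk_center hu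
  obtain ⟨ub, hub⟩ : ∃ ub : ↥X ⧸ oddCore ↥X, ub = QuotientGroup.mk ⟨u, hu.mem⟩ := ⟨_, rfl⟩
  have hub1 : ub ≠ 1 := hub ▸ mk_ne_one' hu.mem hu.sq hu.ne_one
  obtain ⟨b, hb, hb1, hbu⟩ : ∃ b ∈ center (↥X ⧸ oddCore ↥X), b ≠ 1 ∧ b ≠ ub := by
    by_contra hcon
    push Not at hcon
    have h4 := W.sett.kl.card hu.kind
    have h5 : (Set.univ : Set ↥(center (↥X ⧸ oddCore ↥X))) ⊆ {1, ⟨ub, hub ▸ hucen⟩} := by
      rintro ⟨x, hx⟩ -
      by_cases hx1 : x = 1
      · left; exact Subtype.ext hx1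
      · right; exact Subtype.ext (hcon x hx hx1)
    have h6 := Set.ncard_le_ncard h5 (Set.toFinite _)
    rw [Set.ncard_univ, h4] at h6
    have h7 := Set.ncard_insert_le (1 : ↥(center (↥X ⧸ oddCore ↥X))) {⟨ub, hub ▸ hucen⟩}
    rw [Set.ncard_singleton] at h7
    omega
  have hbb := W.sett.kl.sq hu.kind b hb
  obtain ⟨a, haX, hav, haa, hab⟩ := exists_lift_two hn (n := 1) (by rw [pow_one, pow_two, hvv])
    (hc.center b hb) (m := 1) (by rw [pow_one, pow_two, hbb])
  rw [pow_one, pow_two] at haa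
  have haf : Fixes a X := (mk_mem_center_iff haX).mp (hab ▸ hb)
  -- the lift of `t`
  have hPcl : ∀ x ∈ ({v, a} : Set G), x * x = 1 := by
    rintro x (rfl | rfl)
    · exact hvv
    · exact haa
  have hPcc : ∀ x ∈ ({v, a} : Set G), ∀ y ∈ ({v, a} : Set G), x * y = y * x := by
    rintro x (rfl | rfl) y (rfl | rfl)
    · rfl
    · exact hav.symm
    · exact hav
    · rfl
  have hPX : closure ({v, a} : Set G) ≤ normalizer (X : Set G) := by
    rw [closure_le]
    rintro x (rfl | rfl)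
    · exact hn
    · exact haf.1
  obtain ⟨w, hwX, hww, hwP, hwt⟩ := exists_lift_group (isPGroup_closure hPcl hPcc) hPX (x := t)
    (by
      intro p hp
      have key : ∀ p (hp : p ∈ closure ({v, a} : Set G)),
          (⟨p, hPX hp⟩ : ↥(normalizer (X : Set G))) ∈
            (MulAction.stabilizer (MulAut (↥X ⧸ oddCore ↥X)) t).comap (act X) := by
        have h1 : closure ({v, a} : Set G) ≤
            ((MulAction.stabilizer (MulAut (↥X ⧸ oddCore ↥X)) t).comap (act X)).map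
              (normalizer (X : Set G)).subtype := by
          rw [closure_le]
          rintro x (rfl | rfl)
          · exact ⟨⟨x, hn⟩, htf, rfl⟩
          · refine ⟨⟨x, haf.1⟩, ?_, rfl⟩
            change act X ⟨x, haf.1⟩ t = t
            rw [(act_eq_one_iff haf.1).mpr haf]
            rfl
        intro p hp
        obtain ⟨q, hq, hqp⟩ := h1 hp
        have : (⟨p, hPX hp⟩ : ↥(normalizer (X : Set G))) = q := Subtype.ext hqp.symm
        rw [this]; exact hq
      exact key p hp) hcan.1.1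
  have hwv : w * v = v * w := (hwP v (subset_closure (Or.inl rfl))).symm
  have hwa : w * a = a * w := (hwP a (subset_closure (Or.inr rfl))).symm
  have huv : u * v = v * u := hvu.symm
  have hau : a * u = u * a := pair_comm hu haX
  have hwu : w * u = u * w := pair_comm hu hwX
  have ha1 : a ≠ 1 := by
    rintro rfl
    exact hb1 (hab ▸ rfl)
  have hau1 : a * u ≠ 1 := by
    intro h
    apply hbu
    have h1 : a = u := by
      have := mul_eq_one_iff_eq_inv.mp h
      rwa [inv_eq_of_mul_eq_one_left hu.sq] at this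
    rw [hub, ← hab]
    congr 1
    exact Subtype.ext h1
  -- the general step
  have step : ∀ j ∈ X, j * j = 1 → j ≠ 1 → Fixes j X → j * v = v * j → w * j = j * w →
      Fixes (w * j) X' ∨ w * j ∈ X' := by
    intro j hj hjj hj1 hjf hjv hwj
    have hjc : (QuotientGroup.mk ⟨j, hj⟩ : ↥X ⧸ oddCore ↥X) ∈ center (↥X ⧸ oddCore ↥X) :=
      (mk_mem_center_iff hj).mpr hjf
    have hcX : w * j ∈ X := mul_mem hwX hj
    have hmk : (QuotientGroup.mk ⟨w * j, hcX⟩ : ↥X ⧸ oddCore ↥X) = t * QuotientGroup.mk ⟨j, hj⟩ := by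
      rw [← hwt]; rfl
    have hcc : (w * j) * (w * j) = 1 := by
      calc (w * j) * (w * j) = w * (j * w) * j := by group
        _ = (w * w) * (j * j) := by rw [← hwj]; group
        _ = 1 := by rw [hww, hjj, one_mul]
    have hcv : (w * j) * v = v * (w * j) := by
      rw [mul_assoc, hjv, ← mul_assoc, hwv, mul_assoc]
    have hnc : ¬ Can (QuotientGroup.mk ⟨w * j, hcX⟩ : ↥X ⧸ oddCore ↥X) := by
      rw [hmk]
      intro h
      exact mk_ne_one' hj hjj hj1 (W.canU hu.kind t _ hcan hjc h)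
    have hcf : ¬ Fixes (w * j) X := by
      intro h
      have h1 := (mk_mem_center_iff hcX).mpr h
      rw [hmk] at h1
      have h2 := mul_mem h1 (inv_mem hjc)
      rw [mul_inv_cancel_right] at h2
      exact hcan.1.2 h2
    obtain ⟨h, hh⟩ := hsh _ hjc
    rw [← hmk] at hh
    obtain ⟨g, -, hg⟩ := exists_conj_mul hn hvv hcX hcc hcv hh
    exact W.fixes_or_mem hu hv hcX hnc hcf hcv (pair_conj hv hg)
  have su := step u hu.mem hu.sq hu.ne_one (pair_fixes hu) huv hwu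
  have sa := step a haX haa ha1 haf hav hwa
  have hauX : a * u ∈ X := mul_mem haX hu.mem
  have hau2 : (a * u) * (a * u) = 1 := by
    calc (a * u) * (a * u) = a * (u * a) * u := by group
      _ = (a * a) * (u * u) := by rw [← hau]; group
      _ = 1 := by rw [haa, hu.sq, one_mul]
  have hauf : Fixes (a * u) X := fixes_mul haf (pair_fixes hu)
  have hauv : (a * u) * v = v * (a * u) := by rw [mul_assoc, huv, ← mul_assoc, hav, mul_assoc]
  have hwau : w * (a * u) = (a * u) * w := by rw [← mul_assoc, hwa, mul_assoc, hwu, mul_assoc]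
  have sau := step (a * u) hauX hau2 hau1 hauf hauv hwau
  -- two of them are of the same type
  have nv := fun {l : G} (h1 : l ∈ X) (h2 : l * l = 1) (h3 : l ≠ 1) (h4 : Fixes l X)
    (h5 : l * v = v * l) => W.not_vess hu hv ho h1 h2 h3 h4 h5
  have nu := nv hu.mem hu.sq hu.ne_one (pair_fixes hu) huv
  have na := nv haX haa ha1 haf hav
  have nau := nv hauX hau2 hau1 hauf hauv
  have e1 : (w * u) * (w * a) = a * u := by
    calc (w * u) * (w * a) = w * (u * w) * a := by group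
      _ = (w * w) * (u * a) := by rw [← hwu]; group
      _ = a * u := by rw [hww, one_mul, hau]
  have e2 : (w * u) * (w * (a * u)) = a := by
    calc (w * u) * (w * (a * u)) = w * (u * w) * (a * u) := by group
      _ = (w * w) * (u * a) * u := by rw [← hwu]; group
      _ = a * (u * u) := by rw [hww, one_mul, ← hau]; group
      _ = a := by rw [hu.sq, mul_one]
  have e3 : (w * a) * (w * (a * u)) = u := by
    calc (w * a) * (w * (a * u)) = w * (a * w) * (a * u) := by group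
      _ = (w * w) * (a * a) * u := by rw [← hwa]; group
      _ = u := by rw [hww, haa, one_mul, one_mul]
  rcases su with f1 | m1 <;> rcases sa with f2 | m2
  · exact nau.1 (e1 ▸ fixes_mul f1 f2)
  · rcases sau with f3 | m3
    · exact na.1 (e2 ▸ fixes_mul f1 f3)
    · exact nu.2 (e3 ▸ mul_mem m2 m3)
  · rcases sau with f3 | m3
    · exact nu.1 (e3 ▸ fixes_mul f2 f3)
    · exact na.2 (e2 ▸ mul_mem m1 m3)
  · exact nau.2 (e1 ▸ mul_mem m1 m2)

end World

end

end Cfsg.Agent.UGT.I34.Four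
end

-- part: UGT/I34/FourGF
section
/-!
# THEOREM I34, part [C] (`Z = 2²`): type `g` does not occur; type `f`, first part

`FG φ J`: the common part of `TypeF`, `TypeG`.

* `World.out_symm`: `v` outer on `X ∈ Ω_u` implies `u` outer on `X' ∈ Ω_v`;
* `World.fixes_of_ne`: a 2-component `E` of `C(u, v)` different from `C_{X'}(u)^∞` centralizes `X' / O(X')`;
* `World.no_typeG`;
* `World.typeF_symm`: type `f` is symmetric, `|Ω_u| = 1`, `X` contains noncentral involutions of pairs.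
-/

set_option autoImplicit false

open Cfsg Subgroup
open Cfsg.Agent.SignalizersComponents Cfsg.Agent.Lib
open Cfsg.Agent.SignalizersComponents.IntrinsicBasic
open Cfsg.Agent.Intrinsic
open Cfsg.Agent.Intrinsic.Basic hiding IsPair PQS Target IsPair.sq IsPair.ne_one IsPair.cj
open Cfsg.Agent.Intrinsic.Cen hiding pair_comm pair_mem_cen exists_pump pump_unique
open Cfsg.Agent.McLLyComp.Act
open Cfsg.Agent.UGT.I34.Pair Cfsg.Agent.UGT.I34.KAut Cfsg.Agent.UGT.I34.FixLift
open Cfsg.Agent.UGT.I34.KF (NInv)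
open scoped commutatorElement

namespace Cfsg.Agent.UGT.I34.Four

universe u

/-- the common part of the types `f` and `g` -/
structure FG {K : Type*} [Group K] (φ : MulAut K) (J : Subgroup K) : Prop where
  sq : φ * φ = 1
  out : φ ∉ Inn K
  center : ∃ z ∈ center K, φ z ≠ z
  shift : ∀ z ∈ Subgroup.center K, φ z = z → ∃ h, φ h = h * z
  le : J ≤ fixed φ
  comp : IsComponent (J.subgroupOf (fixed φ))
  even : 2 ∣ Nat.card J
  core : oddCore ↥J = ⊥
  ninv : ∀ w ∈ J, w * w = 1 → w ≠ 1 → NInv w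
  inv : ∃ w ∈ J, w * w = 1 ∧ w ≠ 1 ∧ ∃ h, φ h = h * w
  cent : ∀ A : Subgroup (MulAut K), A ≤ Inn K → ⁅A, A⁆ = A → (∀ a ∈ A, a * φ = φ * a) →
    (∀ a ∈ A, ∀ j ∈ J, a j = j) → A = ⊥

theorem TypeF.fg {K : Type*} [Group K] {φ : MulAut K} {J : Subgroup K} (h : TypeF φ J) : FG φ J :=
  ⟨h.sq, h.out, h.center, h.shift, h.le, h.comp, h.even, h.core,
    fun w hw h2 h1 => (h.noncan w hw h2 h1).1, h.inv, h.cent⟩

theorem TypeG.fg {K : Type*} [Group K] {φ : MulAut K} {J : Subgroup K} (h : TypeG φ J) : FG φ J :=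
  ⟨h.sq, h.out, h.center, h.shift, h.le, h.comp, h.even, h.core,
    fun w hw h2 h1 => (h.can w hw h2 h1).1, h.inv, h.cent⟩

section

variable {κ : Kind.{u}} {G : Type u} [Group G] {u v a b : G} {X X' E C : Subgroup G}

theorem isInn_mul_left (hf : Fixes a X) (h : IsInn (a * b) X) : IsInn b X := by
  obtain ⟨h1, h2⟩ := h
  have hb : b ∈ normalizer (X : Set G) := by
    have := mul_mem (inv_mem hf.1) h1
    rwa [inv_mul_cancel_left] at this
  refine ⟨hb, ?_⟩
  have h3 : act X ⟨a * b, h1⟩ = act X ⟨b, hb⟩ := by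
    rw [act_mul hf.1 hb, (act_eq_one_iff hf.1).mpr hf, one_mul]
  rw [← h3]; exact h2

theorem isOut_mul_left (hf : Fixes a X) (h : IsOut b X) : IsOut (a * b) X := by
  have hab : a * b ∈ normalizer (X : Set G) := mul_mem hf.1 h.1
  rcases isInn_or_isOut hab with h1 | h1
  · exact absurd (isInn_mul_left hf h1) h.not_inn
  · exact h1

/-- the 2-component `C` of `C(u) ∩ C(v)` over the component `J` of the fixed points of `v` on `X / O(X)` -/
structure Over (u v : G) (X C : Subgroup G) (J : Subgroup (↥X ⧸ oddCore ↥X)) : Prop where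
  comp : IsComp (centralizer ({u} : Set G) ⊓ centralizer ({v} : Set G)) C
  le : C ≤ X
  map : ∀ a ∈ C, ∃ h : a ∈ X, (QuotientGroup.mk ⟨a, h⟩ : ↥X ⧸ oddCore ↥X) ∈ J
  surj : ∀ x ∈ J, ∃ a ∈ C, ∃ h : a ∈ X, (QuotientGroup.mk ⟨a, h⟩ : ↥X ⧸ oddCore ↥X) = x
  mem : ∀ a (h : a ∈ X), a * v = v * a → (QuotientGroup.mk ⟨a, h⟩ : ↥X ⧸ oddCore ↥X) ∈ J →
    ∀ k : ℕ, a ^ 2 ^ k = 1 → a ∈ C
  core : core C ≤ core X

variable [Finite G]

theorem exists_over (hu : IsPair κ u X) (hvv : v * v = 1) (hn : v ∈ normalizer (X : Set G))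
    {J : Subgroup (↥X ⧸ oddCore ↥X)} (hJ : FG (act X ⟨v, hn⟩) J) : ∃ C, Over u v X C J := by
  obtain ⟨C, h1, h2, h3, h4, -, h6⟩ := exists_comp hn (n := 1) (by rw [pow_one, pow_two, hvv])
    hJ.le hJ.comp hJ.even
  have hSM : X ⊓ centralizer ({v} : Set G) ≤ centralizer ({u} : Set G) ⊓ centralizer ({v} : Set G) :=
    inf_le_inf_right _ hu.comp.le
  refine ⟨C, h1.extend hSM ?_, h1.le.trans inf_le_left, h2, h3, h4, h6 hJ.core⟩
  exact TypeF.subnormal_inf hu.comp inf_le_left inf_le_right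

/-- lifting an involution of `J` with the shift property -/
theorem Over.exists_inv {J : Subgroup (↥X ⧸ oddCore ↥X)} (hC : Over u v X C J) (hvv : v * v = 1)
    (hn : v ∈ normalizer (X : Set G)) (hJ : FG (act X ⟨v, hn⟩) J) :
    ∃ w ∈ C, ∃ hX : w ∈ X, w * w = 1 ∧ w ≠ 1 ∧ w * v = v * w ∧
      (QuotientGroup.mk ⟨w, hX⟩ : ↥X ⧸ oddCore ↥X) ∈ J ∧
      ∃ h, act X ⟨v, hn⟩ h = h * (QuotientGroup.mk ⟨w, hX⟩ : ↥X ⧸ oddCore ↥X) := by
  obtain ⟨w, hwJ, hww, hw1, h, hh⟩ := hJ.inv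
  obtain ⟨w, hX, hwv, hw2, rfl⟩ := exists_lift_two hn (n := 1) (by rw [pow_one, pow_two, hvv])
    (hJ.le hwJ) (m := 1) (by rw [pow_one, pow_two, hww])
  refine ⟨w, hC.mem w hX hwv hwJ 1 hw2, hX, by rw [← hw2, pow_one, pow_two], ?_, hwv, hwJ, h, hh⟩
  rintro rfl
  exact hw1 rfl

/-- **a 2-component `E ≠ C'` of `C(v) ∩ C(u)` fixes `X'`** -/
theorem Over.fixes_of_ne {J : Subgroup (↥X' ⧸ oddCore ↥X')} (hC : Over v u X' C J)
    (hu : IsPair κ u X) (hv : IsPair κ v X') (hvu : v * u = u * v)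
    (hn : u ∈ normalizer (X' : Set G)) (hJ : FG (act X' ⟨u, hn⟩) J)
    (hE : IsComp (centralizer ({v} : Set G) ⊓ centralizer ({u} : Set G)) E) (hne : E ≠ C) :
    ∀ a ∈ E, Fixes a X' := by
  have huC : u ∈ centralizer ({v} : Set G) := mem_centralizer_singleton_iff.mpr hvu.symm
  have hEL := isComp_le_L2 huC hu.sq hE
  have hEN : E ≤ normalizer (X' : Set G) := hEL.trans hv.comp.L2_le_normalizer
  obtain ⟨A, hA⟩ : ∃ A, A = (E.subgroupOf (normalizer (X' : Set G))).map (act X') := ⟨_, rfl⟩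
  have hAI : A ≤ Inn (↥X' ⧸ oddCore ↥X') := by
    rw [hA]
    rintro _ ⟨⟨a, haN⟩, ha, rfl⟩
    have ha' : a ∈ E := ha
    obtain ⟨k, hk, hc⟩ := IntrinsicBalance.sup_form hv.comp.tc (hv.comp.L2_le_sup (hEL ha'))
    have hf : Fixes (k⁻¹ * a) X' := (hv.comp.fixes_iff ((mem_cenMod hv.comp.le).mp hc).1).mpr hc
    exact (isInn_iff.mpr ⟨k, hk, hf⟩).2
  have hAp : ⁅A, A⁆ = A := by
    rw [hA, ← map_commutator]
    congr 1
    apply map_injective (normalizer (X' : Set G)).subtype_injective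
    rw [map_commutator, subgroupOf_map_subtype, inf_of_le_left hEN, hE.perfect]
  have hAc : ∀ a ∈ A, a * act X' ⟨u, hn⟩ = act X' ⟨u, hn⟩ * a := by
    rw [hA]
    rintro _ ⟨⟨a, haN⟩, ha, rfl⟩
    have ha' : a ∈ E := ha
    rw [← map_mul, ← map_mul]
    congr 1
    exact Subtype.ext (mem_centralizer_singleton_iff.mp (hE.le ha').2)
  have hA1 : A = ⊥ := by
    refine hJ.cent A hAI hAp hAc ?_
    rw [hA]
    rintro _ ⟨⟨a, haN⟩, ha, rfl⟩ j hj
    have ha' : a ∈ E := ha
    obtain ⟨j, hjC, hjY, rfl⟩ := hC.surj j hj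
    have h1 := (hC.comp.fixes_of_mem hE hne.symm ha').2 j hjC
    have h2 := hC.core h1
    rw [act_mk haN hjY, eq_comm, mk_eq_iff]
    have h3 := conj_mem_core (x := j⁻¹) (le_normalizer (inv_mem hjY)) h2
    have h4 : j⁻¹ * ⁅a, j⁆ * j⁻¹⁻¹ = j⁻¹ * (a * j * a⁻¹) := by
      rw [commutatorElement_def]; group
    rwa [h4] at h3
  intro a ha
  rw [← act_eq_one_iff (hEN ha)]
  have h1 : act X' ⟨a, hEN ha⟩ ∈ A := by rw [hA]; exact ⟨⟨a, hEN ha⟩, ha, rfl⟩
  rw [hA1, mem_bot] at h1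
  exact h1

namespace World

variable (W : World κ G)
include W

theorem out_symm (hu : IsPair κ u X) (hv : IsPair κ v X') (hvu : v * u = u * v) (ho : IsOut v X) :
    IsOut u X' := by
  have hn : u ∈ normalizer (X' : Set G) := mem_normalizer_iff_cj.mpr (W.no2 v u X' X hv hu hvu)
  rcases isInn_or_isOut hn with hi | ho'
  · exfalso
    by_cases hf : Fixes u X'
    · exact ho.not_fixes (typeZero_symm' hv hu hvu hf)
    · exact ho.not_inn (W.ti v u X' X hv hu hvu hi hf).2.1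
  · exact ho'

/-- outer elements have type `f` or `g` -/
theorem exists_fg (hu : IsPair κ u X) (hv : IsPair κ v X') (hvu : v * u = u * v) (ho : IsOut v X) :
    (∃ J, TypeF (act X ⟨v, ho.1⟩) J) ∨ ∃ J, TypeG (act X ⟨v, ho.1⟩) J := by
  rcases W.out hu.kind _ (ho.out hv.sq).sq (ho.out hv.sq).out with h | h | h
  · exact (W.no_typeC hu hv ho.1 hvu h).elim
  · exact Or.inl h
  · exact Or.inr h

theorem exists_fg' (hu : IsPair κ u X) (hv : IsPair κ v X') (hvu : v * u = u * v) (ho : IsOut v X) :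
    ∃ J, FG (act X ⟨v, ho.1⟩) J := by
  rcases W.exists_fg hu hv hvu ho with ⟨J, h⟩ | ⟨J, h⟩
  · exact ⟨J, h.fg⟩
  · exact ⟨J, h.fg⟩

omit [Finite G] W in
theorem not_fixes_of_ninv {w c : G} (hw : w ∈ X) (hc : c ∈ X) (hcf : Fixes c X)
    (h : NInv (QuotientGroup.mk ⟨w, hw⟩ : ↥X ⧸ oddCore ↥X)) : ¬ Fixes (w * c) X := by
  intro hf
  apply h.2
  rw [mk_mem_center_iff hw]
  exact (fixes_mul_iff_left hcf).mp hf

/-- `v` outer on `X`, `w ∈ C_X(v)^∞` an involution fixing `X'` with the shift property: `w u` is the involution of a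
pair -/
theorem exists_pair_mul (hu : IsPair κ u X) (hv : IsPair κ v X') (hvu : v * u = u * v)
    (ho : IsOut v X) {J : Subgroup (↥X ⧸ oddCore ↥X)} (hJ : FG (act X ⟨v, ho.1⟩) J) {w : G}
    (hwX : w ∈ X) (hww : w * w = 1) (hwv : w * v = v * w) (hwf : Fixes w X')
    (hh : ∃ h, act X ⟨v, ho.1⟩ h = h * (QuotientGroup.mk ⟨w, hwX⟩ : ↥X ⧸ oddCore ↥X)) :
    ∃ Y, IsPair κ (w * u) Y := by
  have hwu : w * u = u * w := pair_comm hu hwX
  have huf : act X ⟨v, ho.1⟩ (QuotientGroup.mk ⟨u, hu.mem⟩) = QuotientGroup.mk ⟨u, hu.mem⟩ := by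
    rw [act_mk ho.1 hu.mem]
    congr 1
    exact Subtype.ext (by
      change v * u * v⁻¹ = u
      rw [hvu, mul_inv_cancel_right])
  obtain ⟨h1, hh1⟩ := hJ.shift _ (pair_mk_center hu) huf
  obtain ⟨h0, hh0⟩ := hh
  have hsh : act X ⟨v, ho.1⟩ (h1 * h0) = (h1 * h0) * QuotientGroup.mk ⟨w * u, mul_mem hwX hu.mem⟩ := by
    rw [map_mul, hh1, hh0]
    have h2 := mem_center_iff.mp (pair_mk_center hu) (h0 * (QuotientGroup.mk ⟨w, hwX⟩ : ↥X ⧸ oddCore ↥X))
    have h3 : (QuotientGroup.mk ⟨w * u, mul_mem hwX hu.mem⟩ : ↥X ⧸ oddCore ↥X) =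
        QuotientGroup.mk ⟨w, hwX⟩ * QuotientGroup.mk ⟨u, hu.mem⟩ := rfl
    rw [h3]
    calc h1 * QuotientGroup.mk ⟨u, hu.mem⟩ * (h0 * QuotientGroup.mk ⟨w, hwX⟩) =
        h1 * (QuotientGroup.mk ⟨u, hu.mem⟩ * (h0 * QuotientGroup.mk ⟨w, hwX⟩)) := by group
      _ = h1 * ((h0 * QuotientGroup.mk ⟨w, hwX⟩) * QuotientGroup.mk ⟨u, hu.mem⟩) := by rw [h2]
      _ = _ := by group
  have hwuu : (w * u) * (w * u) = 1 := by
    calc (w * u) * (w * u) = w * (u * w) * u := by group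
      _ = (w * w) * (u * u) := by rw [← hwu]; group
      _ = 1 := by rw [hww, hu.sq, one_mul]
  have hwuv : (w * u) * v = v * (w * u) := by rw [mul_assoc, ← hvu, ← mul_assoc, hwv, mul_assoc]
  obtain ⟨g, -, hg⟩ := exists_conj_mul ho.1 hv.sq (mul_mem hwX hu.mem) hwuu hwuv hsh
  have hy := pair_conj hv hg
  -- `y = v (w u)` acts on `X'` as `u`
  have hoy : IsOut (v * (w * u)) X' :=
    isOut_mul_left (pair_fixes hv) (isOut_mul_left hwf (W.out_symm hu hv hvu ho))
  have hyv : (v * (w * u)) * v = v * (v * (w * u)) := by rw [mul_assoc, hwuv]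
  obtain ⟨g', -, hg'⟩ := W.shift_out hv hy hyv hoy
  have h4 : v * (w * u) * v = w * u := by rw [mul_assoc, hwuv, ← mul_assoc, hv.sq, one_mul]
  rw [h4] at hg'
  exact ⟨_, pair_conj hy hg'⟩

/-- **no type `g`** -/
theorem no_typeG (hu : IsPair κ u X) (hv : IsPair κ v X') (hvu : v * u = u * v)
    (hn : v ∈ normalizer (X : Set G)) {J : Subgroup (↥X ⧸ oddCore ↥X)}
    (hg : TypeG (act X ⟨v, hn⟩) J) : False := by
  have ho : IsOut v X := ⟨hn, hg.out⟩
  have ho' := W.out_symm hu hv hvu ho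
  obtain ⟨J', hJ'⟩ := W.exists_fg' hv hu hvu.symm ho'
  obtain ⟨C, hC⟩ := exists_over hu hv.sq hn hg.fg
  obtain ⟨C', hC'⟩ := exists_over hv hu.sq ho'.1 hJ'
  have hucen := pair_mk_center hu
  have hu1 := mk_ne_one' hu.mem hu.sq hu.ne_one
  -- noncanonical elements `w u`
  have hno : ∀ w (hwC : w ∈ C), w * w = 1 → w ≠ 1 → ∀ Y, ¬ IsPair κ (w * u) Y := by
    intro w hwC hww hw1 Y hY
    obtain ⟨hwX, hwJ⟩ := hC.map w hwC
    have hcan := hg.can _ hwJ (mk_sq_one hwX hww) (mk_ne_one' hwX hww hw1)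
    refine W.not_D hu (mul_mem hwX hu.mem) ?_ (not_fixes_of_ninv hwX hu.mem (pair_fixes hu) hcan.1) hY
    intro h
    exact hu1 (W.canU hu.kind _ _ hcan hucen h)
  by_cases hCC : C = C'
  · subst hCC
    obtain ⟨w, hwC, hwX', hww, hw1, hwu, -, h, hh⟩ := hC'.exists_inv hu.sq ho'.1 hJ'
    obtain ⟨g, -, hgg⟩ := exists_conj_mul ho'.1 hu.sq hwX' hww hwu hh
    have h1 := pair_conj hu hgg
    rw [← hwu] at h1
    exact hno w hwC hww hw1 _ h1
  · have hfix := hC'.fixes_of_ne hu hv hvu ho'.1 hJ' (E := C) (by rw [inf_comm]; exact hC.comp) hCC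
    obtain ⟨w, hwC, hwX, hww, hw1, hwv, -, hh⟩ := hC.exists_inv hv.sq hn hg.fg
    obtain ⟨Y, hY⟩ := W.exists_pair_mul hu hv hvu ho hg.fg hwX hww hwv (hfix w hwC) hh
    exact hno w hwC hww hw1 Y hY

/-- outer elements have type `f` -/
theorem exists_typeF (hu : IsPair κ u X) (hv : IsPair κ v X') (hvu : v * u = u * v) (ho : IsOut v X) :
    ∃ J, TypeF (act X ⟨v, ho.1⟩) J := by
  rcases W.exists_fg hu hv hvu ho with h | ⟨J, h⟩
  · exact h
  · exact (W.no_typeG hu hv hvu ho.1 h).elim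

/-- **type `f`, first part**: `X` contains a noncentral involution of a pair; `|Ω_u| = 1` -/
theorem typeF_first (hu : IsPair κ u X) (hv : IsPair κ v X') (hvu : v * u = u * v) (ho : IsOut v X) :
    (∃ c ∈ X, (∃ Y, IsPair κ c Y) ∧ ¬ Fixes c X) ∧ ∀ Y, IsPair κ u Y → Y = X := by
  have ho' := W.out_symm hu hv hvu ho
  obtain ⟨J, hJ⟩ := W.exists_typeF hu hv hvu ho
  obtain ⟨J', hJ'⟩ := W.exists_fg' hv hu hvu.symm ho'
  obtain ⟨C, hC⟩ := exists_over hu hv.sq ho.1 hJ.fg
  obtain ⟨C', hC'⟩ := exists_over hv hu.sq ho'.1 hJ'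
  have h1 : ∃ c ∈ X, (∃ Y, IsPair κ c Y) ∧ ¬ Fixes c X := by
    by_cases hCC : C = C'
    · subst hCC
      obtain ⟨w, hwC, hwX', hww, hw1, hwu, -, h, hh⟩ := hC'.exists_inv hu.sq ho'.1 hJ'
      obtain ⟨g, -, hgg⟩ := exists_conj_mul ho'.1 hu.sq hwX' hww hwu hh
      have h1 := pair_conj hu hgg
      rw [← hwu] at h1
      obtain ⟨hwX, hwJ⟩ := hC.map w hwC
      exact ⟨w * u, mul_mem hwX hu.mem, ⟨_, h1⟩, not_fixes_of_ninv hwX hu.mem (pair_fixes hu)
        (hJ.noncan _ hwJ (mk_sq_one hwX hww) (mk_ne_one' hwX hww hw1)).1⟩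
    · have hfix := hC'.fixes_of_ne hu hv hvu ho'.1 hJ' (E := C) (by rw [inf_comm]; exact hC.comp) hCC
      obtain ⟨w, hwC, hwX, hww, hw1, hwv, hwJ, hh⟩ := hC.exists_inv hv.sq ho.1 hJ.fg
      obtain ⟨Y, hY⟩ := W.exists_pair_mul hu hv hvu ho hJ.fg hwX hww hwv (hfix w hwC) hh
      exact ⟨w * u, mul_mem hwX hu.mem, ⟨_, hY⟩, not_fixes_of_ninv hwX hu.mem (pair_fixes hu)
        (hJ.noncan _ hwJ (mk_sq_one hwX hww) (mk_ne_one' hwX hww hw1)).1⟩
  refine ⟨h1, ?_⟩
  obtain ⟨c, hc, ⟨Y, hY⟩, hcf⟩ := h1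
  exact (W.ti u c X Y hu hY (pair_comm hu hc).symm (isInn_of_mem hc) hcf).2.2

end World

end

end Cfsg.Agent.UGT.I34.Four
end

-- part: UGT/I34/FourPump
section
/-!
# Pump-ups for an involution which is inner on the 2-components

`exists_pumpup_of`: as `PumpUp.exists_pumpup`, with `z ∈ L` replaced by `z ∈ K ⊔ cenMod X K` for every 2-component
`K` of `X`.
-/

set_option autoImplicit false

open Cfsg Subgroup
open Cfsg.Agent.SignalizersComponents Cfsg.Agent.Lib
open Cfsg.Agent.SignalizersComponents.IntrinsicBasic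
open Cfsg.Agent.SignalizersComponents.IntrinsicIntr
open Cfsg.Agent.SignalizersComponents.PLayerAut
open Cfsg.Agent.Intrinsic.Charac
open Cfsg.Agent.Intrinsic.PumpUp
open scoped commutatorElement

namespace Cfsg.Agent.UGT.I34.FourPump

variable {G : Type*} [Group G] [Finite G]

/-- **Pump-up** -/
theorem exists_pumpup_of {X L : Subgroup G} {z : G} (hz2 : z * z = 1) (hzX : z ∈ X)
    (hz : ∀ K, TC X K → z ∈ K ⊔ cenMod X K)
    (hL : TC (X ⊓ centralizer ({z} : Set G)) L) : ∃ K, TC X K ∧ L ≤ K := by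
  have hLX : L ≤ X := hL.le.trans inf_le_left
  by_contra hno
  push Not at hno
  have h1 : ∀ K, TC X K → L ≤ cenMod X K := by
    intro K hK
    exact (le_or_le_cenMod hzX hz2 hL hK (hz K hK)).resolve_left (hno K hK)
  -- `L` lies in the 2-layer
  have h2 : L ≤ (pLayer 2 ↥X).map X.subtype := by
    have hT : IsPGroup 2 ↥(zpowers (⟨z, hzX⟩ : ↥X)) := by
      rintro ⟨_, n, rfl⟩
      refine ⟨1, ?_⟩
      apply Subtype.ext
      have h1 : (⟨z, hzX⟩ : ↥X) ^ 2 = 1 := by
        apply Subtype.ext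
        simpa [pow_two] using hz2
      change ((⟨z, hzX⟩ : ↥X) ^ n) ^ (2 ^ 1) = 1
      rw [pow_one, ← zpow_natCast, ← zpow_mul, mul_comm, zpow_mul, zpow_natCast, h1, one_zpow]
    have h1 := Cfsg.Agent.S1301.result (X := ↥X) (zpowers (⟨z, hzX⟩ : ↥X)) hT
    have h2 := isPComponent_map_equiv 2 (IntrinsicBalance.centEquiv X z hzX) hL.comp
    intro a ha
    have ha' : (⟨a, hL.le ha⟩ : ↥(X ⊓ centralizer ({z} : Set G))) ∈
        L.subgroupOf (X ⊓ centralizer ({z} : Set G)) := ha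
    have h3 : (IntrinsicBalance.centEquiv X z hzX) ⟨a, hL.le ha⟩ ∈
        pLayer 2 ↥(centralizer ((zpowers (⟨z, hzX⟩ : ↥X) : Subgroup ↥X) : Set ↥X)) :=
      (le_sSup (show _ ∈ {K | IsPComponent 2 K} from h2)) ⟨_, ha', rfl⟩
    have h4 := h1 ⟨_, h3, rfl⟩
    exact ⟨⟨a, (hL.le ha).1⟩, h4, rfl⟩
  -- hence `L` is abelian modulo `O(X)`
  have h3 : ∀ l ∈ L, ∀ x ∈ (pLayer 2 ↥X).map X.subtype, x⁻¹ * (l * x * l⁻¹) ∈ relCore 2 X := by
    intro l hl
    let W : Subgroup ↥X := (centralizer ({(QuotientGroup.mk' (oddCore ↥X)) ⟨l, hLX hl⟩} :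
      Set (↥X ⧸ oddCore ↥X))).comap (QuotientGroup.mk' (oddCore ↥X))
    have hW : ∀ x : ↥X, x ∈ W ↔ (x : G)⁻¹ * (l * x * l⁻¹) ∈ relCore 2 X := by
      intro x
      change (QuotientGroup.mk' (oddCore ↥X)) x ∈ centralizer _ ↔ _
      rw [mem_centralizer_singleton_iff]
      have e : (QuotientGroup.mk' (oddCore ↥X)) x =
          (QuotientGroup.mk' (oddCore ↥X)) (⟨l, hLX hl⟩ * x * ⟨l, hLX hl⟩⁻¹) ↔
          (x : G)⁻¹ * (l * x * l⁻¹) ∈ relCore 2 X := mk_eq_mk_iff
      rw [← e, map_mul, map_mul, map_inv]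
      constructor
      · intro h
        rw [← h]; group
      · intro h
        nth_rewrite 1 [h]
        group
    have hle : pLayer 2 ↥X ≤ W := by
      rw [pLayer_def]
      refine sSup_le fun K hK => ?_
      intro x hx
      rw [hW]
      have hTC : TC X (K.map X.subtype) := tc_of_subtype hK
      exact ((mem_cenMod hTC.le).mp (h1 _ hTC hl)).2 x ⟨x, hx, rfl⟩
    rintro _ ⟨x, hx, rfl⟩
    exact (hW x).mp (hle hx)
  have h4 : ⁅L, L⁆ ≤ relCore 2 X := by
    rw [commutator_le]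
    intro a ha b hb
    have h5 := h3 a ha b (h2 hb)
    have h6 : ⁅a, b⁆ = (a * b * a⁻¹) * b⁻¹ := rfl
    have h7 : b * (b⁻¹ * (a * b * a⁻¹)) * b⁻¹ ∈ relCore 2 X :=
      conj_mem_relCore' (hLX hb) h5
    rw [h6]
    convert h7 using 1
    group
  rw [hL.perfect] at h4
  have h5 := even_card hL
  have h6 := odd_card_relCore X
  have h7 := card_dvd_of_le h4
  exact (Nat.not_even_iff_odd.mpr h6) (even_iff_two_dvd.mpr (h5.trans h7))

end Cfsg.Agent.UGT.I34.FourPump
end

-- part: UGT/I34/FourTF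
section
/-!
# THEOREM I34, part [C] (`Z = 2²`): type `f`, second part; the trichotomy

* `World.typeF_eq`: `v` outer on `X ∈ Ω_u`, `X' ∈ Ω_v`: `C_X(v)^∞ = C_{X'}(u)^∞`;
* `World.tri`, `World.one_of`, `World.exists_partner`, `World.canP`.
-/

set_option autoImplicit false

open Cfsg Subgroup
open Cfsg.Agent.SignalizersComponents Cfsg.Agent.Lib
open Cfsg.Agent.SignalizersComponents.IntrinsicBasic
open Cfsg.Agent.Intrinsic
open Cfsg.Agent.Intrinsic.Basic hiding IsPair PQS Target IsPair.sq IsPair.ne_one IsPair.cj exists_pumpup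
open Cfsg.Agent.Intrinsic.Cen hiding pair_comm pair_mem_cen exists_pump pump_unique
open Cfsg.Agent.McLLyComp.Act
open Cfsg.Agent.UGT.I34.Pair Cfsg.Agent.UGT.I34.KAut Cfsg.Agent.UGT.I34.FixLift
open Cfsg.Agent.UGT.I34.KF (NInv)
open Cfsg.Agent.Intrinsic.TypesDef (sup_of_card)
open scoped commutatorElement

namespace Cfsg.Agent.UGT.I34.Four

universe u

/-- in `C(z)` the involutions outside of `L = C(z)^∞` are conjugate to `z` -/
structure HeOut (κ : Kind.{u}) : Prop where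
  out : ∀ {Y : Type u} [Group Y] [Finite Y] {z : Y} {L : Subgroup Y}, κ.T Y z L → IsPair κ z L →
    ∀ t : Y, t * t = 1 → t * z = z * t → t ∉ L → ∃ g, g * z * g⁻¹ = t

/-- a four-group with an involutory automorphism moving `z` -/
theorem fixed_eq {K : Type*} [Group K] (hc : Nat.card (center K) = 4)
    (h2 : ∀ c ∈ center K, c * c = 1) {φ : MulAut K} {z x : K} (hz : z ∈ center K)
    (hφz : φ z ≠ z) (hx : x ∈ center K) (hx1 : x ≠ 1) (hφx : φ x = x) : φ z = z * x := by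
  have hz' : φ z ∈ center K := by
    rw [mem_center_iff] at hz ⊢
    intro g
    obtain ⟨h, rfl⟩ := φ.surjective g
    rw [← map_mul, ← map_mul, hz h]
  have hz1 : z ≠ 1 := by rintro rfl; exact hφz (map_one φ)
  have hz1' : φ z ≠ 1 := fun h => hz1 (by rwa [← map_one φ, φ.injective.eq_iff] at h)
  have hzx : z ≠ x := by rintro rfl; exact hφz hφx
  have hzx' : φ z ≠ x := by
    intro h
    rw [← hφx, φ.injective.eq_iff] at h
    exact hzx h
  have hz2 := h2 z hz
  have h5 : ({1, x, z, z * x} : Set K) ⊆ (center K : Set K) := by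
    rintro y (rfl | rfl | rfl | rfl)
    · exact one_mem _
    · exact hx
    · exact hz
    · exact mul_mem hz hx
  have h6 : ({1, x, z, z * x} : Set K).ncard = 4 := by
    have hzx1 : z * x ≠ 1 := by
      intro h
      apply hzx
      rw [← h2 z hz] at h
      exact (mul_left_cancel h).symm
    rw [Set.ncard_insert_of_notMem, Set.ncard_insert_of_notMem, Set.ncard_insert_of_notMem,
      Set.ncard_singleton]
    · rw [Set.mem_singleton_iff]
      intro h
      exact hx1 (by rw [eq_comm, mul_eq_left] at h; exact h)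
    · rintro (h | h)
      · exact hzx h.symm
      · exact hz1 (by rw [Set.mem_singleton_iff, eq_comm, mul_eq_right] at h; exact h)
    · rintro (h | h | h)
      · exact hx1 h.symm
      · exact hz1 h.symm
      · exact hzx1 (Set.mem_singleton_iff.mp h).symm
  have hfin : (center K : Set K).Finite := Nat.finite_of_card_ne_zero (α := center K) (by rw [hc]; norm_num)
  have h7 : ({1, x, z, z * x} : Set K) = (center K : Set K) := by
    refine Set.eq_of_subset_of_ncard_le h5 ?_ hfin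
    rw [h6]
    exact hc.le
  have h8 : φ z ∈ ({1, x, z, z * x} : Set K) := by rw [h7]; exact hz'
  rcases h8 with h | h | h | h
  · exact absurd h hz1'
  · exact absurd h hzx'
  · exact absurd h hφz
  · exact h

section

variable {κ : Kind.{u}} {G : Type u} [Group G] [Finite G] {u v w a b : G}
  {X X' E C C' K M J : Subgroup G}

/-- two 2-components of `H` and `C_H(w)`, `w` trivial on `K / O(K)`: `E ≤ K` is `cen K w` -/
theorem eq_cen_of_le {H : Subgroup G} (hK : IsComp H K) (hw : w ∈ H) (hww : w * w = 1)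
    (hf : Fixes w K) (hE : IsComp (H ⊓ centralizer ({w} : Set G)) E) (hEK : E ≤ K)
    (hu : u ∈ E) (huu : u * u = 1) (hu1 : u ≠ 1) : E = cen K w := by
  by_contra hne
  obtain ⟨h1, hs⟩ := isComp_cen hK hw hww hf
  have h2 : ∀ e ∈ E, Fixes e K := by
    intro e he
    have h3 := h1.fixes_of_mem hE (Ne.symm hne) he
    exact (fixes_iff_of_sup hs h3.1 (le_normalizer (hEK he))).mp h3
  have h3 : E ≤ core K := by
    rw [← hE.perfect, commutator_le]
    intro a ha b hb
    exact (h2 a ha).2 b (hEK hb)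
  exact hu1 (eq_one_of_mem_core_sq (h3 hu) huu)

namespace World

variable (W : World κ G)
include W

/-- **type `f`, second part** -/
theorem typeF_eq (hO : HeOut κ) (hu : IsPair κ u X) (hv : IsPair κ v X') (hvu : v * u = u * v)
    (ho : IsOut v X) (ho' : IsOut u X') {J : Subgroup (↥X ⧸ oddCore ↥X)}
    {J' : Subgroup (↥X' ⧸ oddCore ↥X')} (hJ : TypeF (act X ⟨v, ho.1⟩) J)
    (hJ' : TypeF (act X' ⟨u, ho'.1⟩) J') (hC : Over u v X C J) (hC' : Over v u X' C' J') :
    C = C' := by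
  by_contra hne
  have hfixC := hC'.fixes_of_ne hu hv hvu ho'.1 hJ'.fg (E := C) (by rw [inf_comm]; exact hC.comp) hne
  obtain ⟨w, hwC, hwX, hww, hw1, hwv, hwJ, -⟩ := hC.exists_inv hv.sq ho.1 hJ.fg
  have hwf : Fixes w X' := hfixC w hwC
  have hwu : w * u = u * w := pair_comm hu hwX
  have hnw : ¬ Fixes w X := fun h =>
    (hJ.noncan _ hwJ (mk_sq_one hwX hww) (mk_ne_one' hwX hww hw1)).1.2 ((mk_mem_center_iff hwX).mpr h)
  have hwCv : w ∈ centralizer ({v} : Set G) := mem_centralizer_singleton_iff.mpr hwv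
  have hwCu : w ∈ centralizer ({u} : Set G) := mem_centralizer_singleton_iff.mpr hwu
  have huCw : u ∈ centralizer ({w} : Set G) := mem_centralizer_singleton_iff.mpr hwu.symm
  -- the pump-up of `X'` at `w`
  obtain ⟨M, hM, hle, hvM⟩ := exists_pump hv hww hwv hwf
  obtain ⟨hE', hs⟩ := isComp_cen hv.comp hwCv hww hwf
  have hE'w : IsComp (centralizer ({w} : Set G) ⊓ centralizer ({v} : Set G)) (cen X' w) := by
    rw [inf_comm]; exact hE'
  have hkE := (kind_cen (κ := κ) hv.comp hwCv hww hwf).mpr hv.kind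
  have hvE := pair_mem_cen hv hwv
  -- the element `g`
  obtain ⟨z, hz, hzv⟩ := hJ.center
  have hzz := W.sett.kl.sq hu.kind z hz
  have hwact : z ∈ fixed (act X ⟨w, le_normalizer hwX⟩) := by
    rw [mem_fixed]
    obtain ⟨⟨z0, hz0⟩, rfl⟩ := QuotientGroup.mk_surjective z
    rw [act_mk (le_normalizer hwX) hz0]
    have h1 := mem_center_iff.mp hz (QuotientGroup.mk ⟨w, hwX⟩)
    have h2 : (QuotientGroup.mk ⟨w * z0 * w⁻¹, conj_mem (le_normalizer hwX) hz0⟩ :
        ↥X ⧸ oddCore ↥X) = QuotientGroup.mk ⟨w, hwX⟩ * QuotientGroup.mk ⟨z0, hz0⟩ *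
          (QuotientGroup.mk ⟨w, hwX⟩)⁻¹ := rfl
    rw [h2, h1, mul_inv_cancel_right]
  obtain ⟨a, haX, haw, -, haz⟩ := exists_lift_two (le_normalizer hwX) (n := 1)
    (by rw [pow_one, pow_two, hww]) hwact (m := 1) (by rw [pow_one, pow_two, hzz])
  have huf : act X ⟨v, ho.1⟩ (QuotientGroup.mk ⟨u, hu.mem⟩) = QuotientGroup.mk ⟨u, hu.mem⟩ := by
    rw [act_mk ho.1 hu.mem]
    congr 1
    exact Subtype.ext (by
      change v * u * v⁻¹ = u
      rw [hvu, mul_inv_cancel_right])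
  have hzu := fixed_eq (W.sett.kl.card hu.kind) (W.sett.kl.sq hu.kind) hz hzv (pair_mk_center hu)
    (mk_ne_one' hu.mem hu.sq hu.ne_one) huf
  obtain ⟨g, hgX, hgw, hg⟩ : ∃ g ∈ X, g * w = w * g ∧ g * v * g⁻¹ = v * u := by
    have hvi : v⁻¹ = v := inv_eq_of_mul_eq_one_left hv.sq
    rw [← haz, act_mk ho.1 haX] at hzu
    have h1 : (v * a * v⁻¹)⁻¹ * (a * u) ∈ core X :=
      (mk_eq_iff (conj_mem ho.1 haX) (mul_mem haX hu.mem)).mp hzu
    have h2 := conj_mem_core (inv_mem ho.1) h1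
    have h3 : v⁻¹ * ((v * a * v⁻¹)⁻¹ * (a * u)) * v⁻¹⁻¹ = (a⁻¹ * v * a⁻¹⁻¹)⁻¹ * (v * u) := by
      calc v⁻¹ * ((v * a * v⁻¹)⁻¹ * (a * u)) * v⁻¹⁻¹ = a⁻¹ * v⁻¹ * a * (u * v) := by group
        _ = a⁻¹ * v⁻¹ * a * (v * u) := by rw [hvu]
        _ = _ := by group
    rw [h3] at h2
    have e1 : (a⁻¹ * v * a⁻¹⁻¹) ^ 2 ^ 1 = 1 := by
      rw [pow_one, pow_two]
      calc a⁻¹ * v * a⁻¹⁻¹ * (a⁻¹ * v * a⁻¹⁻¹) = a⁻¹ * (v * v) * a := by group
        _ = 1 := by rw [hv.sq]; group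
    have e2 : (v * u) ^ 2 ^ 1 = 1 := by
      rw [pow_one, pow_two]
      calc v * u * (v * u) = v * (u * v) * u := by group
        _ = (v * v) * (u * u) := by rw [← hvu]; group
        _ = 1 := by rw [hv.sq, hu.sq, one_mul]
    have haiw : a⁻¹ * w = w * a⁻¹ := by
      rw [inv_mul_eq_iff_eq_mul, ← mul_assoc, haw, mul_inv_cancel_right]
    obtain ⟨o, ho1, ho2, h4⟩ := Lifting.exists_conj_commute (odd_card_core X) (v := w) e1 e2
      (normalizer_le_normalizer_core X (mul_mem (mul_mem (inv_mem (le_normalizer haX)) ho.1)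
        (inv_mem (inv_mem (le_normalizer haX))))) (by
        calc a⁻¹ * v * a⁻¹⁻¹ * w = a⁻¹ * v * (a * w) := by group
          _ = a⁻¹ * v * (w * a) := by rw [haw]
          _ = a⁻¹ * (v * w) * a := by group
          _ = a⁻¹ * w * v * a := by rw [← hwv]; group
          _ = w * (a⁻¹ * v * a⁻¹⁻¹) := by rw [haiw]; group) (by
        calc v * u * w = v * (u * w) := by group
          _ = (v * w) * u := by rw [← hwu]; group
          _ = w * (v * u) := by rw [← hwv]; group) h2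
    refine ⟨o * a⁻¹, mul_mem (core_le X ho1) (inv_mem haX), ?_, ?_⟩
    · rw [mul_assoc, haiw, ← mul_assoc, ho2, mul_assoc]
    · rw [← h4]; group
  have hgCw : g ∈ centralizer ({w} : Set G) := mem_centralizer_singleton_iff.mpr hgw
  -- `u ∈ M`
  have hgM : cj g M = M := by
    by_contra hgM
    have h1 : IsComp (centralizer ({w} : Set G)) (cj g M) := by
      have := hM.cj g
      rwa [cj_eq_self_of_mem hgCw] at this
    have h2 : v * u ∈ cj g M := hg ▸ conj_mem_cj hvM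
    have h3 := hM.fixes_of_mem h1 (Ne.symm hgM) h2
    have hn : v * u ∈ normalizer (X' : Set G) := mul_mem (le_normalizer hv.mem) ho'.1
    have h4 : v * u ∈ normalizer (cen X' w : Set G) := mem_normalizer_cen hn (by
      calc v * u * w = v * (u * w) := by group
        _ = (v * w) * u := by rw [← hwu]; group
        _ = w * (v * u) := by rw [← hwv]; group)
    have h5 := (fixes_iff_of_sup hs h4 hn).mp (fixes_of_le hle h4 h3)
    exact ho'.not_fixes ((fixes_mul_iff_right (pair_fixes hv)).mp h5)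
  have huM : u ∈ M := by
    have h2 : v * u ∈ cj g M := hg ▸ conj_mem_cj hvM
    rw [hgM] at h2
    have := mul_mem (inv_mem hvM) h2
    rwa [inv_mul_cancel_left] at this
  have hucen : u ∈ normalizer (cen X' w : Set G) := mem_normalizer_cen ho'.1 hwu.symm
  -- small is impossible
  rcases W.sett.small_or_big hww hw1 hv.inv hvE hE'w hkE hM hle with hsm | hbig
  · exact ho'.not_inn (isInn_of_small hsm hs hucen ho'.1 (isInn_of_mem huM))
  obtain ⟨hvM', hT, hp⟩ := Sett.big_pair hbig hv.inv hvE hE'w hkE hM hle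
  obtain ⟨gb, hgb⟩ := hO.out hT hp (QuotientGroup.mk ⟨u, huM⟩) (mk_sq_one huM hu.sq) (by
    rw [← QuotientGroup.mk_mul, ← QuotientGroup.mk_mul]
    congr 1
    exact Subtype.ext hvu.symm) (by
    intro h
    obtain ⟨e, he, hc⟩ := (Quot.mem_qs huM).mp h
    have heE : e ∈ cen X' w := he.1
    have h1 : Fixes (e⁻¹ * u) M := fixes_of_mem_core hc
    have h2 : e⁻¹ * u ∈ normalizer (cen X' w : Set G) := mul_mem (inv_mem (le_normalizer heE)) hucen
    have h3 := fixes_of_le hle h2 h1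
    have heX : e ∈ X' := by rw [← hs]; exact mem_sup_left heE
    have h4 := (fixes_iff_of_sup hs h2 (mul_mem (inv_mem (le_normalizer heX)) ho'.1)).mp h3
    exact ho'.not_inn (isInn_iff.mpr ⟨e, heX, h4⟩))
  obtain ⟨g1, hg1M, hg1⟩ : ∃ g ∈ M, g * v * g⁻¹ = u := by
    obtain ⟨⟨k, hk⟩, rfl⟩ := QuotientGroup.mk_surjective gb
    have h1 : (k * v * k⁻¹)⁻¹ * u ∈ core M :=
      (mk_eq_iff (conj_mem (le_normalizer hk) hvM) huM).mp hgb
    obtain ⟨o, ho1, ho2⟩ := Lifting.exists_conj_eq (odd_card_core M) (n := 1) (m := 1)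
      (by
        rw [pow_one, pow_two]
        calc k * v * k⁻¹ * (k * v * k⁻¹) = k * (v * v) * k⁻¹ := by group
          _ = 1 := by rw [hv.sq]; group)
      (by rw [pow_one, pow_two, hu.sq])
      (normalizer_le_normalizer_core M (mul_mem (mul_mem (le_normalizer hk) (le_normalizer hvM))
        (inv_mem (le_normalizer hk)))) h1
    refine ⟨o * k, mul_mem (core_le M ho1) hk, ?_⟩
    rw [← ho2]; group
  have hg1C : g1 ∈ centralizer ({w} : Set G) := hM.le hg1M
  -- the 2-component `E` of `C(u) ∩ C(w)`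
  have hE : IsComp (centralizer ({u} : Set G) ⊓ centralizer ({w} : Set G)) (cj g1 (cen X' w)) := by
    have h1 := hE'w.cj g1
    rw [cj_inf, cj_eq_self_of_mem hg1C, cj_centralizer, hg1, inf_comm] at h1
    exact h1
  have huE : u ∈ cj g1 (cen X' w) := hg1 ▸ conj_mem_cj hvE
  have hkE1 : κ.P (↥(cj g1 (cen X' w)) ⧸ oddCore ↥(cj g1 (cen X' w))) :=
    κ.congr (cjQuot g1 (cen X' w)) hkE
  obtain ⟨K, hK, hEK⟩ := FourPump.exists_pumpup_of (X := centralizer ({u} : Set G)) (z := w) hww hwCu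
    (fun K hK => (IsComp.of_tc hK).L2_le_sup (hu.comp.le_L2 hwX)) hE.tc
  have hK' : IsComp (centralizer ({u} : Set G)) K := IsComp.of_tc hK
  by_cases hKX : K = X
  · subst hKX
    have h1 := sup_of_card hEK (κ.card_eq hkE1 hu.kind)
    have h2 : Fixes w (cj g1 (cen X' w)) := fixes_of_le_cent (hE.le.trans inf_le_right)
    exact hnw ((fixes_iff_of_sup h1 h2.1 (le_normalizer hwX)).mp h2)
  · have h1 : Fixes w K := hK'.fixes_of_mem hu.comp hKX hwX
    have h2 := eq_cen_of_le hK' hwCu hww h1 hE hEK huE hu.sq hu.ne_one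
    rw [h2] at hkE1
    have h3 := (kind_cen (κ := κ) hK' hwCu hww h1).mp hkE1
    exact hKX ((W.typeF_first hu hv hvu ho).2 K ⟨hu.inv, hEK huE, hK', h3⟩)

/-- type `f`: the common 2-component `C = C_X(v)^∞ = C_{X'}(u)^∞` of `C(u) ∩ C(v)` -/
theorem exists_typeF_eq (hO : HeOut κ) (hu : IsPair κ u X) (hv : IsPair κ v X') (huv : u * v = v * u)
    (ho : IsOut v X) : ∃ ho' : IsOut u X', ∃ J J' C, TypeF (act X ⟨v, ho.1⟩) J ∧
      TypeF (act X' ⟨u, ho'.1⟩) J' ∧ Over u v X C J ∧ Over v u X' C J' := by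
  have ho' := W.out_symm hu hv huv.symm ho
  obtain ⟨J, hJ⟩ := W.exists_typeF hu hv huv.symm ho
  obtain ⟨J', hJ'⟩ := W.exists_typeF hv hu huv ho'
  obtain ⟨C, hC⟩ := exists_over hu hv.sq ho.1 hJ.fg
  obtain ⟨C', hC'⟩ := exists_over hv hu.sq ho'.1 hJ'.fg
  have h := W.typeF_eq hO hu hv huv.symm ho ho' hJ hJ' hC hC'
  subst h
  exact ⟨ho', J, J', C, hJ, hJ', hC, hC'⟩

/-- **the trichotomy** -/
theorem tri (hu : IsPair κ u X) (hv : IsPair κ v X') (huv : u * v = v * u) :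
    Fixes v X ∨ (∃ h : v ∈ X, Can (QuotientGroup.mk ⟨v, h⟩ : ↥X ⧸ oddCore ↥X)) ∨
      ∃ ho : IsOut v X, ∃ J, TypeF (act X ⟨v, ho.1⟩) J := by
  have hn : v ∈ normalizer (X : Set G) := mem_normalizer_iff_cj.mpr (W.no2 u v X X' hu hv huv)
  rcases isInn_or_isOut hn with hi | ho
  · by_cases hf : Fixes v X
    · exact Or.inl hf
    · exact Or.inr (Or.inl (W.ti u v X X' hu hv huv hi hf).1)
  · exact Or.inr (Or.inr ⟨ho, W.exists_typeF hu hv huv.symm ho⟩)

/-- `|Ω_u| = 1` if `u` has a partner of type I or `f` -/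
theorem one_of (hu : IsPair κ u X) (hv : IsPair κ v X') (huv : u * v = v * u) (hnf : ¬ Fixes v X) :
    ∀ Y, IsPair κ u Y → Y = X := by
  have hn : v ∈ normalizer (X : Set G) := mem_normalizer_iff_cj.mpr (W.no2 u v X X' hu hv huv)
  rcases isInn_or_isOut hn with hi | ho
  · exact (W.ti u v X X' hu hv huv hi hnf).2.2
  · exact (W.typeF_first hu hv huv.symm ho).2

/-- a partner of type I -/
theorem exists_partner (hu : IsPair κ u X) (hv : IsPair κ v X') (huv : u * v = v * u)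
    (hnf : ¬ Fixes v X) : ∃ c, ∃ hc : c ∈ X, (∃ Y, IsPair κ c Y) ∧
      Can (QuotientGroup.mk ⟨c, hc⟩ : ↥X ⧸ oddCore ↥X) := by
  rcases W.tri hu hv huv with h | ⟨h, h1⟩ | ⟨ho, -⟩
  · exact absurd h hnf
  · exact ⟨v, h, ⟨X', hv⟩, h1⟩
  · obtain ⟨c, hc, ⟨Y, hY⟩, hcf⟩ := (W.typeF_first hu hv huv.symm ho).1
    obtain ⟨h1, h2⟩ := (W.ti u c X Y hu hY (pair_comm hu hc).symm (isInn_of_mem hc) hcf).1
    exact ⟨c, hc, ⟨Y, hY⟩, h2⟩

/-- the canonical involutions of `X` are partners of type I, and the relation is symmetric -/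
theorem canP (hu : IsPair κ u X)
    (hconj : ∀ s t : ↥X ⧸ oddCore ↥X, Can s → Can t → ∃ g, g * s * g⁻¹ = t)
    (hv : IsPair κ v X') (huv : u * v = v * u) (hnf : ¬ Fixes v X) {t : G} (ht : t ∈ X)
    (htt : t * t = 1) (hcan : Can (QuotientGroup.mk ⟨t, ht⟩ : ↥X ⧸ oddCore ↥X)) :
    ∃ Y, IsPair κ t Y ∧ (∃ h : u ∈ Y, Can (QuotientGroup.mk ⟨u, h⟩ : ↥Y ⧸ oddCore ↥Y)) ∧
      ∀ Y', IsPair κ t Y' → Y' = Y := by
  obtain ⟨c, hc, ⟨Y, hY⟩, hcc⟩ := W.exists_partner hu hv huv hnf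
  obtain ⟨gb, hgb⟩ := hconj _ _ hcc hcan
  obtain ⟨g, hgX, hg⟩ : ∃ g ∈ X, g * c * g⁻¹ = t := by
    obtain ⟨⟨k, hk⟩, rfl⟩ := QuotientGroup.mk_surjective gb
    have h1 : (k * c * k⁻¹)⁻¹ * t ∈ core X :=
      (mk_eq_iff (conj_mem (le_normalizer hk) hc) ht).mp hgb
    obtain ⟨o, ho1, ho2⟩ := Lifting.exists_conj_eq (odd_card_core X) (n := 1) (m := 1)
      (by
        rw [pow_one, pow_two]
        calc k * c * k⁻¹ * (k * c * k⁻¹) = k * (c * c) * k⁻¹ := by group
          _ = 1 := by rw [hY.sq]; group)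
      (by rw [pow_one, pow_two, htt])
      (normalizer_le_normalizer_core X (mul_mem (mul_mem (le_normalizer hk) (le_normalizer hc))
        (inv_mem (le_normalizer hk)))) h1
    refine ⟨o * k, mul_mem (core_le X ho1) hk, ?_⟩
    rw [← ho2]; group
  have hY' := pair_conj hY hg
  have hut : u * t = t * u := (pair_comm hu ht).symm
  have hnf' : ¬ Fixes u (cj g Y) := by
    intro h
    have h1 := typeZero_symm' hY' hu hut.symm h
    exact hcan.1.2 ((mk_mem_center_iff ht).mpr h1)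
  refine ⟨cj g Y, hY', ?_, W.one_of hY' hu hut.symm hnf'⟩
  have hi : IsInn u (cj g Y) := (W.ti u t X (cj g Y) hu hY' hut (isInn_of_mem ht) (fun h =>
    hcan.1.2 ((mk_mem_center_iff ht).mpr h))).2.1
  exact (W.ti t u (cj g Y) X hY' hu hut.symm hi hnf').1

end World

end

end Cfsg.Agent.UGT.I34.Four
end
end

-- part: UGT/I34/HeP/Bal
section
set_option linter.all false
open scoped Cfsg.Agent.FastGrp

/-!
# THEOREM I34, part [C] (`Z = 2²`): balance for big pump-ups (field `bal` of `FrameE`)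

`(u, X)` a pair, `s` an involution commuting with `u` and fixing `X`, `M` the 2-component of `C(s)` above `cen X s`,
`M` big (`He`). Then `O(C(u)) ∩ C(s) ≤ O(C(s))`.

`AutL κ`: an automorphism of `He` trivial on `L = C(z)^∞` is inner by a central element of `L`.
-/

set_option autoImplicit false

open Cfsg Subgroup
open Cfsg.Agent.SignalizersComponents Cfsg.Agent.Lib
open Cfsg.Agent.SignalizersComponents.IntrinsicBasic
open Cfsg.Agent.SignalizersComponents.PLayerAut
open Cfsg.Agent.Intrinsic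
open Cfsg.Agent.Intrinsic.Basic hiding IsPair PQS Target IsPair.sq IsPair.ne_one IsPair.cj
open Cfsg.Agent.Intrinsic.Cen hiding pair_comm pair_mem_cen exists_pump pump_unique
open Cfsg.Agent.Intrinsic.Quot hiding Big isPair_quot small_or_big mk_eq_one_iff
open Cfsg.Agent.McLLyComp.Act
open Cfsg.Agent.UGT.I34.Pair Cfsg.Agent.UGT.I34.KAut Cfsg.Agent.UGT.I34.Four
open scoped commutatorElement

namespace Cfsg.Agent.UGT.I34.HeP.Bal

universe u

/-- (HE3) -/
def AutL (κ : Kind.{u}) : Prop :=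
  ∀ {Y : Type u} [Group Y] [Finite Y] {z : Y} {L : Subgroup Y}, κ.T Y z L → IsPair κ z L →
    ∀ φ : MulAut Y, (∀ l ∈ L, φ l = l) → ∃ c ∈ L, (∀ l ∈ L, c * l = l * c) ∧ ∀ y, φ y = c * y * c⁻¹

variable {κ : Kind.{u}} {G : Type u} [Group G] [Finite G] {u s a q : G} {X M J H : Subgroup G}

/-- an element of `N(M)` centralizing `J` modulo `O(M)`, in the big case, has square fixing `M` -/
theorem sq_fixes (S : Sett κ G) (hE : AutL κ) (hb : Big κ u J M) (hu : orderOf u = 2) (huJ : u ∈ J)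
    (hJ : IsComp (H ⊓ centralizer ({u} : Set G)) J) (hk : κ.P (↥J ⧸ oddCore ↥J)) (hM : IsComp H M)
    (hJM : J ≤ M) (ha : a ∈ normalizer (M : Set G)) (haJ : ∀ j ∈ J, j⁻¹ * (a * j * a⁻¹) ∈ core M) :
    Fixes (a * a) M := by
  obtain ⟨huM, hT, hp⟩ := Sett.big_pair hb hu huJ hJ hk hM hJM
  obtain ⟨c, hc, hcc, hφ⟩ := hE hT hp (act M ⟨a, ha⟩) (by
    intro l hl
    obtain ⟨⟨l, hlM⟩, rfl⟩ := QuotientGroup.mk_surjective l
    obtain ⟨j, hj, hjl⟩ := (mem_qs hlM).mp hl
    have e1 : (QuotientGroup.mk ⟨l, hlM⟩ : ↥M ⧸ oddCore ↥M) = QuotientGroup.mk ⟨j, hj.2⟩ :=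
      ((mk_eq_iff hj.2 hlM).mpr hjl).symm
    rw [e1, act_mk ha hj.2]
    exact ((mk_eq_iff hj.2 (conj_mem ha hj.2)).mpr (haJ j hj.1)).symm)
  have h1 : oddCore ↥(qs M J) = ⊥ := S.he.core hT hp
  have hcc2 : c * c = 1 := by
    have h2 : (QuotientGroup.mk ⟨c, hc⟩ : ↥(qs M J) ⧸ oddCore ↥(qs M J)) ∈ center _ := by
      rw [mem_center_iff]
      intro y
      obtain ⟨⟨y, hy⟩, rfl⟩ := QuotientGroup.mk_surjective y
      exact congrArg _ (Subtype.ext (hcc y hy).symm)
    have h3 := S.kl.sq hp.kind _ h2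
    have h4 : (QuotientGroup.mk (⟨c, hc⟩ * ⟨c, hc⟩ : ↥(qs M J)) : ↥(qs M J) ⧸ oddCore ↥(qs M J)) = 1 := h3
    rw [QuotientGroup.eq_one_iff, h1, mem_bot] at h4
    exact congrArg Subtype.val h4
  rw [← act_eq_one_iff (mul_mem ha ha), act_mul ha ha]
  apply MulEquiv.ext
  intro y
  rw [MulAut.mul_apply, hφ, hφ, MulAut.one_apply]
  have hci : c⁻¹ = c := inv_eq_of_mul_eq_one_left hcc2
  calc c * (c * y * c⁻¹) * c⁻¹ = (c * c) * y * (c⁻¹ * c⁻¹) := by group
    _ = y := by rw [hci, hcc2, one_mul, mul_one]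

/-- an odd element of `N(M)` centralizing `J` modulo `O(M)`, in the big case, fixes `M` -/
theorem fixes_of_odd (S : Sett κ G) (hE : AutL κ) (hb : Big κ u J M) (hu : orderOf u = 2) (huJ : u ∈ J)
    (hJ : IsComp (H ⊓ centralizer ({u} : Set G)) J) (hk : κ.P (↥J ⧸ oddCore ↥J)) (hM : IsComp H M)
    (hJM : J ≤ M) (ha : a ∈ normalizer (M : Set G)) (haJ : ∀ j ∈ J, j⁻¹ * (a * j * a⁻¹) ∈ core M)
    (hodd : Odd (orderOf a)) : Fixes a M := by
  have h1 := sq_fixes S hE hb hu huJ hJ hk hM hJM ha haJ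
  have h2 : act M ⟨a, ha⟩ ^ 2 = 1 := by
    rw [pow_two, ← act_mul ha ha, act_eq_one_iff]
    exact h1
  have h3 : act M ⟨a, ha⟩ ^ orderOf a = 1 := by
    rw [← map_pow]
    have : (⟨a, ha⟩ : ↥(normalizer (M : Set G))) ^ orderOf a = 1 := Subtype.ext (pow_orderOf_eq_one a)
    rw [this, map_one]
  rw [← act_eq_one_iff ha, ← orderOf_eq_one_iff]
  have h4 := orderOf_dvd_of_pow_eq_one h2
  have h5 := orderOf_dvd_of_pow_eq_one h3
  have h6 : orderOf (act M ⟨a, ha⟩) ∣ Nat.gcd 2 (orderOf a) := Nat.dvd_gcd h4 h5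
  have h7 : Nat.gcd 2 (orderOf a) = 1 := by
    rw [← Nat.coprime_iff_gcd_eq_one, Nat.coprime_two_left]
    exact hodd
  rw [h7] at h6
  exact Nat.dvd_one.mp h6

/-- **Balance.** -/
theorem bal (S : Sett κ G) (hE : AutL κ) (h : IsPair κ u X) (hss : s * s = 1) (hsu : s * u = u * s)
    (hf : Fixes s X) (hM : IsComp (centralizer ({s} : Set G)) M) (hle : cen X s ≤ M)
    (hB : Big κ u (cen X s) M) {x : G} (hx : x ∈ core (centralizer ({u} : Set G))) (hxs : x * s = s * x) :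
    x ∈ core (centralizer ({s} : Set G)) := by
  have hsC : s ∈ centralizer ({u} : Set G) := mem_centralizer_singleton_iff.mpr hsu
  have hcen := isComp_cen h.comp hsC hss hf
  have huJ : u ∈ cen X s := pair_mem_cen h hsu
  have hcJ : core (cen X s) = cen X s ⊓ core X := core_cen h.comp hsC hss hf
  have hJM : IsComp (centralizer ({s} : Set G) ⊓ centralizer ({u} : Set G)) (cen X s) := by
    rw [inf_comm]; exact hcen.1
  have hk : κ.P (↥(cen X s) ⧸ oddCore ↥(cen X s)) := (kind_cen (κ := κ) h.comp hsC hss hf).mpr h.kind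
  obtain ⟨huM, hT, hp⟩ := Sett.big_pair hB h.inv huJ hJM hk hM hle
  have hcoreM : core (cen X s) ≤ core M := FourG.core_le_of_qs hle (S.he.core hT hp)
  -- the members of `Q = O(C(u)) ∩ C(s)` fix `M`
  have key : ∀ q ∈ core (centralizer ({u} : Set G)), q * s = s * q → Fixes q M := by
    intro q hq hqs
    have hqX : Fixes q X := h.comp.fixes_of_core hq
    have hqJ : q ∈ normalizer (cen X s : Set G) := mem_normalizer_cen hqX.1 hqs
    have hqS : q ∈ centralizer ({s} : Set G) := mem_centralizer_singleton_iff.mpr hqs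
    -- `q` normalizes `M`
    have hqM : q ∈ normalizer (M : Set G) := by
      rw [mem_normalizer_iff_cj]
      have h1 : IsComp (centralizer ({s} : Set G)) (cj q M) := by
        have h2 := hM.cj q
        have h3 : q ∈ normalizer (centralizer ({s} : Set G) : Set G) := le_normalizer hqS
        rw [mem_normalizer_iff_cj] at h3
        rwa [h3] at h2
      refine hcen.1.unique h1 hM ?_ hle
      rw [mem_normalizer_iff_cj] at hqJ
      rw [← hqJ]
      exact cj_mono hle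
    have hqJ' : ∀ j ∈ cen X s, j⁻¹ * (q * j * q⁻¹) ∈ core M := by
      intro j hj
      apply hcoreM
      rw [hcJ]
      exact ⟨(cen X s).mul_mem ((cen X s).inv_mem hj) ((mem_normalizer_iff.mp hqJ j).mp hj),
        (fixes_iff_conj.mp hqX).2 j (cen_le X s hj)⟩
    exact fixes_of_odd S hE hB h.inv huJ hJM hk hM hle hqM hqJ'
      (Odd.of_dvd_nat (odd_card_core _) (Subgroup.orderOf_dvd_natCard _ hq))
  -- `Q`
  have hQ : core (centralizer ({u} : Set G)) ⊓ centralizer ({s} : Set G) ≤ core (centralizer ({s} : Set G)) := by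
    refine BigBal.le_core_of_cent hM huM h.sq ?_ ?_ (Odd.of_dvd_nat (odd_card_core _) (card_dvd_of_le inf_le_left))
    · rintro q ⟨hq, hqS⟩
      exact (hM.fixes_iff hqS).mp (key q hq (mem_centralizer_singleton_iff.mp hqS))
    · rintro c ⟨hcs, hcu⟩
      have e1 : c ∈ normalizer (core (centralizer ({u} : Set G)) : Set G) := le_normalizer_core _ hcu
      have e2 : c ∈ normalizer (centralizer ({s} : Set G) : Set G) := le_normalizer hcs
      rw [mem_normalizer_iff_cj] at e1 e2 ⊢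
      rw [cj_inf, e1, e2]
  exact hQ ⟨hx, mem_centralizer_singleton_iff.mpr hxs⟩

end Cfsg.Agent.UGT.I34.HeP.Bal
end

-- part: UGT/I34/FourBigDefs
section
set_option linter.all false

/-!
# THEOREM I34, part [C]: the facts used for "NZ implies no big pump-ups"

* `KJ κ`: `C_{Aut K}(J) = ⟨φ⟩` for `φ` of type `f`, `J = C_K(φ)^∞`;
* `HeAut κ`: automorphisms of the Held group trivial on `L = C(z)^∞` are conjugations by elements of `Z(L)`.
-/

set_option autoImplicit false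

open Cfsg Subgroup
open Cfsg.Agent.UGT.I34.Pair Cfsg.Agent.UGT.I34.KAut
open scoped commutatorElement

namespace Cfsg.Agent.UGT.I34.Four

universe u

/-- `C_{Aut K}(J) = {1, φ}` for `φ` of type `f` -/
structure KJ (κ : Kind.{u}) : Prop where
  cent : ∀ {K : Type u} [Group K] [Finite K], κ.P K → ∀ (φ : MulAut K) (J : Subgroup K), TypeF φ J →
    ∀ ψ : MulAut K, (∀ j ∈ J, ψ j = j) → ψ = 1 ∨ ψ = φ

/-- automorphisms trivial on `L` -/
structure HeAut (κ : Kind.{u}) : Prop where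
  aut : ∀ {Y : Type u} [Group Y] [Finite Y] {z : Y} {L : Subgroup Y}, κ.T Y z L → IsPair κ z L →
    ∀ φ : MulAut Y, (∀ l ∈ L, φ l = l) → ∃ c ∈ L, (∀ l ∈ L, c * l = l * c) ∧ ∀ y, φ y = c * y * c⁻¹

end Cfsg.Agent.UGT.I34.Four
end

-- part: UAlt/Eleven/ActJ
section
set_option linter.all false
open scoped Cfsg.Agent.FastGrp

/-!
# Active 2-components, `n = 11`, (3.4) of #9985

* `Dih2`: two commuting dihedral groups of order 8.
* `ActJ`: an active 2-component `J` of `C(z)`, `z = v v'`.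
* `ActJ.not_alt`: `J / O(J)` is not alternating of degree at most 11.
-/

set_option autoImplicit false
set_option linter.unusedSectionVars false

open Cfsg Equiv Equiv.Perm Subgroup
open Cfsg.Agent.Intrinsic.Basic
open Cfsg.Agent.SignalizersComponents Cfsg.Agent.Lib
open Cfsg.Agent.SignalizersComponents.IntrinsicBasic
open Cfsg.Agent.UGT.Triple
open scoped commutatorElement

namespace Cfsg.Agent.UAlt.Eleven

/-- two commuting dihedral groups of order 8, with centres `⟨v⟩` and `⟨v'⟩` -/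
structure Dih2 {H : Type*} [Group H] (s₁ s₂ s₃ s₄ v v' : H) : Prop where
  q₁ : s₁ * s₁ = 1
  q₂ : s₂ * s₂ = 1
  q₃ : s₃ * s₃ = 1
  q₄ : s₄ * s₄ = 1
  qv : v * v = 1
  qv' : v' * v' = 1
  g : s₁ * s₂ * (s₁ * s₂) = v
  h : s₃ * s₄ * (s₃ * s₄) = v'
  c₁₃ : s₁ * s₃ = s₃ * s₁
  c₁₄ : s₁ * s₄ = s₄ * s₁
  c₂₃ : s₂ * s₃ = s₃ * s₂
  c₂₄ : s₂ * s₄ = s₄ * s₂

theorem Dih2.conj {H : Type*} [Group H] {s₁ s₂ s₃ s₄ v v' : H} (D : Dih2 s₁ s₂ s₃ s₄ v v') (r : H) :
    Dih2 (r * s₁ * r⁻¹) (r * s₂ * r⁻¹) (r * s₃ * r⁻¹) (r * s₄ * r⁻¹) (r * v * r⁻¹) (r * v' * r⁻¹) := by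
  have key : ∀ {x y : H}, x * y = y * x → r * x * r⁻¹ * (r * y * r⁻¹) = r * y * r⁻¹ * (r * x * r⁻¹) := by
    intro x y h
    rw [show r * x * r⁻¹ * (r * y * r⁻¹) = r * (x * y) * r⁻¹ by group, h]; group
  have key1 : ∀ {x : H}, x * x = 1 → r * x * r⁻¹ * (r * x * r⁻¹) = 1 := by
    intro x h
    rw [show r * x * r⁻¹ * (r * x * r⁻¹) = r * (x * x) * r⁻¹ by group, h]; group
  refine ⟨key1 D.q₁, key1 D.q₂, key1 D.q₃, key1 D.q₄, key1 D.qv, key1 D.qv', ?_, ?_, key D.c₁₃,
    key D.c₁₄, key D.c₂₃, key D.c₂₄⟩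
  · rw [← D.g]; group
  · rw [← D.h]; group

variable {G : Type*} [Group G]

/-- an active 2-component `J` -/
structure ActJ (a ρ s₁ s₂ s₃ s₄ v v' : G) (J : Subgroup G) : Prop where
  dih : Dih2 s₁ s₂ s₃ s₄ v v'
  n₁ : s₁ ∈ normalizer (J : Set G)
  n₂ : s₂ ∈ normalizer (J : Set G)
  n₃ : s₃ ∈ normalizer (J : Set G)
  n₄ : s₄ ∈ normalizer (J : Set G)
  m₁ : ρ * s₁ * ρ⁻¹ ∈ normalizer (J : Set G)
  m₂ : ρ * s₂ * ρ⁻¹ ∈ normalizer (J : Set G)
  m₃ : ρ * s₃ * ρ⁻¹ ∈ normalizer (J : Set G)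
  m₄ : ρ * s₄ * ρ⁻¹ ∈ normalizer (J : Set G)
  z : Fixes (v * v') J
  comm : ρ * (v * v') = v * v' * ρ
  hu : ρ * v * ρ⁻¹ = s₁ * s₂ * s₁ * s₄
  v_ne : ¬ Fixes v J
  v_ne' : ¬ Fixes (ρ * v * ρ⁻¹) J
  aa : a * a = 1
  na : a ∈ normalizer (J : Set G)
  a₁ : a * s₁ = s₁ * a
  a₂ : a * s₂ = s₂ * a
  a₃ : a * s₃ = s₃ * a
  a₄ : a * s₄ = s₄ * a
  aρ : a * ρ = ρ * a
  star : ∀ Z, IsComp (J ⊓ centralizer ({a} : Set G)) Z → Fixes v Z

section

variable {α : Type*} [Fintype α] [DecidableEq α] {J : Subgroup G} {S : Finset α}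
  {s₁ s₂ s₃ s₄ v v' : G}

/-- the labels on `J` of two commuting dihedral groups normalising `J`, `v v'` trivial on `J` -/
theorem Dih2.ext (D : Dih2 s₁ s₂ s₃ s₄ v v') (M : Mod J S) (n₁ : s₁ ∈ normalizer (J : Set G))
    (n₂ : s₂ ∈ normalizer (J : Set G)) (n₃ : s₃ ∈ normalizer (J : Set G))
    (n₄ : s₄ ∈ normalizer (J : Set G)) (z : Fixes (v * v') J) :
    Ext (M.φ s₁) (M.φ s₂) (M.φ s₃) (M.φ s₄) (M.φ v) := by
  have hv : v ∈ normalizer (J : Set G) := by
    rw [← D.g]; exact mul_mem (mul_mem n₁ n₂) (mul_mem n₁ n₂)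
  have hv' : v' ∈ normalizer (J : Set G) := by
    rw [← D.h]; exact mul_mem (mul_mem n₃ n₄) (mul_mem n₃ n₄)
  have e : M.φ v' = M.φ v := by
    have h1 := (M.fixes_iff z.1).mpr z
    rw [M.mul _ _ hv hv'] at h1
    have h2 := M.sq hv D.qv
    exact (mul_left_cancel (h2.trans h1.symm)).symm
  refine ⟨M.sq n₁ D.q₁, M.sq n₂ D.q₂, M.sq n₃ D.q₃, M.sq n₄ D.q₄, M.sq hv D.qv, ?_, ?_,
    M.comm n₁ n₃ D.c₁₃, M.comm n₁ n₄ D.c₁₄, M.comm n₂ n₃ D.c₂₃, M.comm n₂ n₄ D.c₂₄⟩
  · rw [← M.mul _ _ n₁ n₂, ← M.mul _ _ (mul_mem n₁ n₂) (mul_mem n₁ n₂), D.g]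
  · rw [← M.mul _ _ n₃ n₄, ← M.mul _ _ (mul_mem n₃ n₄) (mul_mem n₃ n₄), D.h, e]

theorem Mod.inv_of (M : Mod J S) (n₁ : s₁ ∈ normalizer (J : Set G))
    (n₂ : s₂ ∈ normalizer (J : Set G)) (n₃ : s₃ ∈ normalizer (J : Set G))
    (n₄ : s₄ ∈ normalizer (J : Set G)) :
    Ext.Inv (M.φ s₁) (M.φ s₂) (M.φ s₃) (M.φ s₄) S := fun _ hy =>
  ⟨mem_of_mem_sym (M.mem_sym _ n₁) hy, mem_of_mem_sym (M.mem_sym _ n₂) hy,
    mem_of_mem_sym (M.mem_sym _ n₃) hy, mem_of_mem_sym (M.mem_sym _ n₄) hy⟩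

/-- a nontrivial label moves a point -/
theorem Mod.exists_moved (M : Mod J S) {x : G} (hx : x ∈ normalizer (J : Set G)) (h : ¬ Fixes x J) :
    ∃ y ∈ S, M.φ x y ≠ y := by
  by_contra hcon
  push Not at hcon
  apply h
  rw [← M.fixes_iff hx]
  ext y
  by_cases hy : y ∈ S
  · exact hcon y hy
  · exact M.mem_sym x hx y hy

/-- **FACT X for `Sym(7)`** and (3.4), `m = 7` -/
theorem Dih2.eight_le (D : Dih2 s₁ s₂ s₃ s₄ v v') (M : Mod J S) (n₁ : s₁ ∈ normalizer (J : Set G))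
    (n₂ : s₂ ∈ normalizer (J : Set G)) (n₃ : s₃ ∈ normalizer (J : Set G))
    (n₄ : s₄ ∈ normalizer (J : Set G)) (z : Fixes (v * v') J) (hv : ¬ Fixes v J) : 8 ≤ S.card := by
  have hvN : v ∈ normalizer (J : Set G) := by
    rw [← D.g]; exact mul_mem (mul_mem n₁ n₂) (mul_mem n₁ n₂)
  obtain ⟨y, hy, hvy⟩ := Mod.exists_moved M hvN hv
  exact ((D.ext M n₁ n₂ n₃ n₄ z).eight_le (Mod.inv_of M n₁ n₂ n₃ n₄) hy hvy).trans
    (Finset.card_le_card (Finset.filter_subset _ _))

/-- **(3.4)**, type `A_m` -/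
theorem ActJ.not_alt [Finite G] {a ρ : G} (h : ActJ a ρ s₁ s₂ s₃ s₄ v v' J) (M : Mod J S)
    (h11 : S.card ≤ 11) : False := by
  have D := h.dih
  have hvN : v ∈ normalizer (J : Set G) := by
    rw [← D.g]; exact mul_mem (mul_mem h.n₁ h.n₂) (mul_mem h.n₁ h.n₂)
  have D' := D.conj ρ
  have hwN : ρ * v * ρ⁻¹ ∈ normalizer (J : Set G) := by
    rw [← D'.g]; exact mul_mem (mul_mem h.m₁ h.m₂) (mul_mem h.m₁ h.m₂)
  have hz' : Fixes (ρ * v * ρ⁻¹ * (ρ * v' * ρ⁻¹)) J := by
    have e : ρ * v * ρ⁻¹ * (ρ * v' * ρ⁻¹) = v * v' := by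
      rw [show ρ * v * ρ⁻¹ * (ρ * v' * ρ⁻¹) = ρ * (v * v') * ρ⁻¹ by group, h.comm]; group
    rw [e]; exact h.z
  have E := D.ext M h.n₁ h.n₂ h.n₃ h.n₄ h.z
  have E' := D'.ext M h.m₁ h.m₂ h.m₃ h.m₄ hz'
  obtain ⟨y, hy, hvy⟩ := Mod.exists_moved M hvN h.v_ne
  obtain ⟨y', hy', hvy'⟩ := Mod.exists_moved M hwN h.v_ne'
  have hu : M.φ (ρ * v * ρ⁻¹) = M.φ s₂ * M.φ s₄ * M.φ v := by
    rw [h.hu, M.mul _ _ (mul_mem (mul_mem h.n₁ h.n₂) h.n₁) h.n₄,
      M.mul _ _ (mul_mem h.n₁ h.n₂) h.n₁, M.mul _ _ h.n₁ h.n₂]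
    have h1 : M.φ s₁ * M.φ s₂ * M.φ s₁ = M.φ s₂ * M.φ v := by
      have h2 := E.g
      calc M.φ s₁ * M.φ s₂ * M.φ s₁ = (M.φ s₁ * M.φ s₂ * (M.φ s₁ * M.φ s₂)) * M.φ s₂ := by
            rw [← mul_assoc, mul_assoc _ (M.φ s₂) (M.φ s₂), E.q₂, mul_one]
        _ = M.φ v * M.φ s₂ := by rw [h2]
        _ = M.φ s₂ * M.φ v := E.c₂
    rw [h1, mul_assoc, E.c₄, mul_assoc]
  have hac : ∀ s : G, a * s = s * a → a * (ρ * s * ρ⁻¹) = ρ * s * ρ⁻¹ * a := by
    intro s hs
    have h1 : Commute a ρ := h.aρ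
    have h2 : Commute a s := hs
    exact ((h1.mul_right h2).mul_right h1.inv_right)
  obtain ⟨p1, -, p3⟩ := Ext.pair E E' (Mod.inv_of M h.n₁ h.n₂ h.n₃ h.n₄)
    (Mod.inv_of M h.m₁ h.m₂ h.m₃ h.m₄) h11 (Or.inr hu) ⟨y, hy, hvy⟩ ⟨y', hy', hvy'⟩ (a := M.φ a)
    (fun y hy => mem_of_mem_sym (M.mem_sym _ h.na) hy) (M.sq h.na h.aa) (M.comm h.na h.n₁ h.a₁)
    (M.comm h.na h.n₂ h.a₂) (M.comm h.na h.n₃ h.a₃) (M.comm h.na h.n₄ h.a₄)
    (M.comm h.na h.m₁ (hac _ h.a₁)) (M.comm h.na h.m₂ (hac _ h.a₂)) (M.comm h.na h.m₃ (hac _ h.a₃))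
    (M.comm h.na h.m₄ (hac _ h.a₄))
  -- `a` fixes the eight points moved by `v`, so it has at least eight fixed points
  have hsub : Ext.mv (M.φ v) S ⊆ fixIn S (M.φ a) := by
    intro t ht
    exact mem_fixIn.mpr ⟨(Ext.mem_mv.mp ht).1, p3 t ht⟩
  have h8 := Finset.card_le_card hsub
  have hZ := M.isComp_cmp h.na h.aa (by omega)
  have hf := h.star _ hZ
  exact hvy (M.apply_of_fixes_cmp h.na h.aa (by omega) hvN hf (hsub (Ext.mem_mv.mpr ⟨hy, hvy⟩)))

/-- FACT X for `L₂(q)`: `D8 ∘ D8` does not act faithfully on `L₂(q)`, `q` odd -/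
def FactX (G : Type*) [Group G] : Prop :=
  ∀ {J : Subgroup G} {s₁ s₂ s₃ s₄ v v' : G}, Dih2 s₁ s₂ s₃ s₄ v v' → s₁ ∈ normalizer (J : Set G) →
    s₂ ∈ normalizer (J : Set G) → s₃ ∈ normalizer (J : Set G) → s₄ ∈ normalizer (J : Set G) →
      Fixes (v * v') J → ¬ Fixes v J → UGT.Iface.IsL2 (↥J ⧸ oddCore ↥J) → False

/-- **(3.4)**: an active 2-component is not unbalanced -/
theorem ActJ.not_triple [Finite G] (H : Hyp11 G) (X : FactX G) {a ρ e f : G}
    (h : ActJ a ρ s₁ s₂ s₃ s₄ v v' J) (T : IsTriple e f J)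
    (h34 : ¬ UGT.Iface.IsL34 (↥J ⧸ oddCore ↥J)) : False := by
  rcases H.types T with ⟨m, -, h7, h11, hA⟩ | hL | hL
  · obtain ⟨M⟩ := hA.mod_of_card (α := Fin m) (S := Finset.univ) (by simp) h7
    exact h.not_alt M (by simpa using h11)
  · exact X h.dih h.n₁ h.n₂ h.n₃ h.n₄ h.z h.v_ne hL
  · exact h34 hL

end

end Cfsg.Agent.UAlt.Eleven
end

-- part: UAlt/Eleven/FactXL2
section
set_option linter.all false
open scoped Cfsg.Agent.FastGrp

/-!
# FACT X for `PSL(2,q)`

`D8 ∘ D8` does not act faithfully on `PSL(2,q)`, `q` odd: `2^{1+4}_+` has no cyclic quotient of order at least 4 and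
no dihedral subgroup of index 2.
-/

set_option autoImplicit false
set_option linter.unusedSectionVars false

open Cfsg Equiv Equiv.Perm Subgroup
open Cfsg.Agent.Intrinsic.Basic
open Cfsg.Agent.SignalizersComponents Cfsg.Agent.Lib
open Cfsg.Agent.SignalizersComponents.IntrinsicBasic
open Cfsg.Agent.McLLyComp.Act
open Cfsg.Agent.GH.L2Aut
open Cfsg.Agent.UAlt.Eleven.ExtraPerm
open scoped commutatorElement

namespace Cfsg.Agent.UAlt.Eleven.FactXL2

section rep

variable {F : Type*} [Field F] [Finite F] {L : Type*} [Group L] (R : Cfsg.Agent.GH.L2Aut.Rep F L)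

include R in
/-- `2^{1+4}_+` does not embed in `Aut(PSL(2,F))` -/
theorem false_of_ex {p r p' r' c : MulAut L} (h : Ex p r p' r' c) : False := by
  have hfin : Finite L := R.finite
  have hfin2 : Finite (MulAut L) :=
    Finite.of_injective (fun e : MulAut L => (e : L → L)) DFunLike.coe_injective
  have hcyc0 : IsCyclic (F ≃+* F) := Cfsg.Agent.LieRecognition.FieldSemilinear.isCyclic_ringAut F
  have hcyc1 : IsCyclic R.fld.range := inferInstance
  have hcyc : IsCyclic (MulAut L ⧸ R.PGL) := by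
    have e : (MulAut L ⧸ R.PGL) ≃* R.fld.range := QuotientGroup.quotientKerEquivRange R.fld
    exact isCyclic_of_surjective e.symm.toMonoidHom e.symm.surjective
  refine h.false_of_cyclic_quot R.PGL ?_
  intro T hT hT2
  rcases R.pgl_two_group T hT2 hT with ⟨d, hd, hcov⟩ | ⟨d, t, hD⟩
  · refine ⟨d, hd, ?_⟩
    have h1 : Nat.card T ≤ Nat.card (zpowers d) := Subgroup.card_le_of_le (fun x hx => hcov x hx)
    rw [Nat.card_zpowers] at h1
    omega
  · refine ⟨d, hD.d_mem, ?_⟩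
    have h1 : (T : Set (MulAut L)) ⊆ (zpowers d : Set (MulAut L)) ∪ (fun x => x * t) '' (zpowers d : Set (MulAut L)) := by
      intro x hx
      rcases hD.cov x hx with h2 | ⟨k, h2⟩
      · exact Or.inl h2
      · exact Or.inr ⟨d ^ k, ⟨k, rfl⟩, h2.symm⟩
    have h2 := Set.ncard_le_ncard h1 (Set.toFinite _)
    have h3 := Set.ncard_union_le (zpowers d : Set (MulAut L)) ((fun x => x * t) '' (zpowers d : Set (MulAut L)))
    have h4 : ((fun x => x * t) '' (zpowers d : Set (MulAut L))).ncard ≤ (zpowers d : Set (MulAut L)).ncard :=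
      Set.ncard_image_le (Set.toFinite _)
    have h5 : (zpowers d : Set (MulAut L)).ncard = orderOf d := by
      rw [← Nat.card_zpowers]; rfl
    have h6 : (T : Set (MulAut L)).ncard = Nat.card T := rfl
    omega

end rep

/-- **FACT X**, type `PSL(2,q)` -/
theorem factX (G : Type*) [Group G] : FactX G := by
  intro J s₁ s₂ s₃ s₄ v v' D n₁ n₂ n₃ n₄ z hv hL
  obtain ⟨F, hF, hF2, hodd, h5, ⟨e⟩⟩ := hL
  have R : Cfsg.Agent.GH.L2Aut.Rep F (↥J ⧸ oddCore ↥J) := Rep.ofEquiv (two_ne_zero_of_odd hodd) e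
  have hvN : v ∈ normalizer (J : Set G) := by
    rw [← D.g]; exact mul_mem (mul_mem n₁ n₂) (mul_mem n₁ n₂)
  have hvN' : v' ∈ normalizer (J : Set G) := by
    rw [← D.h]; exact mul_mem (mul_mem n₃ n₄) (mul_mem n₃ n₄)
  have hsq : ∀ {s : G} (hs : s ∈ normalizer (J : Set G)), s * s = 1 →
      act J ⟨s, hs⟩ * act J ⟨s, hs⟩ = 1 := by
    intro s hs h
    rw [← act_mul, act_congr (mul_mem hs hs) h]
    exact map_one _
  have hcm : ∀ {s t : G} (hs : s ∈ normalizer (J : Set G)) (ht : t ∈ normalizer (J : Set G)), s * t = t * s →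
      act J ⟨s, hs⟩ * act J ⟨t, ht⟩ = act J ⟨t, ht⟩ * act J ⟨s, hs⟩ := by
    intro s t hs ht h
    rw [← act_mul, ← act_mul, act_congr (mul_mem hs ht) h]
  have hvv' : act J ⟨v', hvN'⟩ = act J ⟨v, hvN⟩ := by
    have h1 := (act_eq_one_iff z.1).mpr z
    have h3 : act J ⟨v, hvN⟩ * act J ⟨v', hvN'⟩ = 1 := by
      rw [← act_mul]; exact h1
    exact (mul_left_cancel ((hsq hvN D.qv).trans h3.symm)).symm
  apply false_of_ex R (p := act J ⟨s₁, n₁⟩) (r := act J ⟨s₂, n₂⟩) (p' := act J ⟨s₃, n₃⟩)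
    (r' := act J ⟨s₄, n₄⟩) (c := act J ⟨v, hvN⟩)
  refine ⟨hsq n₁ D.q₁, hsq n₂ D.q₂, hsq n₃ D.q₃, hsq n₄ D.q₄, hsq hvN D.qv, ?_, ?_, hcm n₁ n₃ D.c₁₃,
    hcm n₁ n₄ D.c₁₄, hcm n₂ n₃ D.c₂₃, hcm n₂ n₄ D.c₂₄, ?_⟩
  · rw [← act_mul, ← act_mul]
    exact act_congr _ D.g
  · rw [← act_mul, ← act_mul, ← hvv']
    exact act_congr _ D.h
  · intro h
    exact hv ((act_eq_one_iff hvN).mp h)

end Cfsg.Agent.UAlt.Eleven.FactXL2
end

-- part: UGT/L2i/ClsCov
section
prune_inst 0x1010010054221000000000002000000030000002004000000040000000080000a044000100200010000088102000002001cc00000000000000000800000400000000020010400000000000000002080c00000000000000000000000000000000000000000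
set_option linter.all false
open scoped Cfsg.Agent.FastGrp

/-!
# 2-components covering a perfect subgroup (toolkit for the classes of `N₀`)

`KN N`: the elements acting trivially on `N / O(N)`.  Consequences of `At y L N`: `C(y) ∩ N(N) ≤ N(L)`, an element
of `C(y) ∩ N(N)` is trivial on `N / O(N)` iff it is trivial on `L / O(L)`, ...
-/

set_option autoImplicit false

open Cfsg Subgroup
open Cfsg.Agent.SignalizersComponents Cfsg.Agent.Lib
open Cfsg.Agent.SignalizersComponents.IntrinsicBasic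
open Cfsg.Agent.SignalizersComponents.IntrinsicIntr
open Cfsg.Agent.SignalizersComponents.PLayerAut
open Cfsg.Agent.Intrinsic.Basic Cfsg.Agent.Intrinsic.Cen Cfsg.Agent.Intrinsic.Diag
open Cfsg.Agent.McLLyComp.Act
open Cfsg.Agent.UGT.TMCBase
open scoped commutatorElement

namespace Cfsg.Agent.UGT.L2i.ClsCov

section defs

variable {G : Type*} [Group G]

/-- The elements acting trivially on `N / O(N)`. -/
def KN (N : Subgroup G) : Subgroup G where
  carrier := {g | Fixes g N}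
  one_mem' := fixes_one N
  mul_mem' := fun h1 h2 => fixes_mul h1 h2
  inv_mem' := fun h => fixes_inv h

theorem mem_KN {N : Subgroup G} {g : G} : g ∈ KN N ↔ Fixes g N := Iff.rfl

theorem KN_le (N : Subgroup G) : KN N ≤ normalizer (N : Set G) := fun _ h => h.1

theorem cj_KN (g : G) (N : Subgroup G) : cj g (KN N) = KN (cj g N) := by
  ext x
  rw [mem_cj, mem_KN, mem_KN]
  constructor
  · intro h
    have h1 := h.cj g
    rwa [show g * (g⁻¹ * x * g) * g⁻¹ = x by group] at h1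
  · intro h
    have h1 := h.cj g⁻¹
    rwa [cj_inv_cj, inv_inv] at h1

end defs

section cover

variable {G : Type*} [Group G] [Finite G]

/-- a subgroup of odd order of `X` normalised by a covering subgroup lies in the core -/
theorem le_core_of_cover {J X P : Subgroup G} (hs : J ⊔ core X = X) (hP : P ≤ X)
    (hJP : J ≤ normalizer (P : Set G)) (hodd : Odd (Nat.card P)) : P ≤ core X := by
  obtain ⟨W, hW⟩ : ∃ W, W = core X ⊔ P := ⟨_, rfl⟩
  have hJ : J ≤ X := by rw [← hs]; exact le_sup_left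
  have h1 : P ≤ normalizer (core X : Set G) := hP.trans (le_normalizer_core X)
  have hoddW : Odd (Nat.card W) := by
    have h2 := CoprimeBasic.card_sup_dvd (X := core X) (Y := P) h1
    rw [hW]
    exact Odd.of_dvd_nat ((odd_card_core X).mul hodd) h2
  have hnJ : J ≤ normalizer (W : Set G) := by
    intro j hj
    have e1 : j ∈ normalizer (P : Set G) := hJP hj
    have e2 : j ∈ normalizer (core X : Set G) := le_normalizer_core X (hJ hj)
    rw [mem_normalizer_iff_cj] at e1 e2 ⊢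
    rw [hW, cj_def, Subgroup.map_sup, ← cj_def, ← cj_def, e1, e2]
  have hnorm : X ≤ normalizer (W : Set G) := by
    have h4 : J ⊔ core X ≤ normalizer (W : Set G) := by
      refine sup_le hnJ ?_
      have h5 : core X ≤ W := hW ▸ le_sup_left
      exact h5.trans le_normalizer
    rwa [hs] at h4
  have hWX : W ≤ X := hW ▸ sup_le (core_le X) hP
  exact (hW ▸ le_sup_right : P ≤ W).trans (le_core hWX hnorm hoddW)

/-- covering is transitive -/
theorem sup_trans {M J X : Subgroup G} (h1 : M ⊔ core J = J) (h2 : J ⊔ core X = X) :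
    M ⊔ core X = X := by
  refine le_antisymm (sup_le ?_ (core_le X)) ?_
  · have h3 : M ≤ J := by rw [← h1]; exact le_sup_left
    exact h3.trans (by rw [← h2]; exact le_sup_left)
  · have h3 : J ≤ M ⊔ core X := by
      conv_lhs => rw [← h1]
      exact sup_le le_sup_left ((core_le_of_sup h2).trans le_sup_right)
    conv_lhs => rw [← h2]
    exact sup_le h3 le_sup_right

omit [Finite G] in
theorem sup_of_le {M J X : Subgroup G} (h1 : M ⊔ core X = X) (h2 : M ≤ J) (h3 : J ≤ X) :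
    J ⊔ core X = X := by
  refine le_antisymm (sup_le h3 (core_le X)) ?_
  conv_lhs => rw [← h1]
  exact sup_le_sup_right h2 _

omit [Finite G] in
/-- `x` normalises `X` and commutes with a covering subgroup modulo `O(X)` -/
theorem fixes_of_cover {J X : Subgroup G} (hs : J ⊔ core X = X) {x : G}
    (hx : x ∈ normalizer (X : Set G)) (h : ∀ j ∈ J, ⁅x, j⁆ ∈ core X) : Fixes x X := by
  have hJ : J ≤ X := by rw [← hs]; exact le_sup_left
  rw [fixes_iff_conj]
  refine ⟨hx, fun y hy => ?_⟩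
  obtain ⟨j, hj, hc⟩ := exists_mul_of_sup hs hy
  obtain ⟨c, hc'⟩ : ∃ c, c = j⁻¹ * y := ⟨_, rfl⟩
  rw [← hc'] at hc
  have hy' : y = j * c := by rw [hc']; group
  have h1 : j⁻¹ * (x * j * x⁻¹) ∈ core X := by
    have h2 := conj_mem_core (le_normalizer (X.inv_mem (hJ hj))) (h j hj)
    have h3 : j⁻¹ * ⁅x, j⁆ * j⁻¹⁻¹ = j⁻¹ * (x * j * x⁻¹) := by rw [commutatorElement_def]; group
    rwa [h3] at h2
  have h2 : x * c * x⁻¹ ∈ core X := conj_mem_core hx hc
  have h3 : y⁻¹ * (x * y * x⁻¹) = c⁻¹ * (j⁻¹ * (x * j * x⁻¹)) * (x * c * x⁻¹) := by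
    rw [hy']; group
  rw [h3]
  exact mul_mem (mul_mem (inv_mem hc) h1) h2

/-- a covering subgroup generated by 2-elements is a 2-component of itself -/
theorem isComp_of_cover {J X : Subgroup G} (hX : IsComp X X) (hs : J ⊔ core X = X)
    (hp : PComponents.pElem 2 J = J) : IsComp J J := by
  rw [isComp_iff] at hX ⊢
  refine ⟨le_rfl, ?_, ?_, hp⟩
  · rw [subgroupOf_self]; exact Subgroup.IsSubnormal.top
  · obtain ⟨e, -⟩ := exists_quotEquiv hs
    exact isQuasisimple_of_equiv e.symm hX.2.2.1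

theorem sup_pElem {J X : Subgroup G} (hX : IsComp X X) (hs : J ⊔ core X = X) :
    PComponents.pElem 2 J ⊔ core X = X := by
  have hJ : J ≤ X := by rw [← hs]; exact le_sup_left
  refine le_antisymm (sup_le ((PComponents.pElem_le _).trans hJ) (core_le X)) ?_
  refine hX.le_of_two fun k hk n hn => ?_
  -- `k = j c`
  obtain ⟨j, hj, hc⟩ := exists_mul_of_sup hs hk
  have h1 : j ^ 2 ^ n ∈ core X := by
    have h2 : (⟨j, hJ hj⟩ : ↥X) ^ 2 ^ n ∈ oddCore ↥X := by
      have h3 : ((⟨j, hJ hj⟩ : ↥X) : ↥X ⧸ oddCore ↥X) = ((⟨k, hk⟩ : ↥X) : ↥X ⧸ oddCore ↥X) :=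
        QuotientGroup.eq.mpr ((mem_core_iff _).mp hc)
      rw [← QuotientGroup.eq_one_iff, QuotientGroup.mk_pow, h3, ← QuotientGroup.mk_pow]
      have h4 : (⟨k, hk⟩ : ↥X) ^ 2 ^ n = 1 := Subtype.ext (by simpa using hn)
      rw [h4, QuotientGroup.mk_one]
    exact (mem_core_iff (pow_mem (hJ hj) _)).mpr h2
  obtain ⟨m, hm1, hm2⟩ := Cfsg.Agent.Intrinsic.Lifting.exists_two_part (odd_card_core X) h1
  have h5 : j ^ m ∈ PComponents.pElem 2 J := PComponents.mem_pElem (pow_mem hj _) hm1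
  have h6 : k = j ^ m * ((j ^ m)⁻¹ * j * (j⁻¹ * k)) := by group
  rw [h6]
  refine mul_mem (mem_sup_left h5) (mem_sup_right (mul_mem ?_ hc))
  have h7 : (j ^ m)⁻¹ * j = (j⁻¹ * j ^ m)⁻¹ := by group
  rw [h7]
  exact inv_mem hm2

/-! ### odd subgroups -/

omit [Finite G] in
theorem comm_mod_core {N : Subgroup G} {x y s t : G} (hx : x ∈ N) (hy : y ∈ N) (hs : s ∈ N) (ht : t ∈ N)
    (h1 : s⁻¹ * x ∈ core N) (h2 : t⁻¹ * y ∈ core N) : ⁅s, t⁆⁻¹ * ⁅x, y⁆ ∈ core N := by
  have e1 : ((⟨s, hs⟩ : ↥N) : ↥N ⧸ oddCore ↥N) = ((⟨x, hx⟩ : ↥N) : ↥N ⧸ oddCore ↥N) :=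
    QuotientGroup.eq.mpr ((mem_core_iff _).mp h1)
  have e2 : ((⟨t, ht⟩ : ↥N) : ↥N ⧸ oddCore ↥N) = ((⟨y, hy⟩ : ↥N) : ↥N ⧸ oddCore ↥N) :=
    QuotientGroup.eq.mpr ((mem_core_iff _).mp h2)
  have e3 : ((⁅(⟨s, hs⟩ : ↥N), ⟨t, ht⟩⁆ : ↥N) : ↥N ⧸ oddCore ↥N) =
      ((⁅(⟨x, hx⟩ : ↥N), ⟨y, hy⟩⁆ : ↥N) : ↥N ⧸ oddCore ↥N) := by
    have h3 := map_commutatorElement (QuotientGroup.mk' (oddCore ↥N)) (⟨s, hs⟩ : ↥N) ⟨t, ht⟩
    have h4 := map_commutatorElement (QuotientGroup.mk' (oddCore ↥N)) (⟨x, hx⟩ : ↥N) ⟨y, hy⟩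
    simp only [QuotientGroup.mk'_apply] at h3 h4
    rw [h3, h4, e1, e2]
  have h5 := QuotientGroup.eq.mp e3
  have h6 : ⁅s, t⁆⁻¹ * ⁅x, y⁆ ∈ N := by
    rw [commutatorElement_def, commutatorElement_def]
    exact mul_mem (inv_mem (mul_mem (mul_mem (mul_mem hs ht) (inv_mem hs)) (inv_mem ht)))
      (mul_mem (mul_mem (mul_mem hx hy) (inv_mem hx)) (inv_mem hy))
  exact (mem_core_iff h6).mpr h5

/-- two covering subgroups do not commute modulo a group of odd order -/
theorem false_of_cover_odd {N S T D : Subgroup G} (hN : IsComp N N) (hS : S ⊔ core N = N)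
    (hT : T ⊔ core N = N) (hD : Odd (Nat.card D)) (h : ∀ s ∈ S, ∀ t ∈ T, ⁅s, t⁆ ∈ D) : False := by
  have hSN : S ≤ N := by rw [← hS]; exact le_sup_left
  have hTN : T ≤ N := by rw [← hT]; exact le_sup_left
  obtain ⟨B, hB⟩ : ∃ B, B = ⁅S, T⁆ := ⟨_, rfl⟩
  have hBD : B ≤ D := by rw [hB, Subgroup.commutator_le]; exact fun s hs t ht => h s hs t ht
  have hBN : B ≤ N := by
    rw [hB]; exact (Subgroup.commutator_mono hSN hTN).trans hN.perfect.le
  have hle : N ≤ core N ⊔ B := by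
    conv_lhs => rw [← hN.perfect]
    rw [Subgroup.commutator_le]
    intro x hx y hy
    obtain ⟨s, hs, hcs⟩ := exists_mul_of_sup hS hx
    obtain ⟨t, ht, hct⟩ := exists_mul_of_sup hT hy
    have key := comm_mod_core hx hy (hSN hs) (hTN ht) hcs hct
    have e : ⁅x, y⁆ = ⁅s, t⁆ * (⁅s, t⁆⁻¹ * ⁅x, y⁆) := by group
    rw [e]
    exact mul_mem (mem_sup_right (hB ▸ Subgroup.commutator_mem_commutator hs ht)) (mem_sup_left key)
  have h1 : Odd (Nat.card ↥(core N ⊔ B)) := by
    have h2 := CoprimeBasic.card_sup_dvd (X := core N) (Y := B) (hBN.trans (le_normalizer_core N))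
    exact Odd.of_dvd_nat ((odd_card_core N).mul (Odd.of_dvd_nat hD (card_dvd_of_le hBD))) h2
  exact hN.not_odd h1 hle

omit [Finite G] in
theorem pow_mul_mem {A : Subgroup G} {j c : G} (hj : j ∈ A) (hc : c ∈ normalizer (A : Set G)) (k : ℕ) :
    ∃ a ∈ A, (j * c) ^ k = a * c ^ k := by
  induction k with
  | zero => exact ⟨1, one_mem _, by simp⟩
  | succ k ih =>
    obtain ⟨a, ha, h⟩ := ih
    refine ⟨a * (c ^ k * j * (c ^ k)⁻¹), A.mul_mem ha ?_, ?_⟩
    · have h1 : c ^ k ∈ normalizer (A : Set G) := pow_mem hc k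
      exact (Subgroup.mem_normalizer_iff.mp h1 j).mp hj
    · rw [pow_succ, h]; group

omit [Finite G] in
/-- `p = j c` a 2-element, `j ∈ A`, `c` of odd order normalises `A`: `p ∈ A` -/
theorem mem_of_mul_odd {A : Subgroup G} {j c : G} (hj : j ∈ A) (hc : c ∈ normalizer (A : Set G))
    (hodd : Odd (orderOf c)) {n : ℕ} (hp : (j * c) ^ 2 ^ n = 1) : j * c ∈ A := by
  obtain ⟨a, ha, h⟩ := pow_mul_mem hj hc (orderOf c)
  rw [pow_orderOf_eq_one, mul_one] at h
  have h1 : (orderOf c).Coprime (orderOf (j * c)) := by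
    have h2 : orderOf (j * c) ∣ 2 ^ n := orderOf_dvd_of_pow_eq_one hp
    refine Nat.Coprime.coprime_dvd_right h2 ?_
    exact Nat.Coprime.pow_right n (Nat.Coprime.symm (Nat.coprime_two_left.mpr hodd))
  obtain ⟨m, hm⟩ := exists_pow_eq_self_of_coprime h1
  rw [← hm, h]
  exact pow_mem ha m

/-- an odd subgroup normalised by a covering subgroup acts trivially -/
theorem le_KN_of_odd {H L M X : Subgroup G} (hL : IsComp H L) (hM : IsComp M M) (hs : M ⊔ core L = L)
    (hX : X ≤ H) (hodd : Odd (Nat.card X)) (hn : M ≤ normalizer (X : Set G)) : X ≤ KN L := by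
  have hML : M ≤ L := by rw [← hs]; exact le_sup_left
  intro x hx
  have hxL : x ∈ normalizer (L : Set G) := by
    rw [mem_normalizer_iff_cj]
    by_contra hne
    have hL' : IsComp H (cj x L) := isComp_cj_of_mem hL (hX hx)
    have hcomm := hL.comm_le_core hL' (Ne.symm hne)
    have hML' : M ≤ cj x L := by
      refine hM.le_of_two fun m hm n hmn => ?_
      obtain ⟨m', hm'⟩ : ∃ m', m' = x * m * x⁻¹ := ⟨_, rfl⟩
      have hm'L : m' ∈ cj x L := hm' ▸ conj_mem_cj (hML hm)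
      have hmH : m ∈ H := hL.le (hML hm)
      have hm'H : m' ∈ H := hL'.le hm'L
      have hmn' : m' ^ 2 ^ n = 1 := by rw [hm', conj_pow, hmn]; group
      have hcX : m * m'⁻¹ ∈ X := by
        have h1 : m * x * m⁻¹ ∈ X := (Subgroup.mem_normalizer_iff.mp (hn hm) x).mp hx
        have h2 : m * m'⁻¹ = m * x * m⁻¹ * x⁻¹ := by rw [hm']; group
        rw [h2]; exact X.mul_mem h1 (X.inv_mem hx)
      have hc2 : (m * m'⁻¹) ^ 2 ^ n ∈ core H := by
        have h1 : ⁅m, m'⁆ ∈ core H := hL.core_le_core (hcomm (Subgroup.commutator_mem_commutator (hML hm) hm'L)).1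
        obtain ⟨a, ha⟩ : ∃ a : ↥H ⧸ oddCore ↥H, a = ((⟨m, hmH⟩ : ↥H) : ↥H ⧸ oddCore ↥H) := ⟨_, rfl⟩
        obtain ⟨b, hb⟩ : ∃ b : ↥H ⧸ oddCore ↥H, b = ((⟨m', hm'H⟩ : ↥H) : ↥H ⧸ oddCore ↥H) := ⟨_, rfl⟩
        have hab : Commute a b := by
          rw [commutator_mem_core_iff hmH hm'H] at h1
          rw [ha, hb]; exact h1
        have ha' : a ^ 2 ^ n = 1 := by
          rw [ha, ← QuotientGroup.mk_pow]
          have h4 : (⟨m, hmH⟩ : ↥H) ^ 2 ^ n = 1 := Subtype.ext (by simpa using hmn)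
          rw [h4, QuotientGroup.mk_one]
        have hb' : b ^ 2 ^ n = 1 := by
          rw [hb, ← QuotientGroup.mk_pow]
          have h4 : (⟨m', hm'H⟩ : ↥H) ^ 2 ^ n = 1 := Subtype.ext (by simpa using hmn')
          rw [h4, QuotientGroup.mk_one]
        have h5 : (a * b⁻¹) ^ 2 ^ n = 1 := by
          rw [(hab.inv_right).mul_pow, ha', inv_pow, hb', inv_one, mul_one]
        have hcH : m * m'⁻¹ ∈ H := H.mul_mem hmH (H.inv_mem hm'H)
        refine (mem_core_iff (pow_mem hcH _)).mpr ?_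
        rw [← QuotientGroup.eq_one_iff]
        have h6 : ((⟨(m * m'⁻¹) ^ 2 ^ n, pow_mem hcH _⟩ : ↥H) : ↥H ⧸ oddCore ↥H) = (a * b⁻¹) ^ 2 ^ n := by
          rw [ha, hb, ← QuotientGroup.mk_inv, ← QuotientGroup.mk_mul, ← QuotientGroup.mk_pow]
          rfl
        rw [h6, h5]
      have hc : m * m'⁻¹ ∈ core H := by
        have h1 : (2 ^ n).Coprime (orderOf (m * m'⁻¹)) := by
          refine Nat.Coprime.pow_left n (Nat.coprime_two_left.mpr ?_)
          exact hodd.of_dvd_nat (Subgroup.orderOf_dvd_natCard X hcX)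
        obtain ⟨k, hk⟩ := exists_pow_eq_self_of_coprime h1
        rw [← hk]
        exact pow_mem hc2 k
      refine hL'.mem_of_two (k := m') hm'L ?_ hmn
      have h1 : m'⁻¹ * m = m'⁻¹ * (m * m'⁻¹) * m'⁻¹⁻¹ := by group
      rw [h1]
      exact conj_mem_core (le_normalizer (H.inv_mem hm'H)) hc
    exact hne (hM.unique hL' hL hML' hML)
  refine fixes_of_cover hs hxL fun m hm => ?_
  have hP : X ⊓ L ≤ core L := by
    refine le_core_of_cover hs inf_le_right ?_ (Odd.of_dvd_nat hodd (card_dvd_of_le inf_le_left))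
    intro j hj
    have e1 : j ∈ normalizer (X : Set G) := hn hj
    have e2 : j ∈ normalizer (L : Set G) := le_normalizer (hML hj)
    rw [mem_normalizer_iff_cj] at e1 e2 ⊢
    rw [cj_inf, e1, e2]
  refine hP ⟨?_, ?_⟩
  · have h1 : m * x⁻¹ * m⁻¹ ∈ X := (Subgroup.mem_normalizer_iff.mp (hn hm) _).mp (X.inv_mem hx)
    have h2 : ⁅x, m⁆ = x * (m * x⁻¹ * m⁻¹) := by rw [commutatorElement_def]; group
    rw [h2]; exact X.mul_mem hx h1
  · have h1 : x * m * x⁻¹ ∈ L := (Subgroup.mem_normalizer_iff.mp hxL _).mp (hML hm)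
    rw [commutatorElement_def]
    exact L.mul_mem h1 (L.inv_mem (hML hm))

/-- a covering subgroup of `N` in a covering subgroup `J` of `N` covers `J` -/
theorem cover_descend {P J N : Subgroup G} (hP : P ⊔ core N = N) (hPJ : P ≤ J) (hJ : J ⊔ core N = N) :
    P ⊔ core J = J := by
  have hJN : J ≤ N := by rw [← hJ]; exact le_sup_left
  refine sup_of_exists hPJ fun x hx => ?_
  obtain ⟨p, hp, hc⟩ := exists_mul_of_sup hP (hJN hx)
  refine ⟨p, hp, ?_⟩
  rw [core_of_sup hJ]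
  exact ⟨J.mul_mem (J.inv_mem (hPJ hp)) hx, hc⟩

end cover

/-! ### the canonical cover -/

section at'

variable {G : Type*} [Group G]

/-- `O^{2'}(N ∩ L)` -/
def cov (N L : Subgroup G) : Subgroup G := PComponents.pElem 2 (N ⊓ L)

theorem cov_le_left (N L : Subgroup G) : cov N L ≤ N := (PComponents.pElem_le _).trans inf_le_left

theorem cov_le_right (N L : Subgroup G) : cov N L ≤ L := (PComponents.pElem_le _).trans inf_le_right

theorem mem_normalizer_cov {N L : Subgroup G} {a : G} (h1 : a ∈ normalizer (N : Set G))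
    (h2 : a ∈ normalizer (L : Set G)) : a ∈ normalizer (cov N L : Set G) := by
  apply PComponents.normalizer_le_normalizer_pElem
  rw [mem_normalizer_iff_cj] at h1 h2 ⊢
  rw [cj_inf, h1, h2]

theorem pElem_pElem (J : Subgroup G) :
    PComponents.pElem 2 (PComponents.pElem 2 J) = PComponents.pElem 2 J := by
  refine le_antisymm (PComponents.pElem_le _) ?_
  refine (Subgroup.closure_le _).mpr ?_
  rintro y ⟨hy, n, hn⟩
  exact PComponents.mem_pElem (PComponents.mem_pElem hy hn) hn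

variable [Finite G]

theorem At.cov_spec {y : G} {L N : Subgroup G} (hN : IsComp N N) (h : At y L N) :
    IsComp (cov N L) (cov N L) ∧ cov N L ⊔ core N = N ∧ cov N L ⊔ core L = L := by
  obtain ⟨M, h1, h2, h3, h4, h5⟩ := h.ex
  have h6 : M ≤ cov N L := by
    rw [← h3.pElem_eq]
    exact PComponents.pElem_mono (le_inf h1 h2)
  have h7 := sup_of_le h4 h6 (cov_le_left N L)
  exact ⟨isComp_of_cover hN h7 (pElem_pElem _), h7, sup_of_le h5 h6 (cov_le_right N L)⟩

/-- an element of `C(y)` normalising `N` normalises `L` -/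
theorem At.norm {y : G} {L N : Subgroup G} (hN : IsComp N N) (h : At y L N) {w : G}
    (hwy : w * y = y * w) (hw : w ∈ normalizer (N : Set G)) : w ∈ normalizer (L : Set G) := by
  obtain ⟨M, h1, h2, h3, h4, h5⟩ := h.ex
  rw [mem_normalizer_iff_cj]
  by_contra hne
  have hL := h.comp
  have hL' := isComp_cj_of_mem hL (mem_c hwy)
  have hcomm := hL.comm_le_core hL' (Ne.symm hne)
  have h6 : cj w M ⊔ core N = N := by
    have h7 := congrArg (cj w) h4
    rw [cj_def, Subgroup.map_sup, ← cj_def, ← cj_def, ← core_cj,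
      mem_normalizer_iff_cj.mp hw] at h7
    exact h7
  refine false_of_cover_odd hN h4 h6 (odd_card_core L) fun s hs t ht => ?_
  have h8 : t ∈ cj w L := by
    rw [mem_cj] at ht ⊢
    exact h2 ht
  exact (hcomm (Subgroup.commutator_mem_commutator (h2 hs) h8)).1

/-- trivial on `N / O(N)` iff trivial on `L / O(L)` -/
theorem At.fixes_iff {y : G} {L N : Subgroup G} (hN : IsComp N N) (h : At y L N) {w : G}
    (hwN : w ∈ normalizer (N : Set G)) (hwL : w ∈ normalizer (L : Set G)) : Fixes w N ↔ Fixes w L := by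
  obtain ⟨-, h1, h2⟩ := At.cov_spec hN h
  have h3 := mem_normalizer_cov hwN hwL
  exact (fixes_iff_of_sup h1 h3 hwN).symm.trans (fixes_iff_of_sup h2 h3 hwL)

/-- a subgroup of `C_N(v)` generated by 2-elements lies in `L` -/
theorem At.le_of_pElem {v : G} {L N : Subgroup G} (hN : IsComp N N) (h : At v L N) {P : Subgroup G}
    (hP : P ≤ N) (hPv : P ≤ centralizer ({v} : Set G)) (h2 : PComponents.pElem 2 P = P) : P ≤ L := by
  obtain ⟨hc, h3, h4⟩ := At.cov_spec hN h
  have hL := h.comp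
  obtain ⟨D, hD⟩ : ∃ D, D = core N ⊓ centralizer ({v} : Set G) := ⟨_, rfl⟩
  have hDodd : Odd (Nat.card D) := Odd.of_dvd_nat (odd_card_core N) (card_dvd_of_le (hD ▸ inf_le_left))
  have hDK : D ≤ KN L := by
    refine le_KN_of_odd hL hc h4 (hD ▸ inf_le_right) hDodd ?_
    intro j hj
    have e1 : j ∈ normalizer (core N : Set G) := le_normalizer_core N (cov_le_left N L hj)
    have e2 : j ∈ normalizer (centralizer ({v} : Set G) : Set G) :=
      le_normalizer (hL.le (cov_le_right N L hj))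
    rw [mem_normalizer_iff_cj] at e1 e2 ⊢
    rw [hD, cj_inf, e1, e2]
  rw [← h2]
  refine (Subgroup.closure_le _).mpr ?_
  rintro p ⟨hp, n, hn⟩
  obtain ⟨j, hj, hjc⟩ := exists_mul_of_sup h3 (hP hp)
  have hjL : j ∈ L := cov_le_right N L hj
  have hcD : j⁻¹ * p ∈ D := by
    rw [hD]
    exact ⟨hjc, Subgroup.mul_mem _ (Subgroup.inv_mem _ (hL.le hjL)) (hPv hp)⟩
  have h5 : j * (j⁻¹ * p) ∈ L := by
    refine mem_of_mul_odd hjL (hDK hcD).1 (hDodd.of_dvd_nat (Subgroup.orderOf_dvd_natCard D hcD)) (n := n) ?_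
    rw [mul_inv_cancel_left]; exact hn
  rwa [mul_inv_cancel_left] at h5

theorem At.sup_of_pElem {v : G} {L N : Subgroup G} (hN : IsComp N N) (h : At v L N) {P : Subgroup G}
    (hP : P ⊔ core N = N) (hPv : P ≤ centralizer ({v} : Set G)) (h2 : PComponents.pElem 2 P = P) :
    P ⊔ core L = L := by
  have hPN : P ≤ N := by rw [← hP]; exact le_sup_left
  obtain ⟨hc, h3, h4⟩ := At.cov_spec hN h
  have h5 : P ≤ cov N L := by
    rw [← h2]
    exact PComponents.pElem_mono (le_inf hPN (At.le_of_pElem hN h hPN hPv h2))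
  exact sup_trans (cover_descend hP h5 h3) h4

end at'

end Cfsg.Agent.UGT.L2i.ClsCov
end

-- part: UGT/L2i/ClsRel
section
prune_inst 0x3010010054221000000000002000000030000002004000002040000000480001a04400013060021001108c30200a8020004400090028000020008a0040000000040022c01040100001000040c802080c00000000000000000000000000000000000000000
set_option linter.all false
open scoped Cfsg.Agent.FastGrp

/-!
# The classes of `N₀` (bb #11765, P4): the equivalence relation

`𝒩` is the set of conjugates of `N₀`.  (E'): if an involution acts trivially on `N₁ / O(N₁)` and on `N₂ / O(N₂)`,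
`N₁ ≠ N₂` in `𝒩`, then `N₁ ≤ KN N₂` and `N₂ ≤ KN N₁`.  Hence "equal or mutually acting trivially" is an equivalence
relation on `𝒩`.
-/

set_option autoImplicit false

open Cfsg Subgroup
open Cfsg.Agent.SignalizersComponents Cfsg.Agent.Lib
open Cfsg.Agent.SignalizersComponents.IntrinsicBasic
open Cfsg.Agent.SignalizersComponents.IntrinsicIntr
open Cfsg.Agent.SignalizersComponents.PLayerAut
open Cfsg.Agent.Intrinsic.Basic Cfsg.Agent.Intrinsic.Cen Cfsg.Agent.Intrinsic.Diag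
open Cfsg.Agent.McLLyComp.Act
open Cfsg.Agent.UGT.TMCBase
open Cfsg.Agent.UGT.L2i.ClsCov
open scoped commutatorElement

namespace Cfsg.Agent.UGT.L2i.ClsRel

universe u

variable {G : Type u} [Group G]

/-- What is needed of the set of conjugates of `N₀`. -/
structure Sys (𝒩 : Set (Subgroup G)) : Prop where
  conj : ∀ N ∈ 𝒩, ∀ g : G, cj g N ∈ 𝒩
  comp : ∀ N ∈ 𝒩, IsComp N N
  z : ∀ N ∈ 𝒩, ∀ u ∈ N, Fixes u N → u ∈ core N
  ex : ∀ N ∈ 𝒩, ∀ y : G, Fixes y N → orderOf y = 2 → ∃ L, At y L N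
  nrm : ∀ N ∈ 𝒩, ∀ (y : G) (L : Subgroup G), Fixes y N → orderOf y = 2 → At y L N →
    ∀ g : G, g * y = y * g → g ∈ normalizer (L : Set G) → g ∈ normalizer (N : Set G)
  uniq : ∀ N ∈ 𝒩, ∀ N' ∈ 𝒩, ∀ (y : G) (L : Subgroup G), orderOf y = 2 → Fixes y N → Fixes y N' →
    At y L N → At y L N' → N' = N

/-- equal or acting trivially on each other -/
def Rel (N N' : Subgroup G) : Prop := N = N' ∨ (N ≤ KN N' ∧ N' ≤ KN N)

theorem Rel.refl (N : Subgroup G) : Rel N N := Or.inl rfl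

theorem Rel.symm {N N' : Subgroup G} (h : Rel N N') : Rel N' N := by
  rcases h with h | h
  · exact Or.inl h.symm
  · exact Or.inr ⟨h.2, h.1⟩

theorem Rel.cj {N N' : Subgroup G} (h : Rel N N') (g : G) : Rel (cj g N) (cj g N') := by
  rcases h with h | h
  · exact Or.inl (by rw [h])
  · right
    rw [← cj_KN, ← cj_KN]
    exact ⟨Subgroup.map_mono h.1, Subgroup.map_mono h.2⟩

theorem Rel.le_normalizer {N N' : Subgroup G} (h : Rel N N') : N ≤ normalizer (N' : Set G) := by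
  rcases h with h | h
  · rw [h]; exact Subgroup.le_normalizer
  · exact h.1.trans (KN_le N')

theorem sq_of_order {y : G} (hy : orderOf y = 2) : y * y = 1 := by
  rw [← pow_two, ← hy, pow_orderOf_eq_one]

theorem order_of_sq {y : G} (h : y * y = 1) (h1 : y ≠ 1) : orderOf y = 2 :=
  orderOf_eq_prime (by rw [pow_two, h]) h1

variable [Finite G]

/-! ### four-groups in covering subgroups -/

/-- a 2-component of itself containing no central involution contains a four-group -/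
theorem exists_four {J : Subgroup G} (hJ : IsComp J J) (hz : ∀ u ∈ J, u * u = 1 → Fixes u J → u = 1) :
    ∃ v ∈ J, ∃ w ∈ J, v * v = 1 ∧ w * w = 1 ∧ v * w = w * v ∧ v ≠ 1 ∧ w ≠ 1 ∧ v ≠ w := by
  have h2 : Fact (Nat.Prime 2) := ⟨Nat.prime_two⟩
  obtain ⟨u, hu⟩ := exists_prime_orderOf_dvd_card' (G := ↥J) 2 hJ.even
  have huu : (u : G) * u = 1 := by
    have h3 := sq_of_order hu
    exact congrArg Subtype.val h3
  have hu1 : (u : G) ≠ 1 := by
    intro h
    have h3 : u = 1 := Subtype.ext h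
    rw [h3, orderOf_one] at hu
    omega
  rcases SL.zstar_sub u.2 huu hu1 with ⟨h, hh, hne, hcomm⟩ | ⟨N, hNJ, hodd, hn, hc⟩
  · refine ⟨u, u.2, h * u * h⁻¹, J.mul_mem (J.mul_mem hh u.2) (J.inv_mem hh), huu, ?_, hcomm, hu1, ?_,
      Ne.symm hne⟩
    · calc h * (u : G) * h⁻¹ * (h * u * h⁻¹) = h * ((u : G) * u) * h⁻¹ := by group
        _ = 1 := by rw [huu]; group
    · intro h3
      apply hu1
      calc (u : G) = h⁻¹ * (h * u * h⁻¹) * h := by group
        _ = 1 := by rw [h3]; group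
  · exfalso
    apply hu1
    refine hz u u.2 huu ⟨Subgroup.le_normalizer u.2, fun x hx => ?_⟩
    have h3 : N ≤ core J := by
      refine le_core hNJ ?_ hodd
      intro x hx
      rw [Subgroup.mem_normalizer_iff]
      intro n
      refine ⟨hn x hx n, fun h => ?_⟩
      have h4 := hn x⁻¹ (J.inv_mem hx) _ h
      have h5 : x⁻¹ * (x * n * x⁻¹) * x⁻¹⁻¹ = n := by group
      rwa [h5] at h4
    exact h3 (hc x hx)

/-- two successive centralizers of commuting involutions -/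
theorem cen_two {J : Subgroup G} (hJ : IsComp J J) {v w : G} (vv : v * v = 1) (ww : w * w = 1)
    (vw : v * w = w * v) (hv : Fixes v J) (hw : Fixes w J) :
    IsComp (cen (cen J v) w) (cen (cen J v) w) ∧ cen (cen J v) w ⊔ core J = J ∧
      cen (cen J v) w ≤ centralizer ({v} : Set G) ∧ cen (cen J v) w ≤ centralizer ({w} : Set G) := by
  have h1 : IsComp (normalizer (J : Set G)) J :=
    hJ.extend le_normalizer (by
      have : (J.subgroupOf (normalizer (J : Set G))).Normal := normal_subgroupOf_of_le_normalizer le_rfl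
      exact this.isSubnormal)
  obtain ⟨h2, h3⟩ := isComp_cen h1 hv.1 vv hv
  have hwn : w ∈ normalizer (cen J v : Set G) := mem_normalizer_cen hw.1 vw.symm
  have hwJ : Fixes w (cen J v) := (fixes_iff_of_sup h3 hwn hw.1).mpr hw
  obtain ⟨h4, h5⟩ := isComp_cen h2 ⟨hw.1, mem_c vw.symm⟩ ww hwJ
  refine ⟨h4.restrict ?_ le_rfl, sup_trans h5 h3, ?_, cen_le_centralizer _ _⟩
  · exact le_inf (((cen_le _ _).trans (cen_le _ _)).trans le_normalizer |> fun h =>
      le_inf h (((cen_le _ _).trans (cen_le_centralizer _ _)))) (cen_le_centralizer _ _)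
  · exact (cen_le _ _).trans (cen_le_centralizer _ _)

/-! ### (E') -/

section sys

variable {𝒩 : Set (Subgroup G)}

theorem Sys.four_of_cover (S : Sys 𝒩) {N J : Subgroup G} (hN : N ∈ 𝒩) (hJ : IsComp J J)
    (hs : J ⊔ core N = N) :
    ∃ v ∈ J, ∃ w ∈ J, v * v = 1 ∧ w * w = 1 ∧ v * w = w * v ∧ v ≠ 1 ∧ w ≠ 1 ∧ v ≠ w := by
  refine exists_four hJ fun u hu huu hf => ?_
  have hJN : J ≤ N := by rw [← hs]; exact le_sup_left
  have h1 : Fixes u N := (fixes_iff_of_sup hs hf.1 (le_normalizer (hJN hu))).mp hf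
  exact eq_one_of_mem_core_sq (S.z N hN u (hJN hu) h1) huu

theorem Sys.comp_le_KN (S : Sys 𝒩) {N1 N2 L1 L2 : Subgroup G} (h1 : N1 ∈ 𝒩) (h2 : N2 ∈ 𝒩)
    (hne : N1 ≠ N2) {y : G} (hy : orderOf y = 2) (hy1 : Fixes y N1) (hy2 : Fixes y N2)
    (a1 : At y L1 N1) (a2 : At y L2 N2) : L2 ≤ KN N1 := by
  have hL : L1 ≠ L2 := by
    rintro rfl
    exact hne (S.uniq N2 h2 N1 h1 y _ hy hy2 hy1 a2 a1)
  intro p hp
  have hf : Fixes p L1 := a1.comp.fixes_of_mem a2.comp hL hp
  have hpN := S.nrm N1 h1 y L1 hy1 hy a1 p (comm_c (a2.comp.le hp)) hf.1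
  exact (At.fixes_iff (S.comp N1 h1) a1 hpN hf.1).mpr hf

/-- **(E')**, one half. -/
theorem Sys.le_KN (S : Sys 𝒩) {N1 N2 : Subgroup G} (h1 : N1 ∈ 𝒩) (h2 : N2 ∈ 𝒩)
    (hne : N1 ≠ N2) {y : G} (hy : orderOf y = 2) (hy1 : Fixes y N1) (hy2 : Fixes y N2) : N2 ≤ KN N1 := by
  obtain ⟨L1, a1⟩ := S.ex N1 h1 y hy1 hy
  obtain ⟨L2, a2⟩ := S.ex N2 h2 y hy2 hy
  have s1 : L2 ≤ KN N1 := S.comp_le_KN h1 h2 hne hy hy1 hy2 a1 a2
  have s2 : L1 ≤ KN N2 := S.comp_le_KN h2 h1 hne.symm hy hy2 hy1 a2 a1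
  obtain ⟨c1, c1N, c1L⟩ := At.cov_spec (S.comp N1 h1) a1
  obtain ⟨c2, c2N, c2L⟩ := At.cov_spec (S.comp N2 h2) a2
  obtain ⟨v, hv, w, hw, vv, ww, vw, v1, w1, hvw⟩ := S.four_of_cover h2 c2 c2N
  have hne12 : L1 ≠ L2 := by
    rintro rfl
    exact hne (S.uniq N2 h2 N1 h1 y _ hy hy2 hy1 a2 a1)
  -- elements of the cover of `N2` fix the cover of `N1`
  have hfix : ∀ x ∈ cov N2 L2, Fixes x (cov N1 L1) := by
    intro x hx
    have hxL : x ∈ L2 := cov_le_right _ _ hx
    have hf : Fixes x L1 := a1.comp.fixes_of_mem a2.comp hne12 hxL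
    exact (fixes_iff_of_sup c1L (mem_normalizer_cov (s1 hxL).1 hf.1) hf.1).mpr hf
  obtain ⟨m1, m2, m3, m4⟩ := cen_two c1 vv ww vw (hfix v hv) (hfix w hw)
  obtain ⟨M, hM⟩ : ∃ M, M = cen (cen (cov N1 L1) v) w := ⟨_, rfl⟩
  rw [← hM] at m1 m2 m3 m4
  have hMN1 : M ⊔ core N1 = N1 := sup_trans m2 c1N
  have hML1 : M ≤ L1 := by
    rw [hM]; exact ((cen_le _ _).trans (cen_le _ _)).trans (cov_le_right _ _)
  have claim : ∀ a : G, orderOf a = 2 → a ∈ cov N2 L2 → M ≤ centralizer ({a} : Set G) →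
      ∀ x ∈ core N2, x * a = a * x → x ∈ KN N1 := by
    intro a ha haJ hMa x hx hxa
    have haN1 : Fixes a N1 := s1 (cov_le_right _ _ haJ)
    obtain ⟨La, A⟩ := S.ex N1 h1 a haN1 ha
    have hMLa : M ⊔ core La = La := At.sup_of_pElem (S.comp N1 h1) A hMN1 hMa m1.pElem_eq
    have hX : core N2 ⊓ centralizer ({a} : Set G) ≤ KN La := by
      refine le_KN_of_odd A.comp m1 hMLa inf_le_right
        (Odd.of_dvd_nat (odd_card_core N2) (card_dvd_of_le inf_le_left)) ?_
      intro m hm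
      have e1 : m ∈ normalizer (core N2 : Set G) :=
        normalizer_le_normalizer_core N2 (s2 (hML1 hm)).1
      have e2 : m ∈ normalizer (centralizer ({a} : Set G) : Set G) := le_normalizer (hMa hm)
      rw [mem_normalizer_iff_cj] at e1 e2 ⊢
      rw [cj_inf, e1, e2]
    have hxLa : Fixes x La := hX ⟨hx, mem_c hxa⟩
    have hxN := S.nrm N1 h1 a La haN1 ha A x hxa hxLa.1
    exact (At.fixes_iff (S.comp N1 h1) A hxN hxLa.1).mpr hxLa
  have hvN2 : v ∈ N2 := cov_le_left _ _ hv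
  have hwN2 : w ∈ N2 := cov_le_left _ _ hw
  have hM3 : M ≤ centralizer ({v * w} : Set G) := by
    intro m hm
    have e1 := comm_c (m3 hm)
    have e2 := comm_c (m4 hm)
    refine mem_c ?_
    rw [← mul_assoc, e1, mul_assoc, e2, mul_assoc]
  have hvw1 : v * w ≠ 1 := by
    intro h
    apply hvw
    calc v = v * (w * w) := by rw [ww, mul_one]
      _ = v * w * w := by group
      _ = w := by rw [h, one_mul]
  have hvw2 : v * w * (v * w) = 1 := by
    calc v * w * (v * w) = v * (w * v) * w := by group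
      _ = v * (v * w) * w := by rw [vw]
      _ = (v * v) * (w * w) := by group
      _ = 1 := by rw [vv, ww, one_mul]
  have hcore : core N2 ≤ KN N1 := by
    refine Cfsg.Agent.CoverCore.Abs.le_of_four vv ww vw v1 w1 hvw (odd_card_core N2)
      (fun x hx => conj_mem_core (le_normalizer hvN2) hx) (fun x hx => conj_mem_core (le_normalizer hwN2) hx)
      (claim v (order_of_sq vv v1) hv m3) (claim w (order_of_sq ww w1) hw m4)
      (claim (v * w) (order_of_sq hvw2 hvw1) (mul_mem hv hw) hM3)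
  conv_lhs => rw [← c2N]
  exact sup_le ((cov_le_right _ _).trans s1) hcore

/-- **(E')** -/
theorem Sys.rel_of_fixes (S : Sys 𝒩) {N1 N2 : Subgroup G} (h1 : N1 ∈ 𝒩) (h2 : N2 ∈ 𝒩)
    {y : G} (hy : orderOf y = 2) (hy1 : Fixes y N1) (hy2 : Fixes y N2) : Rel N1 N2 := by
  by_cases hne : N1 = N2
  · exact Or.inl hne
  · exact Or.inr ⟨S.le_KN h2 h1 (Ne.symm hne) hy hy2 hy1, S.le_KN h1 h2 hne hy hy1 hy2⟩

theorem exists_inv {N : Subgroup G} (hN : IsComp N N) : ∃ y ∈ N, orderOf y = 2 := by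
  have h2 : Fact (Nat.Prime 2) := ⟨Nat.prime_two⟩
  obtain ⟨u, hu⟩ := exists_prime_orderOf_dvd_card' (G := ↥N) 2 hN.even
  exact ⟨u, u.2, by rw [← hu]; exact (Subgroup.orderOf_coe u)⟩

theorem Sys.rel_trans (S : Sys 𝒩) {N1 N2 N3 : Subgroup G} (h1 : N1 ∈ 𝒩) (h2 : N2 ∈ 𝒩) (h3 : N3 ∈ 𝒩)
    (r : Rel N1 N2) (r' : Rel N2 N3) : Rel N1 N3 := by
  rcases r with rfl | r
  · exact r'
  rcases r' with rfl | r'
  · exact Or.inr r
  obtain ⟨y, hyN, hy⟩ := exists_inv (S.comp N2 h2)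
  exact S.rel_of_fixes h1 h3 hy (r.2 hyN) (r'.1 hyN)

/-! ### the subgroup `H` -/

/-- the stabiliser of the class of `N₀` -/
def Sys.H (S : Sys 𝒩) {N0 : Subgroup G} (h0 : N0 ∈ 𝒩) : Subgroup G where
  carrier := {g | Rel (cj g N0) N0}
  one_mem' := by
    show Rel (cj 1 N0) N0
    rw [cj_one]; exact Rel.refl _
  mul_mem' := by
    intro a b ha hb
    show Rel (cj (a * b) N0) N0
    have hb' : Rel (cj b N0) N0 := hb
    have ha' : Rel (cj a N0) N0 := ha
    rw [cj_mul]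
    exact S.rel_trans (S.conj _ (S.conj _ h0 _) _) (S.conj _ h0 _) h0 (hb'.cj a) ha'
  inv_mem' := by
    intro a ha
    show Rel (cj a⁻¹ N0) N0
    have ha' : Rel (cj a N0) N0 := ha
    have h1 := (ha'.cj a⁻¹).symm
    rwa [cj_inv_cj] at h1

theorem Sys.mem_H (S : Sys 𝒩) {N0 : Subgroup G} (h0 : N0 ∈ 𝒩) {g : G} : g ∈ S.H h0 ↔ Rel (cj g N0) N0 :=
  Iff.rfl

/-- the class of `N₀` -/
def Sys.cls (_ : Sys 𝒩) {N0 : Subgroup G} (_ : N0 ∈ 𝒩) : Set (Subgroup G) := {N | N ∈ 𝒩 ∧ Rel N N0}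

omit [Finite G] in
theorem Sys.self_mem_cls (S : Sys 𝒩) {N0 : Subgroup G} (h0 : N0 ∈ 𝒩) : N0 ∈ S.cls h0 := ⟨h0, Rel.refl _⟩

theorem Sys.rel_of_cls (S : Sys 𝒩) {N0 N N' : Subgroup G} (h0 : N0 ∈ 𝒩) (h : N ∈ S.cls h0) (h' : N' ∈ S.cls h0) :
    Rel N N' := S.rel_trans h.1 h0 h'.1 h.2 h'.2.symm

theorem Sys.mem_H_iff (S : Sys 𝒩) {N0 N : Subgroup G} (h0 : N0 ∈ 𝒩) (h : N ∈ S.cls h0) {g : G} :
    g ∈ S.H h0 ↔ Rel (cj g N) N := by
  rw [S.mem_H h0]
  have h1 := h.2.cj g
  constructor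
  · intro h2
    exact S.rel_trans (S.conj _ h.1 _) h0 h.1 (S.rel_trans (S.conj _ h.1 _) (S.conj _ h0 _) h0 h1 h2) h.2.symm
  · intro h2
    exact S.rel_trans (S.conj _ h0 _) h.1 h0 (S.rel_trans (S.conj _ h0 _) (S.conj _ h.1 _) h.1 h1.symm h2) h.2

theorem Sys.cj_mem_cls (S : Sys 𝒩) {N0 N : Subgroup G} (h0 : N0 ∈ 𝒩) (h : N ∈ S.cls h0) {g : G}
    (hg : g ∈ S.H h0) : cj g N ∈ S.cls h0 :=
  ⟨S.conj _ h.1 _, S.rel_trans (S.conj _ h.1 _) h.1 h0 ((S.mem_H_iff h0 h).mp hg) h.2⟩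

/-- **(T1)** -/
theorem Sys.t1 (S : Sys 𝒩) {N0 N : Subgroup G} (h0 : N0 ∈ 𝒩) (h : N ∈ S.cls h0) {y : G} (hy : orderOf y = 2)
    (hyN : Fixes y N) {c : G} (hc : c * y = y * c) : c ∈ S.H h0 := by
  rw [S.mem_H_iff h0 h]
  have h1 := hyN.cj c
  rw [conj_of_comm hc] at h1
  exact S.rel_of_fixes (S.conj _ h.1 _) h.1 hy h1 hyN

/-- **(T2)** -/
theorem Sys.t2 (S : Sys 𝒩) {N0 N N' : Subgroup G} (h0 : N0 ∈ 𝒩) (h : N ∈ S.cls h0) (h' : N' ∈ S.cls h0) {y g : G}
    (hy : orderOf y = 2) (hyN : Fixes y N) (hyN' : Fixes y (cj g N')) : g ∈ S.H h0 := by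
  rw [S.mem_H_iff h0 h']
  have h1 := S.rel_of_fixes (S.conj _ h'.1 g) h.1 hy hyN' hyN
  exact S.rel_trans (S.conj _ h'.1 _) h.1 h'.1 h1 (S.rel_of_cls h0 h h')

theorem Sys.le_H (S : Sys 𝒩) {N0 N : Subgroup G} (h0 : N0 ∈ 𝒩) (h : N ∈ S.cls h0) : N ≤ S.H h0 := by
  intro n hn
  rw [S.mem_H_iff h0 h, cj_eq_self_of_mem hn]
  exact Rel.refl _

theorem Sys.normalizer_le_H (S : Sys 𝒩) {N0 N : Subgroup G} (h0 : N0 ∈ 𝒩) (h : N ∈ S.cls h0) :
    normalizer (N : Set G) ≤ S.H h0 := by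
  intro n hn
  rw [S.mem_H_iff h0 h, mem_normalizer_iff_cj.mp hn]
  exact Rel.refl _

theorem Sys.cls_le_normalizer (S : Sys 𝒩) {N0 N N' : Subgroup G} (h0 : N0 ∈ 𝒩) (h : N ∈ S.cls h0)
    (h' : N' ∈ S.cls h0) : N' ≤ normalizer (N : Set G) := (S.rel_of_cls h0 h' h).le_normalizer

/-- the product of the class -/
def Sys.E (S : Sys 𝒩) {N0 : Subgroup G} (h0 : N0 ∈ 𝒩) : Subgroup G := sSup (S.cls h0)

omit [Finite G] in
theorem Sys.le_E (S : Sys 𝒩) {N0 N : Subgroup G} (h0 : N0 ∈ 𝒩) (h : N ∈ S.cls h0) : N ≤ S.E h0 := le_sSup h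

theorem Sys.E_le_H (S : Sys 𝒩) {N0 : Subgroup G} (h0 : N0 ∈ 𝒩) : S.E h0 ≤ S.H h0 :=
  sSup_le fun _ h => S.le_H h0 h

theorem Sys.E_le_normalizer (S : Sys 𝒩) {N0 N : Subgroup G} (h0 : N0 ∈ 𝒩) (h : N ∈ S.cls h0) :
    S.E h0 ≤ normalizer (N : Set G) := sSup_le fun _ h' => S.cls_le_normalizer h0 h h'

theorem Sys.H_le_normalizer_E (S : Sys 𝒩) {N0 : Subgroup G} (h0 : N0 ∈ 𝒩) :
    S.H h0 ≤ normalizer (S.E h0 : Set G) := by
  have key : ∀ g ∈ S.H h0, cj g (S.E h0) ≤ S.E h0 := by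
    intro g hg
    rw [cj_def, Subgroup.map_le_iff_le_comap]
    refine sSup_le fun N hN => ?_
    rw [← Subgroup.map_le_iff_le_comap, ← cj_def]
    exact S.le_E h0 (S.cj_mem_cls h0 hN hg)
  intro g hg
  rw [mem_normalizer_iff_cj]
  refine le_antisymm (key g hg) ?_
  have h1 := key g⁻¹ (inv_mem hg)
  have h2 : cj g (cj g⁻¹ (S.E h0)) ≤ cj g (S.E h0) := Subgroup.map_mono h1
  have h3 : cj g (cj g⁻¹ (S.E h0)) = S.E h0 := by rw [← cj_mul, mul_inv_cancel, cj_one]
  rwa [h3] at h2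

/-- the members of the class are 2-components of `H` -/
theorem Sys.isComp_H (S : Sys 𝒩) {N0 N : Subgroup G} (h0 : N0 ∈ 𝒩) (h : N ∈ S.cls h0) :
    IsComp (S.H h0) N := by
  have h1 : IsComp (S.E h0) N := (S.comp N h.1).extend (S.le_E h0 h) (by
    have : (N.subgroupOf (S.E h0)).Normal := normal_subgroupOf_of_le_normalizer (S.E_le_normalizer h0 h)
    exact this.isSubnormal)
  refine h1.extend (S.E_le_H h0) ?_
  have : ((S.E h0).subgroupOf (S.H h0)).Normal := normal_subgroupOf_of_le_normalizer (S.H_le_normalizer_E h0)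
  exact this.isSubnormal

/-- trivial action in terms of `H` -/
theorem Sys.fixes_iff (S : Sys 𝒩) {N0 N : Subgroup G} (h0 : N0 ∈ 𝒩) (h : N ∈ S.cls h0) {y : G} :
    (y ∈ S.H h0 ∧ ∀ x ∈ N ⊔ core (S.H h0), y * x * y⁻¹ * x⁻¹ ∈ core (S.H h0)) ↔ Fixes y N := by
  have hc := S.isComp_H h0 h
  constructor
  · rintro ⟨hy, hx⟩
    rw [hc.fixes_iff hy, mem_cenMod hc.le]
    refine ⟨hy, fun k hk => ?_⟩
    have h1 := hx k (mem_sup_left hk)
    have h2 : k⁻¹ * (y * k * y⁻¹) = k⁻¹ * (y * k * y⁻¹ * k⁻¹) * k⁻¹⁻¹ := by group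
    rw [h2]
    exact conj_mem_core (le_normalizer ((S.H h0).inv_mem (hc.le hk))) h1
  · intro hf
    have hy : y ∈ S.H h0 := S.normalizer_le_H h0 h hf.1
    refine ⟨hy, fun x hx => ?_⟩
    rw [sup_comm] at hx
    obtain ⟨c, hcc, n, hn, rfl⟩ := SL.exists_mul_of_mem_sup
      (fun b hb a ha => conj_mem_core (le_normalizer (hc.le hb)) ha) hx
    have h1 : y * (c * n) * y⁻¹ * (c * n)⁻¹ = (y * c * y⁻¹) * ⁅y, n⁆ * c⁻¹ := by
      rw [commutatorElement_def]; group
    rw [h1]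
    exact mul_mem (mul_mem (conj_mem_core (le_normalizer hy) hcc) (hc.core_le_core (hf.2 n hn)))
      (inv_mem hcc)

end sys

/-! ### from `Cls` to `Sys` -/

omit [Finite G] in
theorem At.conj {y : G} {L N : Subgroup G} (h : At y L N) (g : G) :
    At (g * y * g⁻¹) (cj g L) (cj g N) := by
  obtain ⟨M, h1, h2, h3, h4, h5⟩ := h.ex
  refine ⟨?_, cj g M, Subgroup.map_mono h1, Subgroup.map_mono h2, h3.cj g, ?_, ?_⟩
  · have h6 := h.comp.cj g
    rwa [cj_centralizer] at h6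
  · rw [core_cj, cj_def, cj_def, cj_def, ← Subgroup.map_sup, h4]
  · rw [core_cj, cj_def, cj_def, cj_def, ← Subgroup.map_sup, h5]

/-- the conjugates of `N` -/
def Cj (N : Subgroup G) : Set (Subgroup G) := {M | ∃ g : G, M = cj g N}

omit [Finite G] in
theorem self_mem_Cj (N : Subgroup G) : N ∈ Cj N := ⟨1, by rw [cj_one]⟩

omit [Finite G] in
theorem orderOf_conj (g y : G) : orderOf (g * y * g⁻¹) = orderOf y := by
  have := (MulAut.conj g).orderOf_eq y
  rwa [MulAut.conj_apply] at this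

/-- `N / O(N)` has trivial centre -/
theorem mem_core_of_fixes {N : Subgroup G} (hs : IsSimpleGroup (↥N ⧸ oddCore ↥N))
    (hn : ¬ ∀ x y : ↥N ⧸ oddCore ↥N, x * y = y * x) {u : G} (hu : u ∈ N) (hf : Fixes u N) : u ∈ core N := by
  rw [mem_core_iff hu, ← QuotientGroup.eq_one_iff]
  obtain ⟨c, hc⟩ : ∃ c : ↥N ⧸ oddCore ↥N, c = ((⟨u, hu⟩ : ↥N) : ↥N ⧸ oddCore ↥N) := ⟨_, rfl⟩
  have h1 : c ∈ center (↥N ⧸ oddCore ↥N) := by
    rw [mem_center_iff]
    intro x
    obtain ⟨⟨n, hn'⟩, rfl⟩ := QuotientGroup.mk_surjective x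
    have h2 := hf.2 n hn'
    rw [commutator_mem_core_iff hu hn'] at h2
    rw [hc]
    exact h2.symm
  have h2 : center (↥N ⧸ oddCore ↥N) = ⊥ := by
    rcases hs.eq_bot_or_eq_top_of_normal _ (inferInstance : (center (↥N ⧸ oddCore ↥N)).Normal) with h3 | h3
    · exact h3
    · exfalso
      apply hn
      intro x y
      have h4 : y ∈ center (↥N ⧸ oddCore ↥N) := by rw [h3]; exact mem_top y
      exact mem_center_iff.mp h4 x
  rw [h2, mem_bot] at h1
  rw [← hc, h1]

theorem Cls.sys {N : Subgroup G} (h : Cls N) : Sys (Cj N) where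
  conj := by
    rintro _ ⟨a, rfl⟩ g
    exact ⟨g * a, by rw [cj_mul]⟩
  comp := by
    rintro _ ⟨a, rfl⟩
    exact h.self.cj a
  z := by
    rintro _ ⟨a, rfl⟩ u hu hf
    rw [core_cj, mem_cj]
    have h1 : a⁻¹ * u * a ∈ N := mem_cj.mp hu
    have h2 := hf.cj a⁻¹
    rw [cj_inv_cj, inv_inv] at h2
    exact mem_core_of_fixes h.simple h.nab h1 h2
  ex := by
    rintro _ ⟨a, rfl⟩ y hf hy
    have h2 := hf.cj a⁻¹
    rw [cj_inv_cj] at h2
    obtain ⟨L, hL⟩ := h.ex _ h2 (by rw [orderOf_conj, hy])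
    refine ⟨cj a L, ?_⟩
    have h3 := At.conj hL a
    rwa [show a * (a⁻¹ * y * a⁻¹⁻¹) * a⁻¹ = y by group] at h3
  nrm := by
    rintro _ ⟨a, rfl⟩ y L hf hy hA g hg hgL
    have h2 := hf.cj a⁻¹
    rw [cj_inv_cj] at h2
    have h3 := At.conj hA a⁻¹
    rw [cj_inv_cj] at h3
    have h4 := h.nrm _ _ h2 (by rw [orderOf_conj, hy]) h3 (a⁻¹ * g * a⁻¹⁻¹) (by
      rw [show a⁻¹ * g * a⁻¹⁻¹ * (a⁻¹ * y * a⁻¹⁻¹) = a⁻¹ * (g * y) * a⁻¹⁻¹ by group, hg]; group) (by
      rw [mem_normalizer_iff_cj] at hgL ⊢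
      rw [← cj_mul, show a⁻¹ * g * a⁻¹⁻¹ * a⁻¹ = a⁻¹ * g by group, cj_mul, hgL])
    rw [mem_normalizer_iff_cj] at h4 ⊢
    have h5 := congrArg (cj a) h4
    rw [← cj_mul, show a * (a⁻¹ * g * a⁻¹⁻¹) = g * a by group, cj_mul] at h5
    exact h5
  uniq := by
    rintro _ ⟨a, rfl⟩ _ ⟨b, rfl⟩ y L hy hf1 hf2 hA1 hA2
    have h2 := hf1.cj a⁻¹
    rw [cj_inv_cj] at h2
    have h3 := At.conj hA1 a⁻¹
    rw [cj_inv_cj] at h3
    have h4 := hf2.cj a⁻¹
    rw [← cj_mul] at h4
    have h5 := At.conj hA2 a⁻¹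
    rw [← cj_mul] at h5
    have h6 := h.uniq _ (a⁻¹ * b) _ (by rw [orderOf_conj, hy]) h2 h4 h3 h5
    have h7 := congrArg (cj a) h6
    rw [← cj_mul, mul_inv_cancel_left] at h7
    exact h7

end Cfsg.Agent.UGT.L2i.ClsRel
end

-- part: UGT/L2i/ClsSide
section
set_option linter.all false
open scoped Cfsg.Agent.FastGrp

/-!
# The classes of `N₀` (bb #11765, P4): the side

`Cls.side`: `H`, `W = O(H)`, `F N = N O(H)` for `N` in the class of `N₀`; `side_ok`, `ind_iff`, `t2`.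
-/

set_option autoImplicit false

open Cfsg Subgroup
open Cfsg.Agent.SignalizersComponents Cfsg.Agent.Lib
open Cfsg.Agent.SignalizersComponents.IntrinsicBasic
open Cfsg.Agent.SignalizersComponents.IntrinsicIntr
open Cfsg.Agent.SignalizersComponents.PLayerAut
open Cfsg.Agent.Intrinsic.Basic Cfsg.Agent.Intrinsic.Cen Cfsg.Agent.Intrinsic.Diag
open Cfsg.Agent.McLLyComp.Act
open Cfsg.Agent.UGT.TMCBase
open Cfsg.Agent.UGT.L2i.ClsCov Cfsg.Agent.UGT.L2i.ClsRel
open scoped commutatorElement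

namespace Cfsg.Agent.UGT.L2i.ClsSide

universe u v

variable {G : Type u} [Group G] {Q : Type v} [Group Q]

/-- The map `N O(H) → Q` coming from an isomorphism `N / O(N) ≅ Q`, `N` a 2-component of `H`. -/
theorem exists_pi [Finite G] {H N : Subgroup G} (h : IsComp H N) (e : (↥N ⧸ oddCore ↥N) ≃* Q) :
    ∃ π : G → Q, (∀ x ∈ N ⊔ core H, ∀ y ∈ N ⊔ core H, π (x * y) = π x * π y) ∧
      (∀ q : Q, ∃ x ∈ N ⊔ core H, π x = q) ∧ (∀ x ∈ N ⊔ core H, π x = 1 ↔ x ∈ core H) ∧
      ∀ n (hn : n ∈ N), π n = e (QuotientGroup.mk ⟨n, hn⟩) := by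
  classical
  obtain ⟨F, hF⟩ : ∃ F, F = N ⊔ core H := ⟨_, rfl⟩
  have hFH : F ≤ H := hF ▸ sup_le h.le (core_le H)
  have hNF : N ≤ F := hF ▸ le_sup_left
  -- `f : N → H / O(H)`
  let f : ↥N →* (↥H ⧸ oddCore ↥H) := (QuotientGroup.mk' (oddCore ↥H)).comp (inclusion h.le)
  have hker : oddCore ↥N = f.ker := by
    ext ⟨n, hn⟩
    rw [MonoidHom.mem_ker]
    have h1 : f ⟨n, hn⟩ = ((⟨n, h.le hn⟩ : ↥H) : ↥H ⧸ oddCore ↥H) := rfl
    rw [h1, QuotientGroup.eq_one_iff, ← mem_core_iff, ← mem_core_iff, h.core_eq, mem_inf]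
    exact ⟨fun h2 => h2.2, fun h2 => ⟨hn, h2⟩⟩
  let e1 : (↥N ⧸ oddCore ↥N) ≃* f.range :=
    (QuotientGroup.quotientMulEquivOfEq hker).trans (QuotientGroup.quotientKerEquivRange f)
  have he1 : ∀ (n : G) (hn : n ∈ N), ((e1 (QuotientGroup.mk ⟨n, hn⟩) : f.range) : ↥H ⧸ oddCore ↥H) =
      ((⟨n, h.le hn⟩ : ↥H) : ↥H ⧸ oddCore ↥H) := fun n hn => rfl
  have hmem : ∀ x : ↥F, (QuotientGroup.mk' (oddCore ↥H)).comp (inclusion hFH) x ∈ f.range := by
    rintro ⟨x, hx⟩
    have hx' := hx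
    rw [hF, sup_comm] at hx'
    obtain ⟨c, hc, n, hn, rfl⟩ := SL.exists_mul_of_mem_sup
      (fun b hb a ha => conj_mem_core (le_normalizer (h.le hb)) ha) hx'
    refine ⟨⟨n, hn⟩, ?_⟩
    change ((⟨n, h.le hn⟩ : ↥H) : ↥H ⧸ oddCore ↥H) = ((⟨c * n, hFH hx⟩ : ↥H) : ↥H ⧸ oddCore ↥H)
    rw [QuotientGroup.eq]
    have h2 : n⁻¹ * (c * n) ∈ core H := by
      have h3 : n⁻¹ * (c * n) = n⁻¹ * c * n⁻¹⁻¹ := by group
      rw [h3]; exact conj_mem_core (le_normalizer (H.inv_mem (h.le hn))) hc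
    exact (mem_core_iff _).mp h2
  let g : ↥F →* f.range := ((QuotientGroup.mk' (oddCore ↥H)).comp (inclusion hFH)).codRestrict f.range hmem
  have hg : ∀ (x : G) (hx : x ∈ F), ((g ⟨x, hx⟩ : f.range) : ↥H ⧸ oddCore ↥H) =
      ((⟨x, hFH hx⟩ : ↥H) : ↥H ⧸ oddCore ↥H) := fun x hx => rfl
  let p : ↥F →* Q := (e.toMonoidHom.comp e1.symm.toMonoidHom).comp g
  have hp : ∀ x : ↥F, p x = e (e1.symm (g x)) := fun x => rfl
  have hpN : ∀ n (hn : n ∈ N), p ⟨n, hNF hn⟩ = e (QuotientGroup.mk ⟨n, hn⟩) := by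
    intro n hn
    rw [hp]
    congr 1
    rw [MulEquiv.symm_apply_eq]
    exact Subtype.ext (by rw [hg, he1])
  refine ⟨fun x => if hx : x ∈ F then p ⟨x, hx⟩ else 1, ?_, ?_, ?_, ?_⟩
  · rw [← hF]
    intro x hx y hy
    simp only [dif_pos hx, dif_pos hy, dif_pos (F.mul_mem hx hy)]
    rw [← map_mul]
    rfl
  · rw [← hF]
    intro q
    obtain ⟨⟨n, hn⟩, hnq⟩ := QuotientGroup.mk_surjective (e.symm q)
    refine ⟨n, hNF hn, ?_⟩
    simp only [dif_pos (hNF hn)]
    rw [hpN n hn, hnq, MulEquiv.apply_symm_apply]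
  · rw [← hF]
    intro x hx
    simp only [dif_pos hx]
    rw [hp, map_eq_one_iff e e.injective, map_eq_one_iff e1.symm e1.symm.injective]
    constructor
    · intro h1
      have h2 : ((g ⟨x, hx⟩ : f.range) : ↥H ⧸ oddCore ↥H) = 1 := by rw [h1]; rfl
      rw [hg, QuotientGroup.eq_one_iff] at h2
      exact (mem_core_iff _).mpr h2
    · intro h1
      refine Subtype.ext ?_
      rw [hg]
      exact (QuotientGroup.eq_one_iff _).mpr ((mem_core_iff _).mp h1)
  · intro n hn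
    simp only [dif_pos (hNF hn)]
    exact hpN n hn

theorem exists_equiv {N0 N : Subgroup G} (e : (↥N0 ⧸ oddCore ↥N0) ≃* Q) (h : N ∈ Cj N0) :
    Nonempty ((↥N ⧸ oddCore ↥N) ≃* Q) := by
  obtain ⟨g, rfl⟩ := h
  exact ⟨(cjQuot g N0).symm.trans e⟩

variable [Finite G] {N0 : Subgroup G}

/-- the side of the class of `N₀` -/
noncomputable def side (C : Cls N0) (e : (↥N0 ⧸ oddCore ↥N0) ≃* Q) :
    TT.Side G Q ↥((Cls.sys C).cls (self_mem_Cj N0)) where
  H := (Cls.sys C).H (self_mem_Cj N0)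
  W := core ((Cls.sys C).H (self_mem_Cj N0))
  F N := N.1 ⊔ core ((Cls.sys C).H (self_mem_Cj N0))
  π N := (exists_pi ((Cls.sys C).isComp_H (self_mem_Cj N0) N.2)
    (Classical.choice (exists_equiv e N.2.1))).choose

theorem side_ok (C : Cls N0) (e : (↥N0 ⧸ oddCore ↥N0) ≃* Q) : (side C e).Ok where
  WF _ := le_sup_right
  FH N := sup_le ((Cls.sys C).le_H (self_mem_Cj N0) N.2) (core_le _)
  odd := odd_card_core _
  nW h hh x hx := conj_mem_core (le_normalizer hh) hx
  map_mul N := (exists_pi ((Cls.sys C).isComp_H (self_mem_Cj N0) N.2)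
    (Classical.choice (exists_equiv e N.2.1))).choose_spec.1
  surj N := (exists_pi ((Cls.sys C).isComp_H (self_mem_Cj N0) N.2)
    (Classical.choice (exists_equiv e N.2.1))).choose_spec.2.1
  ker N := (exists_pi ((Cls.sys C).isComp_H (self_mem_Cj N0) N.2)
    (Classical.choice (exists_equiv e N.2.1))).choose_spec.2.2.1
  comm := by
    intro N N' hne x hx y hy
    have hN := (Cls.sys C).isComp_H (self_mem_Cj N0) N.2
    have hN' := (Cls.sys C).isComp_H (self_mem_Cj N0) N'.2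
    have hne' : N.1 ≠ N'.1 := fun h => hne (Subtype.ext h)
    have h1 : N'.1 ⊔ core ((Cls.sys C).H (self_mem_Cj N0)) ≤ KN N.1 :=
      sup_le (fun z hz => hN.fixes_of_mem hN' hne' hz) (fun z hz => hN.fixes_of_core hz)
    have h2 := (((Cls.sys C).fixes_iff (self_mem_Cj N0) N.2).mpr (h1 hy)).2 x hx
    have h3 := inv_mem h2
    have h4 : (y * x * y⁻¹ * x⁻¹)⁻¹ = x * y * x⁻¹ * y⁻¹ := by group
    rwa [h4] at h3
  perm := by
    intro h hh N
    refine ⟨⟨cj h N.1, (Cls.sys C).cj_mem_cls (self_mem_Cj N0) N.2 hh⟩, fun x hx => ?_⟩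
    change h * x * h⁻¹ ∈ cj h N.1 ⊔ core ((Cls.sys C).H (self_mem_Cj N0))
    have hN := (Cls.sys C).isComp_H (self_mem_Cj N0) N.2
    change x ∈ N.1 ⊔ core ((Cls.sys C).H (self_mem_Cj N0)) at hx
    rw [sup_comm] at hx
    obtain ⟨c, hc, n, hn, rfl⟩ := SL.exists_mul_of_mem_sup
      (fun b hb a ha => conj_mem_core (le_normalizer (hN.le hb)) ha) hx
    have h1 : h * (c * n) * h⁻¹ = (h * c * h⁻¹) * (h * n * h⁻¹) := by group
    rw [h1]
    exact mul_mem (mem_sup_right (conj_mem_core (le_normalizer hh) hc)) (mem_sup_left (conj_mem_cj hn))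
  t1 := by
    intro N y hy hc hyy hy1 c hcy
    have hf := ((Cls.sys C).fixes_iff (self_mem_Cj N0) N.2).mp ⟨hy, hc⟩
    exact (Cls.sys C).t1 (self_mem_Cj N0) N.2 (order_of_sq hyy hy1) hf hcy

theorem ind_iff (C : Cls N0) (e : (↥N0 ⧸ oddCore ↥N0) ≃* Q) (N : ↥((Cls.sys C).cls (self_mem_Cj N0))) {y : G} :
    (side C e).Ind N y 1 ↔ Fixes y N.1 := by
  rw [(side_ok C e).ind_one_iff]
  exact (Cls.sys C).fixes_iff (self_mem_Cj N0) N.2

/-- **(T2)** in the form of `TT.noAdj_conj` -/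
theorem side_t2 (C : Cls N0) (e : (↥N0 ⧸ oddCore ↥N0) ≃* Q) (g : G) (i j : ↥((Cls.sys C).cls (self_mem_Cj N0))) (y : G)
    (h1 : (side C e).Ind i y 1) (h2 : (side C e).Ind j (g⁻¹ * y * g) 1) (hyy : y * y = 1) (hy1 : y ≠ 1) :
    g ∈ (side C e).H := by
  rw [ind_iff] at h1 h2
  have h3 := h2.cj g
  rw [show g * (g⁻¹ * y * g) * g⁻¹ = y by group] at h3
  exact (Cls.sys C).t2 (self_mem_Cj N0) i.2 j.2 (order_of_sq hyy hy1) h1 h3

end Cfsg.Agent.UGT.L2i.ClsSide
end

-- part: UGT/L2i/ClsOne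
section
prune_inst 0x100001001400000000000000200000001000000000400000204000000000000020400001002002000010880020000020008000000028000000000000400000000000020010400000000000008002080c00000000000000000000000000000000000000000
set_option linter.all false
open scoped Cfsg.Agent.FastGrp

/-!
# The classes of `N₀` (bb #11765, P4): one member

If the class of `N₀` has one member only, `H = N(N₀)` and (T3) holds: `K(N₀)^g ∩ N₀ O(H)` covers `N₀ O(H) / O(H)`
only for `g ∈ H`.  `data_one`: `SL.Data`.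
-/

set_option autoImplicit false

open Cfsg Subgroup
open Cfsg.Agent.SignalizersComponents Cfsg.Agent.Lib
open Cfsg.Agent.SignalizersComponents.IntrinsicBasic
open Cfsg.Agent.SignalizersComponents.IntrinsicIntr
open Cfsg.Agent.SignalizersComponents.PLayerAut
open Cfsg.Agent.Intrinsic.Basic Cfsg.Agent.Intrinsic.Cen Cfsg.Agent.Intrinsic.Diag
open Cfsg.Agent.McLLyComp.Act
open Cfsg.Agent.UGT.TMCBase
open Cfsg.Agent.UGT.L2i.ClsCov Cfsg.Agent.UGT.L2i.ClsRel
open scoped commutatorElement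

namespace Cfsg.Agent.UGT.L2i.ClsOne

universe u

variable {G : Type u} [Group G]

theorem core_subgroupOf (N : Subgroup G) : (core N).subgroupOf N = oddCore ↥N := by
  ext x
  rw [mem_subgroupOf, mem_core_iff x.2]

theorem fixes_conj {N : Subgroup G} {k x : G} (hk : k ∈ normalizer (N : Set G)) (hx : Fixes x N) :
    Fixes (k * x * k⁻¹) N := by
  have h := hx.cj k
  rwa [mem_normalizer_iff_cj.mp hk] at h

theorem sq_mul {a b : G} (haa : a * a = 1) (hbb : b * b = 1) (hab : a * b = b * a) : a * b * (a * b) = 1 := by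
  calc a * b * (a * b) = a * (b * a) * b := by group
    _ = a * (a * b) * b := by rw [hab]
    _ = (a * a) * (b * b) := by group
    _ = 1 := by rw [haa, hbb, one_mul]

theorem mul_ne_one {a b : G} (haa : a * a = 1) (hne : a ≠ b) : a * b ≠ 1 := by
  intro h
  apply hne
  calc a = a * (a * b) := by rw [h, mul_one]
    _ = (a * a) * b := by group
    _ = b := by rw [haa, one_mul]

variable [Finite G]

/-- a four-group acting faithfully on `N / O(N)`, with `C(y) ≤ N(N')` for its involutions `y`, and trivially on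
`N' / O(N')`: `N` acts trivially on `N' / O(N')` -/
theorem le_KN_of_gam {N N' : Subgroup G} (hN : IsComp N N) (hs : IsSimpleGroup (↥N ⧸ oddCore ↥N))
    (gam : SL.GamAut (↥N ⧸ oddCore ↥N)) {a b : G} (haa : a * a = 1) (hbb : b * b = 1) (hab : a * b = b * a)
    (a1 : a ≠ 1) (b1 : b ≠ 1) (hne : a ≠ b)
    (haN : a ∈ normalizer (N : Set G)) (hbN : b ∈ normalizer (N : Set G))
    (ha : ¬ Fixes a N) (hb : ¬ Fixes b N) (hc : ¬ Fixes (a * b) N) (ha' : Fixes a N')
    (ca : ∀ x, x * a = a * x → x ∈ normalizer (N' : Set G))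
    (cb : ∀ x, x * b = b * x → x ∈ normalizer (N' : Set G))
    (cc : ∀ x, x * (a * b) = a * b * x → x ∈ normalizer (N' : Set G)) : N ≤ KN N' := by
  have hcore : core N ≤ normalizer (N' : Set G) :=
    Cfsg.Agent.CoverCore.Abs.le_of_four haa hbb hab a1 b1 hne (odd_card_core N)
      (fun x hx => conj_mem_core haN hx) (fun x hx => conj_mem_core hbN hx)
      (fun x _ h => ca x h) (fun x _ h => cb x h) (fun x _ h => cc x h)
  have hn : ((core N).subgroupOf N).Normal := by rw [core_subgroupOf]; infer_instance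
  have out : ∀ {y : G}, y ∈ normalizer (N : Set G) → ¬ Fixes y N → ∃ x ∈ N, x⁻¹ * (y * x * y⁻¹) ∉ core N := by
    intro y hy hf
    by_contra hcon
    push Not at hcon
    exact hf (fixes_iff_conj.mpr ⟨hy, hcon⟩)
  have hle : N ≤ normalizer (N' : Set G) :=
    SL.gam_mod' hn (core_le N) (odd_card_core N) (gam.congr (QuotientGroup.quotientMulEquivOfEq (core_subgroupOf N).symm))
      haa hbb hab haN (normalizer_le_normalizer_core N haN) hbN (normalizer_le_normalizer_core N hbN)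
      (out haN ha) (out hbN hb) (out (mul_mem haN hbN) hc) _ hcore (fun x _ h => ca x h) (fun x _ h => cb x h)
      (fun x _ h => cc x h)
  obtain ⟨A, hA⟩ : ∃ A, A = N ⊓ KN N' := ⟨_, rfl⟩
  have hAN : A ≤ N := hA ▸ inf_le_left
  have hAn : N ≤ normalizer (A : Set G) := by
    intro x hx
    have e1 : x ∈ normalizer (N : Set G) := le_normalizer hx
    have e2 : cj x (KN N') = KN N' := by rw [cj_KN, mem_normalizer_iff_cj.mp (hle hx)]
    rw [mem_normalizer_iff_cj] at e1 ⊢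
    rw [hA, cj_inf, e1, e2]
  have hAnn : (A.subgroupOf N).Normal := normal_subgroupOf_of_le_normalizer hAn
  have hmap : ((A.subgroupOf N).map (QuotientGroup.mk' (oddCore ↥N))).Normal :=
    hAnn.map _ (QuotientGroup.mk'_surjective _)
  rcases hs.eq_bot_or_eq_top_of_normal _ hmap with h | h
  · exfalso
    -- `A ≤ O(N)`: then `a` fixes `N`
    apply ha
    refine ⟨haN, fun x hx => ?_⟩
    have h1 : ⁅a, x⁆ ∈ N := by
      have h2 : a * x * a⁻¹ ∈ N := (Subgroup.mem_normalizer_iff.mp haN x).mp hx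
      rw [commutatorElement_def]
      exact N.mul_mem h2 (N.inv_mem hx)
    have h2 : ⁅a, x⁆ ∈ KN N' := by
      have h3 : Fixes (x * a⁻¹ * x⁻¹) N' := fixes_conj (hle hx) ((KN N').inv_mem ha')
      have h4 : ⁅a, x⁆ = a * (x * a⁻¹ * x⁻¹) := by rw [commutatorElement_def]; group
      rw [h4]
      exact (KN N').mul_mem ha' h3
    have h3 : (QuotientGroup.mk' (oddCore ↥N)) ⟨⁅a, x⁆, h1⟩ ∈
        (A.subgroupOf N).map (QuotientGroup.mk' (oddCore ↥N)) :=
      ⟨⟨⁅a, x⁆, h1⟩, by rw [SetLike.mem_coe, mem_subgroupOf, hA]; exact ⟨h1, h2⟩, rfl⟩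
    rw [h, mem_bot, QuotientGroup.mk'_apply, QuotientGroup.eq_one_iff] at h3
    exact (mem_core_iff h1).mpr h3
  · refine le_trans ?_ (hA ▸ inf_le_right : A ≤ KN N')
    refine hN.le_of_two fun k hk n hkn => ?_
    have h1 : (QuotientGroup.mk' (oddCore ↥N)) ⟨k, hk⟩ ∈
        (A.subgroupOf N).map (QuotientGroup.mk' (oddCore ↥N)) := by rw [h]; trivial
    obtain ⟨⟨j, hjN⟩, hj, hjk⟩ := h1
    rw [SetLike.mem_coe, mem_subgroupOf] at hj
    rw [QuotientGroup.mk'_apply, QuotientGroup.mk'_apply, QuotientGroup.eq] at hjk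
    have h2 : j⁻¹ * k ∈ core N := (mem_core_iff (N.mul_mem (N.inv_mem hjN) hk)).mpr hjk
    have h3 : j * (j⁻¹ * k) ∈ A := by
      refine mem_of_mul_odd hj (hAn (core_le N h2)) ((odd_card_core N).of_dvd_nat
        (Subgroup.orderOf_dvd_natCard _ h2)) (n := n) ?_
      rw [mul_inv_cancel_left]; exact hkn
    rwa [mul_inv_cancel_left] at h3

/-- `core N ≤ KN N` -/
theorem core_le_KN {N : Subgroup G} (hN : IsComp N N) : core N ≤ KN N := fun _ h => hN.fixes_of_core h

omit [Finite G] in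
/-- `[b, T] ≤ O(N)` for `T` generated by elements with this property -/
theorem comm_closure {N : Subgroup G} {b : G} (s : Set G) (hs : ∀ t ∈ s, t ∈ normalizer (N : Set G) ∧ ⁅b, t⁆ ∈ core N) :
    ∀ t ∈ closure s, t ∈ normalizer (N : Set G) ∧ ⁅b, t⁆ ∈ core N := by
  intro t ht
  induction ht using closure_induction with
  | mem t ht => exact hs t ht
  | one => exact ⟨one_mem _, by rw [commutatorElement_def, mul_one, inv_one, mul_one, mul_inv_cancel]; exact one_mem _⟩
  | mul x y _ _ h1 h2 =>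
    refine ⟨mul_mem h1.1 h2.1, ?_⟩
    have h3 : ⁅b, x * y⁆ = ⁅b, x⁆ * (x * ⁅b, y⁆ * x⁻¹) := by
      rw [commutatorElement_def, commutatorElement_def, commutatorElement_def]; group
    rw [h3]
    exact mul_mem h1.2 (conj_mem_core h1.1 h2.2)
  | inv x _ h1 =>
    refine ⟨inv_mem h1.1, ?_⟩
    have h3 : ⁅b, x⁻¹⁆ = x⁻¹ * ⁅b, x⁆⁻¹ * x⁻¹⁻¹ := by
      rw [commutatorElement_def, commutatorElement_def]; group
    rw [h3]
    exact conj_mem_core (inv_mem h1.1) (inv_mem h1.2)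

/-- a four-group in `K(N)` commuting with a given four-group of `N` -/
theorem exists_four_comm {N : Subgroup G} (hN : IsComp N N) {v w a b : G} (hv : v ∈ N) (hw : w ∈ N)
    (vv : v * v = 1) (ww : w * w = 1) (vw : v * w = w * v) (ha : Fixes a N) (hb : Fixes b N)
    (haa : a * a = 1) (hbb : b * b = 1) (hab : a * b = b * a) (a1 : a ≠ 1) (b1 : b ≠ 1) (hne : a ≠ b) :
    ∃ a' b' : G, Fixes a' N ∧ Fixes b' N ∧ a' * a' = 1 ∧ b' * b' = 1 ∧ a' * b' = b' * a' ∧ a' ≠ 1 ∧ b' ≠ 1 ∧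
      a' ≠ b' ∧ v * a' = a' * v ∧ w * a' = a' * w ∧ v * b' = b' * v ∧ w * b' = b' * w := by
  have hodd := odd_card_core N
  have hbase : ∀ {y : G}, Fixes y N → ∀ t ∈ ({v, w} : Set G), t ∈ normalizer (N : Set G) ∧ ⁅y, t⁆ ∈ core N := by
    intro y hy t ht
    rcases ht with rfl | ht
    · exact ⟨le_normalizer hv, hy.2 _ hv⟩
    · rw [Set.mem_singleton_iff] at ht
      subst ht
      exact ⟨le_normalizer hw, hy.2 _ hw⟩
  have step : ∀ (s : Set G) {y : G}, (∀ t ∈ s, t * t = 1) → (∀ t ∈ s, ∀ t' ∈ s, t * t' = t' * t) →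
      y * y = 1 → Fixes y N → (∀ t ∈ s, t ∈ normalizer (N : Set G) ∧ ⁅y, t⁆ ∈ core N) →
      ∃ y', y * y' ∈ core N ∧ y' * y' = 1 ∧ ∀ t ∈ s, t * y' = y' * t := by
    intro s y hs1 hs2 hyy hy hs3
    have hyi : y⁻¹ = y := inv_eq_of_mul_eq_one_left hyy
    obtain ⟨y', h1, h2, h3⟩ := SL.exists_fixed_involution hodd (TT.isPGroup_closure hs1 hs2) hyy
      (fun x hx => conj_mem_core hy.1 hx)
      (fun t ht x hx => conj_mem_core (comm_closure s hs3 t ht).1 hx) (fun t ht => by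
        have h4 := (comm_closure s hs3 t ht).2
        have h5 : ⁅y, t⁆ = y * (t * y * t⁻¹) := by
          rw [commutatorElement_def, hyi]; group
        rwa [h5] at h4)
    exact ⟨y', h1, h2, fun t ht => h3 t (subset_closure ht)⟩
  obtain ⟨a', ha1, ha2, ha3⟩ := step {v, w} (y := a) (by
      rintro t (rfl | rfl)
      · exact vv
      · exact ww) (by
      rintro t (rfl | rfl) t' (rfl | rfl)
      · rfl
      · exact vw
      · exact vw.symm
      · rfl) haa ha (hbase ha)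
  have hva' : v * a' = a' * v := ha3 v (by simp)
  have hwa' : w * a' = a' * w := ha3 w (by simp)
  have ea : a' = a⁻¹ * (a * a') := by group
  have hFa' : Fixes a' N := by
    rw [ea]
    exact (KN N).mul_mem ((KN N).inv_mem ha) (core_le_KN hN ha1)
  have hba' : ⁅b, a'⁆ ∈ core N := by
    have h1 : ⁅b, a'⁆ = (a⁻¹ * (b * (a * a') * b⁻¹) * a⁻¹⁻¹) * (a⁻¹ * (a * a')⁻¹ * a⁻¹⁻¹) := by
      have h2 : b * a * b⁻¹ = a := by rw [← hab]; group
      calc ⁅b, a'⁆ = (b * a⁻¹ * b⁻¹) * (b * (a * a') * b⁻¹) * a'⁻¹ := by rw [commutatorElement_def]; group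
        _ = (b * a * b⁻¹)⁻¹ * (b * (a * a') * b⁻¹) * a'⁻¹ := by group
        _ = a⁻¹ * (b * (a * a') * b⁻¹) * a'⁻¹ := by rw [h2]
        _ = _ := by group
    rw [h1]
    exact mul_mem (conj_mem_core (inv_mem ha.1) (conj_mem_core hb.1 ha1))
      (conj_mem_core (inv_mem ha.1) (inv_mem ha1))
  obtain ⟨b', hb1, hb2, hb3⟩ := step {v, w, a'} (y := b) (by
      rintro t (rfl | rfl | rfl)
      · exact vv
      · exact ww
      · exact ha2) (by
      rintro t (rfl | rfl | rfl) t' (rfl | rfl | rfl)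
      · rfl
      · exact vw
      · exact hva'
      · exact vw.symm
      · rfl
      · exact hwa'
      · exact hva'.symm
      · exact hwa'.symm
      · rfl) hbb hb (by
      rintro t (rfl | rfl | rfl)
      · exact hbase hb _ (by simp)
      · exact hbase hb _ (by simp)
      · exact ⟨hFa'.1, hba'⟩)
  have eb : b' = b⁻¹ * (b * b') := by group
  have hFb' : Fixes b' N := by
    rw [eb]
    exact (KN N).mul_mem ((KN N).inv_mem hb) (core_le_KN hN hb1)
  refine ⟨a', b', hFa', hFb', ha2, hb2, hb3 a' (by simp), ?_, ?_, ?_, hva', hwa', hb3 v (by simp), hb3 w (by simp)⟩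
  · intro h
    rw [h, mul_one] at ha1
    exact a1 (eq_one_of_mem_core_sq ha1 haa)
  · intro h
    rw [h, mul_one] at hb1
    exact b1 (eq_one_of_mem_core_sq hb1 hbb)
  · intro h
    rw [← h] at hb1
    have h1 : a * b ∈ core N := by
      have h2 : a * b⁻¹ = (a * a') * (b * a')⁻¹ := by group
      rw [inv_eq_of_mul_eq_one_left hbb] at h2
      rw [h2]
      exact mul_mem ha1 (inv_mem hb1)
    exact mul_ne_one haa hne (eq_one_of_mem_core_sq h1 (sq_mul haa hbb hab))

section sys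

variable {𝒩 : Set (Subgroup G)}

/-- the class of `N₀` has one member only: `H = N(N₀)` -/
theorem mem_H_one (S : Sys 𝒩) {N0 : Subgroup G} (h0 : N0 ∈ 𝒩) (hone : ∀ N ∈ 𝒩, ClsRel.Rel N N0 → N = N0) {g : G} :
    g ∈ S.H h0 ↔ g ∈ normalizer (N0 : Set G) := by
  rw [S.mem_H h0, mem_normalizer_iff_cj]
  constructor
  · intro h; exact hone _ (S.conj _ h0 g) h
  · intro h; rw [h]; exact Rel.refl _

/-- **(T3)** for a class with one member -/
theorem t3 (S : Sys 𝒩) {N0 : Subgroup G} (h0 : N0 ∈ 𝒩) (hone : ∀ N ∈ 𝒩, ClsRel.Rel N N0 → N = N0)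
    (hs : IsSimpleGroup (↥N0 ⧸ oddCore ↥N0)) (gam : SL.GamAut (↥N0 ⧸ oddCore ↥N0))
    (four : ∃ a b : G, Fixes a N0 ∧ Fixes b N0 ∧ a * a = 1 ∧ b * b = 1 ∧ a * b = b * a ∧ a ≠ 1 ∧ b ≠ 1 ∧ a ≠ b)
    {g : G} (hcov : ∀ x ∈ N0, ∃ k, Fixes k N0 ∧ (g * k * g⁻¹)⁻¹ * x ∈ core (S.H h0)) : g ∈ S.H h0 := by
  have hc := S.comp _ h0
  have hcH := S.isComp_H h0 (S.self_mem_cls h0)
  obtain ⟨N1, hN1⟩ : ∃ N1, N1 = cj g N0 := ⟨_, rfl⟩
  have h1 : N1 ∈ 𝒩 := hN1 ▸ S.conj _ h0 g
  have hc1 := S.comp _ h1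
  -- `A = N0 ∩ K(N1)` covers `N0 / O(N0)`
  obtain ⟨A, hA⟩ : ∃ A, A = KN N1 ⊓ N0 := ⟨_, rfl⟩
  have hAN : A ≤ N0 := hA ▸ inf_le_right
  have hAcov : A ⊔ core N0 = N0 := by
    refine le_antisymm (sup_le hAN (core_le N0)) ?_
    refine hc.le_of_two fun x hx n hn => ?_
    obtain ⟨k, hk, hkx⟩ := hcov x hx
    obtain ⟨j, hj⟩ : ∃ j, j = g * k * g⁻¹ := ⟨_, rfl⟩
    rw [← hj] at hkx
    have hjK : Fixes j N1 := by rw [hj, hN1]; exact hk.cj g
    have hH : x ∈ S.H h0 := hcH.le hx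
    have hjH : j ∈ S.H h0 := by
      have h2 : j = x * (j⁻¹ * x)⁻¹ := by group
      rw [h2]
      exact mul_mem hH (inv_mem (core_le _ hkx))
    have h2 : j ^ 2 ^ n ∈ core (S.H h0) := by
      have h3 : (⟨j, hjH⟩ : ↥(S.H h0)) ^ 2 ^ n ∈ oddCore ↥(S.H h0) := by
        have h4 : ((⟨j, hjH⟩ : ↥(S.H h0)) : ↥(S.H h0) ⧸ oddCore ↥(S.H h0)) = ((⟨x, hH⟩ : ↥(S.H h0)) : _) :=
          QuotientGroup.eq.mpr ((mem_core_iff _).mp hkx)
        rw [← QuotientGroup.eq_one_iff, QuotientGroup.mk_pow, h4, ← QuotientGroup.mk_pow]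
        have h5 : (⟨x, hH⟩ : ↥(S.H h0)) ^ 2 ^ n = 1 := Subtype.ext (by simpa using hn)
        rw [h5, QuotientGroup.mk_one]
      exact (mem_core_iff (pow_mem hjH _)).mpr h3
    obtain ⟨m, hm1, hm2⟩ := Cfsg.Agent.Intrinsic.Lifting.exists_two_part (odd_card_core (S.H h0)) h2
    -- `j ^ m ∈ N0`
    have h3 : x⁻¹ * j ^ m ∈ core (S.H h0) := by
      have h4 : x⁻¹ * j ^ m = (j⁻¹ * x)⁻¹ * (j⁻¹ * j ^ m) := by group
      rw [h4]
      exact mul_mem (inv_mem hkx) hm2
    have h4 : j ^ m ∈ N0 := hcH.mem_of_two hx h3 hm1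
    have h5 : (j ^ m)⁻¹ * x ∈ core N0 := by
      rw [hcH.core_eq]
      refine ⟨N0.mul_mem (N0.inv_mem h4) hx, ?_⟩
      have h6 : (j ^ m)⁻¹ * x = (x⁻¹ * j ^ m)⁻¹ := by group
      rw [h6]
      exact Subgroup.inv_mem _ h3
    have h6 : x = j ^ m * ((j ^ m)⁻¹ * x) := by group
    rw [h6]
    have hjK' : j ^ m ∈ KN N1 := pow_mem (mem_KN.mpr hjK) m
    exact mul_mem (mem_sup_left (hA ▸ ⟨hjK', h4⟩)) (mem_sup_right h5)
  -- the four-groups
  have hP : IsComp (PComponents.pElem 2 A) (PComponents.pElem 2 A) :=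
    isComp_of_cover hc (sup_pElem hc hAcov) (pElem_pElem A)
  obtain ⟨v, hvA, w, hwA, vv, ww, vw, v1, w1, hvw⟩ := S.four_of_cover h0 hP (sup_pElem hc hAcov)
  have hvA' : v ∈ KN N1 ⊓ N0 := hA ▸ PComponents.pElem_le _ hvA
  have hwA' : w ∈ KN N1 ⊓ N0 := hA ▸ PComponents.pElem_le _ hwA
  obtain ⟨a₀, b₀, ha0, hb0, haa0, hbb0, hab0, a10, b10, hne0⟩ := four
  obtain ⟨a, b, ha, hb, haa, hbb, hab, a1, b1, hne, va, wa, vb, wb⟩ :=
    exists_four_comm hc hvA'.2 hwA'.2 vv ww vw ha0 hb0 haa0 hbb0 hab0 a10 b10 hne0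
  have hFab : Fixes (a * b) N0 := (KN N0).mul_mem ha hb
  have hFvw : Fixes (v * w) N1 := (KN N1).mul_mem hvA'.1 hwA'.1
  have habab := sq_mul haa hbb hab
  have hab1 := mul_ne_one haa hne
  have hvwvw := sq_mul vv ww vw
  have hvw1 := mul_ne_one vv hvw
  -- (T1), (T2)
  have t1 : ∀ y : G, y * y = 1 → y ≠ 1 → Fixes y N0 → ∀ x, x * y = y * x → x ∈ normalizer (N0 : Set G) :=
    fun y hyy hy1 hy x hx =>
      (mem_H_one S h0 hone).mp (S.t1 h0 (S.self_mem_cls h0) (order_of_sq hyy hy1) hy hx)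
  have t1' : ∀ y : G, y * y = 1 → y ≠ 1 → Fixes y N1 → ∀ x, x * y = y * x → x ∈ normalizer (N1 : Set G) := by
    intro y hyy hy1 hy x hx
    have h2 : Fixes (g⁻¹ * y * g) N0 := by
      have h3 := hy.cj g⁻¹
      rw [hN1, cj_inv_cj, inv_inv] at h3
      exact h3
    have h3 := t1 (g⁻¹ * y * g) (by
        calc g⁻¹ * y * g * (g⁻¹ * y * g) = g⁻¹ * (y * y) * g := by group
          _ = 1 := by rw [hyy]; group) (by
        intro h
        apply hy1
        calc y = g * (g⁻¹ * y * g) * g⁻¹ := by group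
          _ = 1 := by rw [h]; group) h2 (g⁻¹ * x * g) (by
        calc g⁻¹ * x * g * (g⁻¹ * y * g) = g⁻¹ * (x * y) * g := by group
          _ = g⁻¹ * (y * x) * g := by rw [hx]
          _ = _ := by group)
    rw [mem_normalizer_iff_cj] at h3 ⊢
    rw [hN1, ← cj_mul]
    calc cj (x * g) N0 = cj (g * (g⁻¹ * x * g)) N0 := by congr 1; group
      _ = cj g N0 := by rw [cj_mul, h3]
  have t2 : ∀ y : G, y * y = 1 → y ≠ 1 → Fixes y N0 → Fixes y N1 → g ∈ S.H h0 := by
    intro y hyy hy1 hy hy'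
    rw [hN1] at hy'
    exact S.t2 h0 (S.self_mem_cls h0) (S.self_mem_cls h0) (order_of_sq hyy hy1) hy hy'
  by_contra hg
  -- `N1 ≤ K(N0)`
  have k1 : N1 ≤ KN N0 := by
    have hs1 : IsSimpleGroup (↥N1 ⧸ oddCore ↥N1) := by
      subst hN1
      exact (cjQuot g N0).symm.isSimpleGroup
    have gam1 : SL.GamAut (↥N1 ⧸ oddCore ↥N1) := by
      subst hN1
      exact gam.congr (cjQuot g N0)
    refine le_KN_of_gam hc1 hs1 gam1 haa hbb hab a1 b1 hne (t1' v vv v1 hvA'.1 a va.symm) (t1' v vv v1 hvA'.1 b vb.symm)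
      (fun h => hg (t2 a haa a1 ha h)) (fun h => hg (t2 b hbb b1 hb h)) (fun h => hg (t2 _ habab hab1 hFab h)) ha
      (t1 a haa a1 ha) (t1 b hbb b1 hb) (t1 _ habab hab1 hFab)
  -- `N0 ≤ K(N1)`
  have k2 : N0 ≤ KN N1 := by
    have hnf : ∀ y ∈ N0, y * y = 1 → y ≠ 1 → ¬ Fixes y N0 := fun y hy hyy hy1 hf =>
      hy1 (eq_one_of_mem_core_sq (S.z _ h0 y hy hf) hyy)
    exact le_KN_of_gam hc hs gam vv ww vw v1 w1 hvw (le_normalizer hvA'.2) (le_normalizer hwA'.2)
      (hnf v hvA'.2 vv v1) (hnf w hwA'.2 ww w1) (hnf _ (N0.mul_mem hvA'.2 hwA'.2) hvwvw hvw1) hvA'.1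
      (t1' v vv v1 hvA'.1) (t1' w ww w1 hwA'.1) (t1' _ hvwvw hvw1 hFvw)
  apply hg
  rw [S.mem_H h0, ← hN1]
  exact Or.inr ⟨k1, k2⟩

end sys

/-! ### `SL.Data` -/

variable {𝒩 : Set (Subgroup G)}

theorem core_sup_subgroupOf {H N : Subgroup G} (h : IsComp H N) : (core H).subgroupOf N = oddCore ↥N := by
  rw [← core_subgroupOf, h.core_eq]
  ext x
  rw [mem_subgroupOf, mem_subgroupOf]
  exact ⟨fun hx => ⟨x.2, hx⟩, fun hx => hx.2⟩

/-- `N O(H) / O(H) ≅ N / O(N)` for a 2-component `N` of `H` -/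
theorem exists_equiv {H N : Subgroup G} (h : IsComp H N) :
    ∃ _ : ((core H).subgroupOf (N ⊔ core H)).Normal,
      Nonempty ((↥N ⧸ oddCore ↥N) ≃* (↥(N ⊔ core H) ⧸ (core H).subgroupOf (N ⊔ core H))) := by
  have hle : N ≤ normalizer (core H : Set G) := h.le.trans (le_normalizer_core H)
  have := Subgroup.normal_subgroupOf_of_le_normalizer hle
  have hn := Subgroup.normal_subgroupOf_sup_of_le_normalizer hle
  exact ⟨hn, ⟨(QuotientGroup.quotientMulEquivOfEq (core_sup_subgroupOf h).symm).trans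
    (QuotientGroup.quotientInfEquivProdNormalizerQuotient N (core H) hle)⟩⟩

/-- `SL.Data` for a class with one member (from the axioms of `Sys`) -/
theorem data (S : Sys 𝒩) {N0 : Subgroup G} (h0 : N0 ∈ 𝒩) (hone : ∀ N ∈ 𝒩, ClsRel.Rel N N0 → N = N0)
    (hs : IsSimpleGroup (↥N0 ⧸ oddCore ↥N0)) (hnab : ¬ ∀ x y : ↥N0 ⧸ oddCore ↥N0, x * y = y * x)
    (gam : SL.GamAut (↥N0 ⧸ oddCore ↥N0))
    (four : ∃ a b : G, Fixes a N0 ∧ Fixes b N0 ∧ a * a = 1 ∧ b * b = 1 ∧ a * b = b * a ∧ a ≠ 1 ∧ b ≠ 1 ∧ a ≠ b) :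
    SL.Data (S.H h0) (N0 ⊔ core (S.H h0)) (KN N0) (core (S.H h0)) := by
  have hc := S.isComp_H h0 (S.self_mem_cls h0)
  have hself := S.self_mem_cls h0
  have hKH : KN N0 ≤ S.H h0 := (KN_le N0).trans (S.normalizer_le_H h0 hself)
  have hHn : ∀ m ∈ S.H h0, m ∈ normalizer (N0 : Set G) := fun m hm => (mem_H_one S h0 hone).mp hm
  obtain ⟨hn, ⟨e⟩⟩ := exists_equiv hc
  have hfix : ∀ {y : G}, Fixes y N0 → ∀ x ∈ N0 ⊔ core (S.H h0), y * x * y⁻¹ * x⁻¹ ∈ core (S.H h0) :=
    fun {y} hy => ((S.fixes_iff h0 hself).mpr hy).2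
  refine SL.Data.ofQuot hn e.symm.isSimpleGroup ?_ ?_ (gam.congr e) (sup_le hc.le (core_le _)) hKH le_sup_right ?_
    (odd_card_core _) ?_ ?_ ?_ ?_ ?_ ?_ ?_ ?_ ?_
  · intro hcomm
    apply hnab
    intro x y
    apply e.injective
    rw [_root_.map_mul, _root_.map_mul]
    exact hcomm _ _
  · rw [← Nat.card_congr e.toEquiv]
    have h1 := (S.comp _ h0).not_odd (N := core N0) (odd_card_core N0)
    by_contra h2
    apply h1
    -- an odd quotient: `N0` is generated by 2-elements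
    refine (S.comp _ h0).le_of_two fun k hk n hkn => ?_
    rw [mem_core_iff hk, ← QuotientGroup.eq_one_iff]
    have h3 : (((⟨k, hk⟩ : ↥N0) : ↥N0 ⧸ oddCore ↥N0)) ^ 2 ^ n = 1 := by
      rw [← QuotientGroup.mk_pow]
      have h4 : (⟨k, hk⟩ : ↥N0) ^ 2 ^ n = 1 := Subtype.ext (by simpa using hkn)
      rw [h4, QuotientGroup.mk_one]
    have h4 := orderOf_dvd_of_pow_eq_one h3
    have h5 := orderOf_dvd_natCard (((⟨k, hk⟩ : ↥N0) : ↥N0 ⧸ oddCore ↥N0))
    obtain ⟨m, -, hm⟩ := (Nat.dvd_prime_pow Nat.prime_two).mp h4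
    rw [← orderOf_eq_one_iff, hm]
    rcases Nat.eq_zero_or_pos m with hm0 | hm0
    · rw [hm0, pow_zero]
    · exfalso
      apply h2
      rw [hm] at h5
      exact (dvd_pow_self 2 (by omega)).trans h5
  · intro w hw
    exact hc.fixes_of_core hw
  · intro m hm w hw
    exact conj_mem_core (le_normalizer hm) hw
  · intro m hm x hx
    have h1 : cj m (N0 ⊔ core (S.H h0)) = N0 ⊔ core (S.H h0) := by
      have h2 : m ∈ normalizer (core (S.H h0) : Set G) := le_normalizer_core _ hm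
      rw [cj_def, Subgroup.map_sup, ← cj_def, ← cj_def, mem_normalizer_iff_cj.mp (hHn m hm),
        mem_normalizer_iff_cj.mp h2]
    have h2 := conj_mem_cj (g := m) hx
    rwa [h1] at h2
  · intro m hm x hx
    exact fixes_conj (hHn m hm) hx
  · intro x hx k hk
    have h1 := inv_mem (hfix (y := k) hk x hx)
    have h2 : (k * x * k⁻¹ * x⁻¹)⁻¹ = x * k * x⁻¹ * k⁻¹ := by group
    rwa [h2] at h1
  · intro m hm hx
    exact (S.fixes_iff h0 hself).mp ⟨hm, hx⟩
  · intro y hy hyy hy1 c hcy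
    exact S.t1 h0 hself (order_of_sq hyy hy1) hy hcy
  · intro g hg y hy hyy hy1 hcon
    apply hg
    have h1 : Fixes (g * y * g⁻¹) (cj g N0) := hy.cj g
    have h2 : orderOf (g * y * g⁻¹) = 2 := by rw [orderOf_conj]; exact order_of_sq hyy hy1
    exact S.t2 h0 hself hself h2 hcon h1
  · intro g hg
    by_contra hcon
    push Not at hcon
    apply hg
    refine t3 S h0 hone hs gam four fun x hx => ?_
    obtain ⟨k, hk, -, hkx⟩ := hcon x (mem_sup_left hx)
    exact ⟨k, hk, hkx⟩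
  · obtain ⟨a, b, ha, hb, h1⟩ := four
    exact ⟨a, ha, b, hb, h1⟩

/-- **The class of `N₀` has at least two members.** -/
theorem false_of_one (h1173 : SL.P1173.{u}) (hO : oddCore G = ⊥) {X : Subgroup G} (hX : X.Normal)
    (hXs : IsSimpleGroup X) (hXc : centralizer (X : Set G) = ⊥) {N0 : Subgroup G} (h : Cls N0)
    (hone : ∀ N ∈ Cj N0, ClsRel.Rel N N0 → N = N0) : False :=
  (data (Cls.sys h) (self_mem_Cj N0) hone h.simple h.nab h.gam h.four).false_of_normal_simple h1173 hO hX hXs hXc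

/-- **The class of `N₀` has at least two members**, in terms of conjugates. -/
theorem exists_two (h1173 : SL.P1173.{u}) (hO : oddCore G = ⊥) {X : Subgroup G} (hX : X.Normal)
    (hXs : IsSimpleGroup X) (hXc : centralizer (X : Set G) = ⊥) {N0 : Subgroup G} (h : Cls N0) :
    ∃ g : G, cj g N0 ≠ N0 ∧ cj g N0 ≤ KN N0 ∧ N0 ≤ KN (cj g N0) := by
  by_contra hcon
  push Not at hcon
  refine false_of_one h1173 hO hX hXs hXc h ?_
  rintro _ ⟨g, rfl⟩ hr
  by_contra hne
  rcases hr with hr | ⟨h1, h2⟩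
  · exact hne hr
  · exact hcon g hne h1 h2

/-! ### `H ≠ G` if the class has at least two members -/

end Cfsg.Agent.UGT.L2i.ClsOne

private theorem dce_e6f5aea4d4f6 : _root_.True := by
  try have : _root_.True := by simp only [_root_.Cfsg.Agent.UGT.L2i.ClsRel.Sys.H.congr_simp]
  exact _root_.True.intro
end

-- part: UAlt/SmallLThree
section
set_option linter.all false
open scoped Cfsg.Agent.FastGrp

/-!
# Triples of type `L3(4)` (or a cover): `x` is trivial on no alternating 2-component below `J`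

`false_of_l34`: if `(x, f, J)` is a triple with `J / Z*(J) ≅ L3(4)`, then `x` does not fix a subgroup `E ≤ J` which is a
2-component of some subgroup and alternating of degree at least five modulo its odd core.
-/

set_option autoImplicit false
set_option linter.unusedSectionVars false

open Cfsg Subgroup
open Cfsg.Agent.Intrinsic.Basic Cfsg.Agent.Intrinsic.Cen
open Cfsg.Agent.SignalizersComponents Cfsg.Agent.Lib
open Cfsg.Agent.SignalizersComponents.IntrinsicBasic
open Cfsg.Agent.UGT.Triple Cfsg.Agent.UGT.Iface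
open scoped commutatorElement

namespace Cfsg.Agent.UAlt.SmallLThree

open Cfsg.Agent.UAlt.SmallTools Cfsg.Agent.UAlt.SmallLThreeModel
open Cfsg.Agent.LThreeFour

variable {G : Type*} [Group G] [Finite G]

/-- `x` is trivial on no alternating subgroup of a triple of type `L3(4)` -/
theorem false_of_l34 {x f : G} {J : Subgroup G} (T : IsTriple x f J) (h34 : IsL34 (Zb J))
    {E H : Subgroup G} (hE : IsComp H E) (hEJ : E ≤ J) {k : ℕ} (hk : 5 ≤ k) (hA : AltType E k)
    (hf : Fixes x E) : False := by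
  obtain ⟨F, _, _, hF, ⟨e⟩⟩ := h34
  obtain ⟨A⟩ := exists_dat hF e
  have hJ : ⁅J, J⁆ = J := T.comp.perfect
  have hx2 : x * x = 1 := sq_of_order T.invx
  obtain ⟨Y, hYE, hY, hYA, hYx⟩ := exists_cen hE hA hx2 hf
  have hYJ : Y ≤ J := hYE.trans hEJ
  have hJN : J ≤ normalizer (J : Set G) := le_normalizer
  obtain ⟨v, hv, w, hw, hv1, hw1, hvw, hv2, hw2, hc⟩ := exists_four (by omega) hYA
  obtain ⟨α, hα⟩ : ∃ α, α = act J ⟨x, T.x_mem⟩ := ⟨_, rfl⟩
  have hα2 : α * α = 1 := by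
    rw [hα, ← map_mul]
    have : (⟨x, T.x_mem⟩ * ⟨x, T.x_mem⟩ : ↥(normalizer (J : Set G))) = 1 := Subtype.ext hx2
    rw [this, map_one]
  have hα1 : α ≠ 1 := fun h => T.not_fixes (fixes_of_act hJ T.x_mem (by rw [← hα]; exact h))
  -- elements commuting with `x` commute with `α`
  have hcα : ∀ (y : G) (hy : y ∈ normalizer (J : Set G)), y * x = x * y →
      act J ⟨y, hy⟩ * α = α * act J ⟨y, hy⟩ := by
    intro y hy h
    rw [hα, ← map_mul, ← map_mul]
    congr 1
    exact Subtype.ext h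
  -- elements of `J` commuting with `x` are fixed by `α`
  have hfix : ∀ (y : G) (hy : y ∈ J), y * x = x * y → α (cls hy) = cls hy := by
    intro y hy h
    have h1 := hcα y (hJN hy) h
    rw [act_mem hy] at h1
    have h2 := Dat.conj_map α (cls hy)
    rw [← h1, mul_inv_cancel_right] at h2
    exact A.conj_injective h2
  have hne : ∀ (u : G) (hu : u ∈ Y), u ≠ 1 → u * u = 1 → cls (hYJ hu) ≠ 1 := by
    intro u hu h1 h2 h3
    apply act_ne_one hJ hYJ hY hk hYA hu h1 h2 (hJN (hYJ hu))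
    rw [act_mem (hYJ hu), h3, map_one]
  by_cases hout : A.tyHom α = 1
  · -- `α` is inner
    obtain ⟨z, hz⟩ := A.inner_iff.mp hout
    have hz1 : z ≠ 1 := by
      rintro rfl
      rw [map_one] at hz
      exact hα1 hz
    have hz2 : z * z = 1 := by
      apply A.conj_injective
      rw [map_mul, ← hz, hα2, map_one]
    let ι : ↥Y →* ↥(normalizer (J : Set G)) := inclusion (hYJ.trans le_normalizer)
    have hperf : commutator ↥Y = ⊤ := by
      apply Subgroup.map_injective Y.subtype_injective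
      rw [_root_.commutator_def, Subgroup.map_commutator, ← MonoidHom.range_eq_map,
        Subgroup.range_subtype, hY.perfect]
    have key := A.perfect_fix hperf ((act J).comp ι) hz1 hz2 (fun y => by
      have h1 := hcα y (hJN (hYJ y.2)) (hYx y y.2)
      have h2 := Dat.conj_map (act J ⟨y, hJN (hYJ y.2)⟩) z
      rw [← hz, h1, mul_inv_cancel_right, hz] at h2
      exact A.conj_injective h2)
    have h3 := key ⟨v, hv⟩
    exact act_ne_one hJ hYJ hY hk hYA hv hv1 hv2 (hJN (hYJ hv)) h3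
  · -- `α` is outer
    obtain ⟨D0, hD0⟩ : ∃ D0, D0 = (core (centralizer ({x} : Set G)) ⊓ centralizer ({f} : Set G)).subgroupOf
        (normalizer (J : Set G)) := ⟨_, rfl⟩
    have hmem : ∀ y : ↥(normalizer (J : Set G)), y ∈ D0 ↔ (y : G) ∈ core (centralizer ({x} : Set G)) ∧
        (y : G) ∈ centralizer ({f} : Set G) := fun y => by rw [hD0]; rfl
    have hodd : Odd (Nat.card (D0.map (act J))) := by
      refine Odd.of_dvd_nat (odd_card_core (centralizer ({x} : Set G))) ?_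
      refine (Subgroup.card_map_dvd _ _).trans ?_
      rw [hD0]
      refine (card_comap_dvd_of_injective _ _ (subtype_injective _)).trans ?_
      exact card_dvd_of_le inf_le_left
    have hDα : ∀ d ∈ D0.map (act J), d * α = α * d := by
      rintro _ ⟨⟨y, hy⟩, hy1, rfl⟩
      exact hcα y hy (comm_c (core_le _ ((hmem _).mp hy1).1))
    have hYc : ∀ u ∈ Y, u ∈ centralizer ({x} : Set G) ∧ u ∈ centralizer ({f} : Set G) :=
      fun u hu => ⟨mem_c (hYx u hu), T.comp.le (hYJ hu)⟩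
    have hDu : ∀ (u : G) (hu : u ∈ Y), ∀ d ∈ D0.map (act J),
        MulAut.conj (cls (hYJ hu)) * d * (MulAut.conj (cls (hYJ hu)))⁻¹ ∈ D0.map (act J) := by
      rintro u hu _ ⟨⟨y, hy⟩, hy1, rfl⟩
      rw [← act_mem (hYJ hu) (hJN (hYJ hu)), ← map_inv, ← map_mul, ← map_mul]
      refine ⟨_, (hmem _).mpr ⟨?_, ?_⟩, rfl⟩
      · exact conj_core (hYc u hu).1 ((hmem _).mp hy1).1
      · exact mul_mem (mul_mem (hYc u hu).2 ((hmem _).mp hy1).2) (inv_mem (hYc u hu).2)
    have hsq : ∀ (u : G) (hu : u ∈ Y), u * u = 1 → cls (hYJ hu) * cls (hYJ hu) = 1 := by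
      intro u hu h
      rw [← cls_mul]
      have : ∀ (a : G) (ha : a ∈ J), a = 1 → cls ha = 1 := by
        rintro a ha rfl; rfl
      exact this _ _ h
    have hbot := SmallLThreeModel.eq_bot A hα2 hout hodd hDα (v := cls (hYJ hv)) (w := cls (hYJ hw))
      (hne v hv hv1 hv2) (hne w hw hw1 hw2) (by
        intro h
        have hvw' : v * w ∈ Y := mul_mem hv hw
        refine hne (v * w) hvw' ?_ ?_ ?_
        · intro h1
          apply hvw
          have h3 : v⁻¹ = v := inv_eq_of_mul_eq_one_left hv2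
          rw [mul_eq_one_iff_inv_eq, h3] at h1
          exact h1
        · calc v * w * (v * w) = v * (w * v) * w := by group
            _ = (v * v) * (w * w) := by rw [← hc]; group
            _ = 1 := by rw [hv2, hw2, one_mul]
        · rw [cls_mul (hYJ hv) (hYJ hw), h]
          exact hsq w hw hw2) (hsq v hv hv2) (hsq w hw hw2) (by
        rw [← cls_mul, ← cls_mul]
        congr 2) (hfix v (hYJ hv) (hYx v hv)) (hfix w (hYJ hw) (hYx w hw))
      (hDu v hv) (hDu w hw)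
    obtain ⟨d, hd, hdf, hnf⟩ := T.bad
    have hdN := T.mem_normalizer_of_core hd hdf
    apply hnf
    apply fixes_of_act hJ hdN
    have h1 : act J ⟨d, hdN⟩ ∈ D0.map (act J) := ⟨_, (hmem _).mpr ⟨hd, hdf⟩, rfl⟩
    rw [hbot, mem_bot] at h1
    exact h1

/-- **The `L3(4)` part of `Hyp.small`.** -/
theorem small_of_l34 {x f : G} {J : Subgroup G} (T : IsTriple x f J)
    (h34 : IsL34 (Bar J ⧸ center (Bar J))) :
    ∀ {t : G}, t ∈ centralizer ({f} : Set G) → t ∈ normalizer (J : Set G) → t * t = 1 →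
      ∀ {E : Subgroup G}, IsComp (J ⊓ centralizer ({t} : Set G)) E → ∀ {k : ℕ}, 5 ≤ k → AltType E k →
        Fixes x E → ∀ {U : Subgroup G}, U ≤ centralizer ({f} : Set G) → (∀ u ∈ U, u * u = 1) →
          Nat.card U = 4 → (∀ u ∈ U, u ∈ normalizer (J : Set G) ∧ u * t = t * u ∧ u * x = x * u ∧ Fixes u E) →
            ∃ u ∈ U, u ≠ 1 ∧ Fixes u J :=
  fun {_} _ _ _ {_} hE {_} hk hA hf {_} _ _ _ _ =>
    (false_of_l34 T h34 hE (hE.le.trans inf_le_left) hk hA hf).elim

end Cfsg.Agent.UAlt.SmallLThree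
end

-- part: UGT/Q2/FactsA7
section
set_option linter.all false
open scoped Cfsg.Agent.FastGrp

/-!
# UGT, inner `L₂(q)`, `|Q| = 2`: facts on involutions of `Sym(7)`

`S` a set of seven points, `σ ∈ sym S`, `σ² = 1 ≠ σ`, `P ≤ sym S` a perfect group `≠ 1` commuting with `σ`.

* `swap_of_perfect` : `σ = (i j)`, and `P` fixes `i` and `j`.
* `no_two` : if `ζ ∈ P` is an involution, no perfect group `≠ 1` commutes with `σ ζ`.
* `mod_swap`, `mod_no_two` : the same for a labelling of `K / O(K) ≅ A₇`.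
-/

set_option autoImplicit false

open Cfsg Equiv Equiv.Perm Subgroup
open Cfsg.Agent.UAlt
open Cfsg.Agent.Intrinsic.Basic
open scoped commutatorElement

namespace Cfsg.Agent.UGT.Q2.FactsA7

section perm

variable {α : Type*} [Fintype α] [DecidableEq α] {S : Finset α}

/-- an involution commuting with a perfect group is a transposition of two fixed points of the group -/
theorem swap_of_perfect (h7 : S.card = 7) {σ : Perm α} (hσS : σ ∈ sym S) (hσ : σ * σ = 1)
    (hσ1 : σ ≠ 1) {P : Subgroup (Perm α)} (hPS : P ≤ sym S) (hc : ∀ p ∈ P, p * σ = σ * p)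
    (hp : ⁅P, P⁆ = P) (hne : P ≠ ⊥) :
    ∃ i j, i ≠ j ∧ σ = swap i j ∧ ∀ p ∈ P, p i = i ∧ p j = j := by
  have h5 : 5 ≤ (fixIn S σ).card := by
    by_contra h4
    have hs := HeKill.isSolvable_cent hσS hσ (by omega) (by omega)
    have hle : P ≤ sym S ⊓ centralizer ({σ} : Set (Perm α)) :=
      le_inf hPS fun p hpP => mem_centralizer_singleton_iff.mpr (hc p hpP)
    apply hne
    rw [eq_bot_iff]
    intro p hpP
    have h1 := Cfsg.Agent.Schreier.Tools.hom_eq_one hp (inclusion hle) ⟨p, hpP⟩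
    exact mem_bot.mpr (congrArg Subtype.val h1)
  have hsupp : σ.support ⊆ S \ fixIn S σ := by
    intro x hx
    rw [Perm.mem_support] at hx
    rw [Finset.mem_sdiff, mem_fixIn]
    refine ⟨?_, fun h => hx h.2⟩
    by_contra hxS
    exact hx (hσS x hxS)
  have h6 : (S \ fixIn S σ).card ≤ 2 := by
    rw [Finset.card_sdiff_of_subset (fixIn_subset S σ)]
    omega
  have h8 := Finset.card_le_card hsupp
  have h9 : σ.support.card ≠ 0 := by
    rw [Ne, Finset.card_eq_zero, Perm.support_eq_empty_iff]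
    exact hσ1
  have h10 := PermPK.even_card_support hσ
  have h11 : σ.support.card = 2 := by
    obtain ⟨k, hk⟩ := h10
    omega
  obtain ⟨i, j, hij, hs⟩ := card_support_eq_two.1 h11
  have hσi : σ i = j := by rw [hs, swap_apply_left]
  have hσj : σ j = i := by rw [hs, swap_apply_right]
  have hmove : ∀ x, σ x ≠ x → x = i ∨ x = j := by
    intro x hx
    by_contra hcon
    push Not at hcon
    exact hx (by rw [hs, swap_apply_of_ne_of_ne hcon.1 hcon.2])
  have key : ∀ p ∈ P, (p i = i ∧ p j = j) ∨ (p i = j ∧ p j = i) := by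
    intro p hpP
    have h1 : ∀ x, σ (p x) = p (σ x) := fun x => (DFunLike.congr_fun (hc p hpP) x).symm
    have h2 := h1 i
    have h3 := h1 j
    rw [hσi] at h2
    rw [hσj] at h3
    have h4 : p i = i ∨ p i = j := hmove _ (by rw [h2]; exact fun h => hij (p.injective h).symm)
    rcases h4 with h4 | h4
    · exact Or.inl ⟨h4, by rw [← h2, h4, hσi]⟩
    · exact Or.inr ⟨h4, by rw [← h2, h4, hσj]⟩
  let Z : Subgroup (Perm α) :=
    { carrier := {p | p i = i ∧ p j = j}
      one_mem' := ⟨rfl, rfl⟩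
      mul_mem' := by
        rintro a b ⟨ha, ha'⟩ ⟨hb, hb'⟩
        exact ⟨by rw [Perm.mul_apply, hb, ha], by rw [Perm.mul_apply, hb', ha']⟩
      inv_mem' := by
        rintro a ⟨ha, ha'⟩
        exact ⟨by rw [Perm.inv_eq_iff_eq, ha], by rw [Perm.inv_eq_iff_eq, ha']⟩ }
  have hZ : P ≤ Z := by
    rw [← hp, commutator_le]
    intro p hpP q hqP
    have hpi := key _ (inv_mem hpP)
    have hqi := key _ (inv_mem hqP)
    change ⁅p, q⁆ i = i ∧ ⁅p, q⁆ j = j
    have e : ∀ x, ⁅p, q⁆ x = p (q (p⁻¹ (q⁻¹ x))) := fun x => rfl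
    rw [e, e]
    have cp : ∀ x, p (p⁻¹ x) = x := fun x => p.apply_symm_apply x
    have cq : ∀ x, q (q⁻¹ x) = x := fun x => q.apply_symm_apply x
    rcases hpi with ⟨h1, h2⟩ | ⟨h1, h2⟩ <;> rcases hqi with ⟨h3, h4⟩ | ⟨h3, h4⟩ <;>
      (have a1 := cp i; have a2 := cp j; have a3 := cq i; have a4 := cq j
       rw [h1] at a1; rw [h2] at a2; rw [h3] at a3; rw [h4] at a4)
    · rw [h3, h4, h1, h2, a3, a4, a1, a2]; exact ⟨rfl, rfl⟩
    · rw [h3, h4, h1, h2, a3, a4, a1, a2]; exact ⟨rfl, rfl⟩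
    · rw [h3, h4, h1, h2, a3, a4, a1, a2]; exact ⟨rfl, rfl⟩
    · rw [h3, h4, h1, h2, a3, a4, a1, a2]; exact ⟨rfl, rfl⟩
  exact ⟨i, j, hij, hs, hZ⟩

/-- not both `σ` and `σ ζ`, `ζ ∈ P`, commute with perfect groups -/
theorem no_two (h7 : S.card = 7) {σ : Perm α} (hσS : σ ∈ sym S) (hσ : σ * σ = 1)
    (hσ1 : σ ≠ 1) {P : Subgroup (Perm α)} (hPS : P ≤ sym S) (hc : ∀ p ∈ P, p * σ = σ * p)
    (hp : ⁅P, P⁆ = P) {ζ : Perm α} (hζ : ζ ∈ P) (hζ1 : ζ ≠ 1) (hζζ : ζ * ζ = 1)
    {Q : Subgroup (Perm α)} (hQS : Q ≤ sym S) (hcQ : ∀ p ∈ Q, p * (σ * ζ) = σ * ζ * p)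
    (hQ : ⁅Q, Q⁆ = Q) (hQne : Q ≠ ⊥) : False := by
  have hne : P ≠ ⊥ := fun h => hζ1 (mem_bot.mp (h ▸ hζ))
  obtain ⟨i, j, hij, hs, hfix⟩ := swap_of_perfect h7 hσS hσ hσ1 hPS hc hp hne
  have hσi : σ i = j := by rw [hs, swap_apply_left]
  have hσj : σ j = i := by rw [hs, swap_apply_right]
  have h1 : σ * ζ ≠ 1 := by
    intro h
    have h2 := DFunLike.congr_fun h i
    rw [Perm.mul_apply, (hfix ζ hζ).1, hσi] at h2
    exact hij h2.symm
  have h2 : σ * ζ * (σ * ζ) = 1 := by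
    calc σ * ζ * (σ * ζ) = σ * (ζ * σ) * ζ := by group
      _ = (σ * σ) * (ζ * ζ) := by rw [hc ζ hζ]; group
      _ = 1 := by rw [hσ, hζζ, one_mul]
  obtain ⟨k, l, hkl, hs', -⟩ := swap_of_perfect h7 (mul_mem hσS (hPS hζ)) h2 h1 hQS hcQ hQ hQne
  have hi : (σ * ζ) i = j := by rw [Perm.mul_apply, (hfix ζ hζ).1, hσi]
  have hj : (σ * ζ) j = i := by rw [Perm.mul_apply, (hfix ζ hζ).2, hσj]
  have h3 : i = k ∨ i = l := by
    by_contra hcon
    push Not at hcon
    rw [hs', swap_apply_of_ne_of_ne hcon.1 hcon.2] at hi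
    exact hij hi
  have h4 : σ * ζ = σ := by
    rcases h3 with rfl | rfl
    · rw [hs', swap_apply_left] at hi
      rw [hs', hs, hi]
    · rw [hs', swap_apply_right] at hi
      rw [hs', hs, hi, swap_comm]
  exact hζ1 (by simpa using h4)

end perm

section mod

variable {G : Type*} [Group G] {α : Type*} [Fintype α] [DecidableEq α] {S : Finset α}
  {K : Subgroup G} (M : Mod K S)

/-- the labels of a perfect group form a perfect group -/
theorem exists_image {P : Subgroup G} (hP : P ≤ normalizer (K : Set G)) (hp : ⁅P, P⁆ = P) :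
    ∃ P' : Subgroup (Perm α), (∀ σ, σ ∈ P' ↔ ∃ p ∈ P, M.φ p = σ) ∧ P' ≤ sym S ∧ ⁅P', P'⁆ = P' := by
  let f : ↥P →* Perm α := M.hom.comp (inclusion hP)
  refine ⟨f.range, ?_, ?_, ?_⟩
  · intro σ
    constructor
    · rintro ⟨p, rfl⟩
      exact ⟨p, p.2, rfl⟩
    · rintro ⟨p, hpP, rfl⟩
      exact ⟨⟨p, hpP⟩, rfl⟩
  · rintro _ ⟨p, rfl⟩
    exact M.mem_sym _ (hP p.2)
  · rw [MonoidHom.range_eq_map, ← map_commutator, Cfsg.Agent.Schreier.Tools.top_perfect hp]

theorem mod_swap (h7 : S.card = 7) {a : G} (ha : a ∈ normalizer (K : Set G)) (haa : a * a = 1)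
    (hfa : ¬ Fixes a K) {P : Subgroup G} (hP : P ≤ normalizer (K : Set G))
    (hPa : ∀ p ∈ P, p * a = a * p) (hp : ⁅P, P⁆ = P) (hne : ∃ p ∈ P, ¬ Fixes p K) :
    ∃ i j, i ≠ j ∧ M.φ a = swap i j ∧ ∀ p ∈ P, M.φ p i = i ∧ M.φ p j = j := by
  obtain ⟨P', h1, h2, h3⟩ := exists_image M hP hp
  have h4 : P' ≠ ⊥ := by
    obtain ⟨p, hpP, hpf⟩ := hne
    intro h
    have h5 : M.φ p ∈ P' := (h1 _).2 ⟨p, hpP, rfl⟩
    rw [h, mem_bot, M.fixes_iff (hP hpP)] at h5
    exact hpf h5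
  obtain ⟨i, j, hij, hs, hfix⟩ := swap_of_perfect h7 (M.mem_sym a ha) (M.sq ha haa)
    (fun h => hfa ((M.fixes_iff ha).1 h)) h2 (by
      intro q hq
      obtain ⟨p, hpP, rfl⟩ := (h1 q).1 hq
      exact M.comm (hP hpP) ha (hPa p hpP)) h3 h4
  exact ⟨i, j, hij, hs, fun p hpP => hfix _ ((h1 _).2 ⟨p, hpP, rfl⟩)⟩

include M in
/-- `K / O(K) ≅ A₇`: not both `a` and `b = a z` commute with perfect groups which are not trivial on `K / O(K)`, if
the involution `z` lies in the first one. -/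
theorem mod_no_two (h7 : S.card = 7) {a z : G} (ha : a ∈ normalizer (K : Set G)) (haa : a * a = 1)
    (hfa : ¬ Fixes a K) {P : Subgroup G} (hP : P ≤ normalizer (K : Set G))
    (hPa : ∀ p ∈ P, p * a = a * p) (hp : ⁅P, P⁆ = P) (hz : z ∈ P) (hzz : z * z = 1)
    (hzf : ¬ Fixes z K) {Q : Subgroup G} (hQ : Q ≤ normalizer (K : Set G))
    (hQa : ∀ q ∈ Q, q * (a * z) = a * z * q) (hq : ⁅Q, Q⁆ = Q) (hne : ∃ q ∈ Q, ¬ Fixes q K) :
    False := by
  obtain ⟨P', h1, h2, h3⟩ := exists_image M hP hp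
  obtain ⟨Q', k1, k2, k3⟩ := exists_image M hQ hq
  have k4 : Q' ≠ ⊥ := by
    obtain ⟨p, hpP, hpf⟩ := hne
    intro h
    have h5 : M.φ p ∈ Q' := (k1 _).2 ⟨p, hpP, rfl⟩
    rw [h, mem_bot, M.fixes_iff (hQ hpP)] at h5
    exact hpf h5
  have hzN := hP hz
  refine no_two h7 (M.mem_sym a ha) (M.sq ha haa) (fun h => hfa ((M.fixes_iff ha).1 h)) h2 ?_ h3
    ((h1 (M.φ z)).2 ⟨z, hz, rfl⟩) (fun h => hzf ((M.fixes_iff hzN).1 h)) (M.sq hzN hzz) k2 ?_ k3 k4
  · intro q hq
    obtain ⟨p, hpP, rfl⟩ := (h1 q).1 hq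
    exact M.comm (hP hpP) ha (hPa p hpP)
  · intro q hq
    obtain ⟨p, hpQ, rfl⟩ := (k1 q).1 hq
    rw [← M.mul a z ha hzN]
    exact M.comm (hQ hpQ) (mul_mem ha hzN) (hQa p hpQ)

end mod

end Cfsg.Agent.UGT.Q2.FactsA7
end
end
end
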